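import Mathlib
import Cfsg.Prelude.Def_HallClasses
import Cfsg.Agent.Lib.Perm.PronormalOvergroup
import Cfsg.Agent.Lib.Lead.AltSylow

/-!
Pronormality of the subgroups of odd index: reduction to the normaliser of a Sylow 2-subgroup.
-/

set_option autoImplicit false

open scoped Pointwise

namespace Cfsg.Agent.Classical.OddPronormal

open Cfsg.Agent.Perm.Pronormal

variable {G : Type*} [Group G] [Finite G]

/-- An overgroup of a Sylow subgroup normalised by the Sylow normaliser is pronormal. -/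
theorem isPronormal_of_normalizer_le {p : ℕ} [Fact p.Prime] (S : Sylow p G) {H : Subgroup G}
    (hSH : (S : Subgroup G) ≤ H)
    (hN : Subgroup.normalizer ((S : Subgroup G) : Set G) ≤ Subgroup.normalizer (H : Set G)) :
    Cfsg.IsPronormal H := by
  rw [isPronormal_iff]
  intro g
  obtain ⟨k, hk, he⟩ := sylow_conj_in (p := p) (S : Subgroup G) (A := ⊤) (K := H ⊔ cj g H)
    (hSH.trans le_sup_left) le_top S.2
    (by rw [Subgroup.relIndex_top_right]; exact S.not_dvd_index)
    (g := g) ((cj_le hSH).trans le_sup_right)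
  refine ⟨k, hk, ?_⟩
  have h1 : k⁻¹ * g ∈ Subgroup.normalizer ((S : Subgroup G) : Set G) :=
    cj_eq_self_iff.1 (by rw [← cj_cj, he, cj_cj, inv_mul_cancel, cj_one])
  conv_lhs => rw [show g = k * (k⁻¹ * g) by group, ← cj_cj, cj_eq_self_iff.2 (hN h1)]

/-- If all overgroups of one Sylow 2-subgroup are normalised by its normaliser, every subgroup of
odd index is pronormal. -/
theorem all_of_sylow (S₀ : Sylow 2 G)
    (h : ∀ K : Subgroup G, (S₀ : Subgroup G) ≤ K → Cfsg.IsPronormal K)
    (H : Subgroup G) (hH : Odd H.index) : Cfsg.IsPronormal H := by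
  obtain ⟨T, hT⟩ := Cfsg.Agent.Lead.exists_sylow_two_le_of_odd_index H hH
  obtain ⟨g, rfl⟩ := MulAction.exists_smul_eq G S₀ T
  have h1 : (S₀ : Subgroup G) ≤ cj g⁻¹ H := fun x hx => mem_cj.2 (by
    rw [inv_inv]
    apply hT
    rw [Sylow.coe_subgroup_smul, Subgroup.mem_pointwise_smul_iff_inv_smul_mem, ← map_inv,
      MulAut.smul_def, MulAut.conj_apply, inv_inv]
    simpa [mul_assoc] using hx)
  have h2 := Cfsg.Agent.Perm.Pronormal.map (MulAut.conj g).toMonoidHom
    (MulAut.conj g).surjective (h _ h1)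
  rwa [show (cj g⁻¹ H).map (MulAut.conj g).toMonoidHom = H by
    show cj g (cj g⁻¹ H) = H
    rw [cj_cj, mul_inv_cancel, cj_one]] at h2

/-- Pronormality of all odd-index subgroups passes to quotients. -/
theorem of_surjective {M : Type*} [Group M] (f : G →* M) (hf : Function.Surjective f)
    (h : ∀ H : Subgroup G, Odd H.index → Cfsg.IsPronormal H)
    (H : Subgroup M) (hH : Odd H.index) : Cfsg.IsPronormal H := by
  have h1 := Cfsg.Agent.Perm.Pronormal.map f hf
    (h (H.comap f) (by rwa [Subgroup.index_comap_of_surjective H hf]))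
  rwa [Subgroup.map_comap_eq_self_of_surjective hf] at h1

/-- A self-normalising 2-subgroup is a Sylow 2-subgroup. -/
theorem exists_sylow_of_self_normalizing (S : Subgroup G) (hS : IsPGroup 2 S)
    (h : ∀ g : G, (∀ x ∈ S, g * x * g⁻¹ ∈ S) → g ∈ S) :
    ∃ T : Sylow 2 G, (T : Subgroup G) = S := by
  obtain ⟨T, hT⟩ := hS.exists_le_sylow
  refine ⟨T, le_antisymm ?_ hT⟩
  haveI : Fact (Nat.Prime 2) := ⟨Nat.prime_two⟩
  haveI : Group.IsNilpotent ↥(T : Subgroup G) := T.2.isNilpotent
  by_contra hne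
  have hlt : S.subgroupOf (T : Subgroup G) < ⊤ :=
    lt_top_iff_ne_top.2 fun he => hne (Subgroup.subgroupOf_eq_top.1 he)
  obtain ⟨x, hx, hxn⟩ := SetLike.exists_of_lt
    (normalizerCondition_of_isNilpotent (S.subgroupOf (T : Subgroup G)) hlt)
  refine hxn (h (x : G) fun y hy => ?_)
  have := (Subgroup.mem_normalizer_iff.1 hx ⟨y, hT hy⟩).1 (Subgroup.mem_subgroupOf.2 hy)
  exact this

end Cfsg.Agent.Classical.OddPronormal
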