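import Mathlib
import Cfsg.Agent.Lib.Classical.Pronormal.Basic
import Cfsg.Agent.Lib.Small.PSLn.Sylow
import Cfsg.Agent.Lib.Small.Flags.Bruhat

/-!
Overgroups of the unitriangular group in `SL_n` are normalised by its normaliser.
-/

set_option autoImplicit false

open scoped MatrixGroups

namespace Cfsg.Agent.Classical.OddPronormal

open Matrix Cfsg.Agent.Small.PSLn Cfsg.Agent.Small.Flags

variable {n : ℕ} {F : Type*} [Field F]

local notation "SLn" => Matrix.SpecialLinearGroup (Fin n) F

/-- Nonzero entries only in the positions of `σ`. -/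
def IsMonAt (σ : Equiv.Perm (Fin n)) (A : Matrix (Fin n) (Fin n) F) : Prop :=
  ∀ i j, i ≠ σ j → A i j = 0

theorem IsMonAt.mul {σ τ : Equiv.Perm (Fin n)} {A B : Matrix (Fin n) (Fin n) F}
    (hA : IsMonAt σ A) (hB : IsMonAt τ B) : IsMonAt (σ * τ) (A * B) := by
  intro i j h
  rw [Matrix.mul_apply]
  refine Finset.sum_eq_zero fun k _ => ?_
  by_cases hk : k = τ j
  · rw [hA i k (fun e => h (by rw [e, hk]; rfl)), zero_mul]
  · rw [hB k j hk, mul_zero]

theorem isMonAt_diagonal (d : Fin n → F) : IsMonAt 1 (Matrix.diagonal d) :=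
  fun i j h => Matrix.diagonal_apply_ne _ h

theorem isMonAt_permGLn (σ : Equiv.Perm (Fin n)) :
    IsMonAt σ ((permGLn σ : GL (Fin n) F) : Matrix (Fin n) (Fin n) F) := by
  intro i j h
  have := permGLn_mulVec (F := F) σ (Pi.single j 1) i
  rw [Matrix.mulVec_single_one] at this
  change ((permGLn σ : GL (Fin n) F) : Matrix (Fin n) (Fin n) F) i j = _ at this
  rw [this]
  exact Pi.single_eq_of_ne (fun e => h (by rw [← e]; simp)) _

theorem exists_descent {σ : Equiv.Perm (Fin n)} (h : σ ≠ 1) :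
    ∃ a b : Fin n, (a : ℕ) + 1 = b ∧ σ b < σ a := by
  by_contra hh
  push Not at hh
  apply h
  have key : ∀ (k : ℕ) (a b : Fin n), (b : ℕ) = a + k + 1 → σ a < σ b := by
    intro k
    induction k with
    | zero =>
      intro a b hb
      refine lt_of_le_of_ne (hh a b (by omega)) (fun e => ?_)
      have := σ.injective e
      omega
    | succ k ih =>
      intro a b hb
      have h1 := ih a ⟨(b : ℕ) - 1, by omega⟩ (by simp; omega)
      exact h1.trans_le (hh ⟨(b : ℕ) - 1, by omega⟩ b (by simp; omega))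
  have hmono : StrictMono σ := fun a b hab =>
    key ((b : ℕ) - a - 1) a b (by have : (a : ℕ) < b := hab; omega)
  exact Equiv.ext fun i => congrFun hmono.eq_id i

theorem weight_le (σ : Equiv.Perm (Fin n)) : ∑ i : Fin n, (i : ℕ) * (σ i : ℕ) ≤ n * (n * n) := by
  calc ∑ i : Fin n, (i : ℕ) * (σ i : ℕ) ≤ ∑ _i : Fin n, n * n :=
        Finset.sum_le_sum fun i _ => Nat.mul_le_mul i.2.le (σ i).2.le
    _ = n * (n * n) := by simp

theorem weight_lt {σ : Equiv.Perm (Fin n)} {a b : Fin n} (hab : (a : ℕ) + 1 = b)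
    (h : σ b < σ a) :
    ∑ i : Fin n, (i : ℕ) * (σ i : ℕ) <
      ∑ i : Fin n, (i : ℕ) * ((Equiv.swap (σ b) (σ a) * σ) i : ℕ) := by
  classical
  have hne : a ≠ b := fun e => by rw [e] at hab; omega
  have hrest : ∀ i ∈ (Finset.univ \ {a, b} : Finset (Fin n)),
      (Equiv.swap (σ b) (σ a) * σ) i = σ i := by
    intro i hi
    simp only [Finset.mem_sdiff, Finset.mem_univ, Finset.mem_insert, Finset.mem_singleton,
      true_and, not_or] at hi
    exact Equiv.swap_apply_of_ne_of_ne (fun e => hi.2 (σ.injective e))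
      (fun e => hi.1 (σ.injective e))
  rw [← Finset.sum_sdiff (Finset.subset_univ ({a, b} : Finset (Fin n))),
    ← Finset.sum_sdiff (Finset.subset_univ ({a, b} : Finset (Fin n))),
    Finset.sum_congr (g := fun i : Fin n =>
      (i : ℕ) * ((Equiv.swap (σ b) (σ a) * σ) i : ℕ)) rfl fun i hi => by
        show (i : ℕ) * (σ i : ℕ) = (i : ℕ) * ((Equiv.swap (σ b) (σ a) * σ) i : ℕ)
        rw [hrest i hi]]
  apply Nat.add_lt_add_left
  rw [Finset.sum_pair hne, Finset.sum_pair hne]
  simp only [Equiv.Perm.mul_apply, Equiv.swap_apply_left, Equiv.swap_apply_right]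
  have h' : (σ b : ℕ) < σ a := h
  rw [← hab]
  nlinarith

theorem transvection_val {i j : Fin n} (hij : i ≠ j) (t : F) :
    (Matrix.SpecialLinearGroup.transvection hij t : SLn).1 = 1 + Matrix.single i j t := by
  rw [Matrix.SpecialLinearGroup.transvection_coe]

variable [Fintype F]

theorem transvection_mem_UTg {i j : Fin n} (hij : i < j) (t : F) :
    (Matrix.SpecialLinearGroup.transvection (ne_of_lt hij) t : SLn) ∈ UTg n F := by
  refine ⟨fun k => ?_, fun k l hlk => ?_⟩ <;> rw [transvection_val, Matrix.add_apply]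
  · rw [Matrix.one_apply_eq, Matrix.single_apply, if_neg fun e => ne_of_lt hij (e.1.trans e.2.symm),
      add_zero]
  · rw [Matrix.one_apply_ne (ne_of_gt hlk), Matrix.single_apply, if_neg fun e => ?_, add_zero]
    rw [← e.1, ← e.2] at hlk
    exact lt_asymm hij hlk

theorem diag_ne_zero {d : Fin n → F} {D : SLn} (hD : D.1 = Matrix.diagonal d) (i : Fin n) :
    d i ≠ 0 := by
  have := D.2
  rw [hD, Matrix.det_diagonal] at this
  exact fun h0 => one_ne_zero (this.symm.trans (Finset.prod_eq_zero (Finset.mem_univ i) h0))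

/-- Conjugating a transvection by a monomial matrix. -/
theorem mon_transvection {σ : Equiv.Perm (Fin n)} {M : SLn} (hM : IsMonAt σ M.1) {a b : Fin n}
    (hab : a ≠ b) (t : F) :
    ∃ hs : σ a ≠ σ b, M * Matrix.SpecialLinearGroup.transvection hab t =
      Matrix.SpecialLinearGroup.transvection hs (t * M.1 (σ a) a / M.1 (σ b) b) * M := by
  refine ⟨fun e => hab (σ.injective e), Subtype.ext ?_⟩
  have hb : M.1 (σ b) b ≠ 0 := by
    intro h0
    have : M.1.det = 0 := Matrix.det_eq_zero_of_column_eq_zero b fun i => by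
      by_cases hi : i = σ b
      · rw [hi, h0]
      · exact hM i b hi
    rw [M.2] at this
    exact one_ne_zero this
  rw [Matrix.SpecialLinearGroup.coe_mul, Matrix.SpecialLinearGroup.coe_mul, transvection_val,
    transvection_val, Matrix.mul_add, Matrix.mul_one, Matrix.add_mul, Matrix.one_mul]
  congr 1
  ext i j
  by_cases hj : j = b
  · subst hj
    rw [Matrix.mul_single_apply_same]
    by_cases hi : i = σ a
    · subst hi
      rw [Matrix.single_mul_apply_same]
      field_simp
    · rw [hM i a hi, zero_mul, Matrix.single_mul_apply_of_ne _ _ _ _ _ hi]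
  · rw [Matrix.mul_single_apply_of_ne _ _ _ _ _ hj]
    by_cases hi : i = σ a
    · subst hi
      rw [Matrix.single_mul_apply_same, hM (σ b) j (fun e => hj (σ.injective e).symm), mul_zero]
    · rw [Matrix.single_mul_apply_of_ne _ _ _ _ _ hi]

/-- Diagonal matrices normalise every overgroup of the unitriangular group. -/
theorem diag_conj_mon {K : Subgroup SLn} (hK : UTg n F ≤ K) {D : SLn} {d : Fin n → F}
    (hD : D.1 = Matrix.diagonal d) :
    ∀ (k : ℕ) (σ : Equiv.Perm (Fin n)) (M : SLn),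
      n * (n * n) - ∑ i : Fin n, (i : ℕ) * (σ i : ℕ) ≤ k → IsMonAt σ M.1 → M ∈ K →
        D * M * D⁻¹ ∈ K := by
  intro k
  induction k with
  | zero =>
    intro σ M hk hM hMK
    by_cases hσ : σ = 1
    · subst hσ
      suffices h : D * M = M * D by rw [h, mul_inv_cancel_right]; exact hMK
      refine Subtype.ext ?_
      rw [Matrix.SpecialLinearGroup.coe_mul, Matrix.SpecialLinearGroup.coe_mul, hD]
      ext i j
      rw [Matrix.diagonal_mul, Matrix.mul_diagonal]
      by_cases hij : i = j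
      · subst hij; ring
      · rw [hM i j (by simpa using hij)]; ring
    · obtain ⟨a, b, hab, hlt⟩ := exists_descent hσ
      have := weight_lt hab hlt
      have := weight_le (Equiv.swap (σ b) (σ a) * σ)
      omega
  | succ k ih =>
    intro σ M hk hM hMK
    by_cases hσ : σ = 1
    · subst hσ
      suffices h : D * M = M * D by rw [h, mul_inv_cancel_right]; exact hMK
      refine Subtype.ext ?_
      rw [Matrix.SpecialLinearGroup.coe_mul, Matrix.SpecialLinearGroup.coe_mul, hD]
      ext i j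
      rw [Matrix.diagonal_mul, Matrix.mul_diagonal]
      by_cases hij : i = j
      · subst hij; ring
      · rw [hM i j (by simpa using hij)]; ring
    obtain ⟨a, b, hab, hlt⟩ := exists_descent hσ
    have hablt : a < b := by show (a : ℕ) < b; omega
    obtain ⟨x, hx⟩ : ∃ x, x = σ b := ⟨_, rfl⟩
    obtain ⟨y, hy⟩ : ∃ y, y = σ a := ⟨_, rfl⟩
    have hxy : x < y := by rw [hx, hy]; exact hlt
    -- both root groups of the pair lie in `K`
    have hyx : ∀ t : F, (Matrix.SpecialLinearGroup.transvection (ne_of_gt hxy) t : SLn) ∈ K := by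
      intro t
      have hne : ∀ c, M.1 (σ c) c ≠ 0 := by
        intro c h0
        have : M.1.det = 0 := Matrix.det_eq_zero_of_column_eq_zero c fun i => by
          by_cases hi : i = σ c
          · rw [hi, h0]
          · exact hM i c hi
        rw [M.2] at this
        exact one_ne_zero this
      obtain ⟨hs, he⟩ := mon_transvection hM (ne_of_lt hablt) (t * M.1 (σ b) b / M.1 (σ a) a)
      have h1 : M * Matrix.SpecialLinearGroup.transvection (ne_of_lt hablt)
          (t * M.1 (σ b) b / M.1 (σ a) a) * M⁻¹ ∈ K :=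
        K.mul_mem (K.mul_mem hMK (hK (transvection_mem_UTg hablt _))) (K.inv_mem hMK)
      rw [he, mul_inv_cancel_right, div_mul_cancel₀ _ (hne a),
        mul_div_cancel_right₀ _ (hne b)] at h1
      convert h1 using 2
    have hxyK : ∀ t : F, (Matrix.SpecialLinearGroup.transvection (ne_of_lt hxy) t : SLn) ∈ K :=
      fun t => hK (transvection_mem_UTg hxy t)
    obtain ⟨N, hN⟩ : ∃ N : SLn, N = Matrix.SpecialLinearGroup.transvection (ne_of_lt hxy) (1 : F) *
        Matrix.SpecialLinearGroup.transvection (ne_of_gt hxy) (-1) *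
        Matrix.SpecialLinearGroup.transvection (ne_of_lt hxy) 1 := ⟨_, rfl⟩
    have hNK : N ∈ K := hN ▸ K.mul_mem (K.mul_mem (hxyK _) (hyx _)) (hxyK _)
    have hNm : IsMonAt (Equiv.swap x y) N.1 := by
      intro i j hij
      rw [hN, Matrix.SpecialLinearGroup.coe_mul, Matrix.SpecialLinearGroup.coe_mul,
        transvection_val, transvection_val]
      simp only [Matrix.add_mul, Matrix.mul_add, Matrix.one_mul, Matrix.mul_one,
        Matrix.single_mul_single_same, Matrix.single_mul_single_of_ne _ _ _ _ (ne_of_lt hxy),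
        Matrix.single_mul_single_of_ne _ _ _ _ (ne_of_gt hxy), add_zero, zero_add, one_mul,
        mul_one, Matrix.zero_mul, Matrix.mul_zero]
      simp only [Matrix.add_apply, Matrix.one_apply, Matrix.single_apply]
      rcases eq_or_ne j x with rfl | hjx
      · rw [Equiv.swap_apply_left] at hij
        rcases eq_or_ne i j with rfl | h
        · simp [ne_of_lt hxy, (ne_of_lt hxy).symm]
        · simp [h, h.symm, hij, hij.symm, ne_of_lt hxy, (ne_of_lt hxy).symm]
      · rcases eq_or_ne j y with rfl | hjy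
        · rw [Equiv.swap_apply_right] at hij
          rcases eq_or_ne i j with rfl | h
          · simp [ne_of_lt hxy, (ne_of_lt hxy).symm]
          · simp [h, h.symm, hij, hij.symm, ne_of_lt hxy, (ne_of_lt hxy).symm]
        · rw [Equiv.swap_apply_of_ne_of_ne hjx hjy] at hij
          simp [hij, hjx.symm, hjy.symm]
    have hDT : ∀ {i j : Fin n} (hij : i ≠ j) (t : F),
        D * Matrix.SpecialLinearGroup.transvection hij t * D⁻¹ =
          Matrix.SpecialLinearGroup.transvection hij (t * d i / d j) := by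
      intro i j hij t
      obtain ⟨hs, he⟩ := mon_transvection (σ := (1 : Equiv.Perm (Fin n))) (M := D)
        (hD ▸ isMonAt_diagonal d) hij t
      rw [he, mul_inv_cancel_right]
      simp [hD, Matrix.diagonal_apply_eq]
    have hDN : D * N * D⁻¹ ∈ K := by
      rw [hN, ← conj_mul, ← conj_mul, hDT, hDT]
      exact K.mul_mem (K.mul_mem (hxyK _) (hyx _)) (hxyK _)
    have hrec := ih (Equiv.swap x y * σ) (N * M)
      (by
        have := weight_lt hab hlt
        rw [← hx, ← hy] at this
        omega)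
      (by rw [Matrix.SpecialLinearGroup.coe_mul]; exact hNm.mul hM) (K.mul_mem hNK hMK)
    have hfin : D * M * D⁻¹ = (D * N * D⁻¹)⁻¹ * (D * (N * M) * D⁻¹) := by group
    rw [hfin]
    exact K.mul_mem (K.inv_mem hDN) hrec

theorem upper_iff {b : GL (Fin n) F} :
    b ∈ upperTriangularGL n F ↔ ∀ i j, j < i → (b : Matrix (Fin n) (Fin n) F) i j = 0 :=
  ⟨fun h i j hij => h hij, fun h i j hij => h i j hij⟩

theorem upper_diag_ne_zero {b : GL (Fin n) F} (hb : b ∈ upperTriangularGL n F) (i : Fin n) :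
    (b : Matrix (Fin n) (Fin n) F) i i ≠ 0 := by
  have h := b.det_ne_zero
  rw [Matrix.det_of_upperTriangular hb] at h
  exact (Finset.prod_ne_zero_iff.1 h) i (Finset.mem_univ _)

theorem diag_mul_inv_isUT {b : GL (Fin n) F} (hb : b ∈ upperTriangularGL n F) :
    IsUT ((b : Matrix (Fin n) (Fin n) F) *
      Matrix.diagonal fun i => ((b : Matrix (Fin n) (Fin n) F) i i)⁻¹) :=
  ⟨fun i => by rw [Matrix.mul_diagonal, mul_inv_cancel₀ (upper_diag_ne_zero hb i)],
    fun i j hij => by rw [Matrix.mul_diagonal, upper_iff.1 hb i j hij, zero_mul]⟩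

theorem inv_diag_mul_isUT {b : GL (Fin n) F} (hb : b ∈ upperTriangularGL n F) :
    IsUT ((Matrix.diagonal fun i => ((b : Matrix (Fin n) (Fin n) F) i i)⁻¹) *
      (b : Matrix (Fin n) (Fin n) F)) :=
  ⟨fun i => by rw [Matrix.diagonal_mul, inv_mul_cancel₀ (upper_diag_ne_zero hb i)],
    fun i j hij => by rw [Matrix.diagonal_mul, upper_iff.1 hb i j hij, mul_zero]⟩

theorem det_of_isUT {A : Matrix (Fin n) (Fin n) F} (h : IsUT A) : A.det = 1 := by
  rw [Matrix.det_of_upperTriangular (fun i j hij => h.2 i j hij)]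
  exact Finset.prod_eq_one fun i _ => h.1 i

theorem diag_conj_UTg {D : SLn} {d : Fin n → F} (hD : D.1 = Matrix.diagonal d) {u : SLn}
    (hu : u ∈ UTg n F) : D * u * D⁻¹ ∈ UTg n F := by
  have hinv : (D⁻¹ : SLn).1 = Matrix.diagonal fun i => (d i)⁻¹ := by
    have h1 : D.1 * (D⁻¹ : SLn).1 = 1 := by
      rw [← Matrix.SpecialLinearGroup.coe_mul, mul_inv_cancel]; rfl
    have h2 : (Matrix.diagonal fun i => (d i)⁻¹) * D.1 = 1 := by
      rw [hD, Matrix.diagonal_mul_diagonal, ← Matrix.diagonal_one]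
      exact congrArg Matrix.diagonal (funext fun i => inv_mul_cancel₀ (diag_ne_zero hD i))
    exact (left_inv_eq_right_inv h2 h1).symm
  refine ⟨fun i => ?_, fun i j hij => ?_⟩ <;>
    rw [Matrix.SpecialLinearGroup.coe_mul, Matrix.SpecialLinearGroup.coe_mul, hinv, hD,
      Matrix.mul_diagonal, Matrix.diagonal_mul]
  · rw [hu.1, mul_one, mul_inv_cancel₀ (diag_ne_zero hD i)]
  · rw [hu.2 i j hij, mul_zero, zero_mul]

theorem diag_conj_mem {K : Subgroup SLn} (hK : UTg n F ≤ K) {D : SLn} {d : Fin n → F}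
    (hD : D.1 = Matrix.diagonal d) {k : SLn} (hk : k ∈ K) : D * k * D⁻¹ ∈ K := by
  obtain ⟨σ, b, c, hb, hc, he⟩ := bruhat (Matrix.SpecialLinearGroup.toGL k)
  obtain ⟨u₁, hu₁⟩ : ∃ u : SLn, u.1 = (b : Matrix (Fin n) (Fin n) F) *
      Matrix.diagonal fun i => ((b : Matrix (Fin n) (Fin n) F) i i)⁻¹ :=
    ⟨⟨_, det_of_isUT (diag_mul_inv_isUT hb)⟩, rfl⟩
  obtain ⟨u₂, hu₂⟩ : ∃ u : SLn, u.1 = (Matrix.diagonal fun i =>
      ((c : Matrix (Fin n) (Fin n) F) i i)⁻¹) * (c : Matrix (Fin n) (Fin n) F) :=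
    ⟨⟨_, det_of_isUT (inv_diag_mul_isUT hc)⟩, rfl⟩
  have hu₁m : u₁ ∈ UTg n F := by rw [mem_UTg, hu₁]; exact diag_mul_inv_isUT hb
  have hu₂m : u₂ ∈ UTg n F := by rw [mem_UTg, hu₂]; exact inv_diag_mul_isUT hc
  have hM : IsMonAt σ (u₁⁻¹ * k * u₂⁻¹).1 := by
    obtain ⟨db, hdb⟩ : ∃ db : Fin n → F, db = fun i => (b : Matrix (Fin n) (Fin n) F) i i :=
      ⟨_, rfl⟩
    obtain ⟨dc, hdc⟩ : ∃ dc : Fin n → F, dc = fun i => (c : Matrix (Fin n) (Fin n) F) i i :=
      ⟨_, rfl⟩
    have hb' : (b : Matrix (Fin n) (Fin n) F) = u₁.1 * Matrix.diagonal db := by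
      rw [hu₁, Matrix.mul_assoc, Matrix.diagonal_mul_diagonal, hdb]
      conv_lhs => rw [← Matrix.mul_one (b : Matrix (Fin n) (Fin n) F), ← Matrix.diagonal_one]
      exact congrArg _ (congrArg Matrix.diagonal
        (funext fun i => (inv_mul_cancel₀ (upper_diag_ne_zero hb i)).symm))
    have hc' : (c : Matrix (Fin n) (Fin n) F) = Matrix.diagonal dc * u₂.1 := by
      rw [hu₂, ← Matrix.mul_assoc, Matrix.diagonal_mul_diagonal, hdc]
      conv_lhs => rw [← Matrix.one_mul (c : Matrix (Fin n) (Fin n) F), ← Matrix.diagonal_one]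
      exact congrArg (· * _) (congrArg Matrix.diagonal
        (funext fun i => (mul_inv_cancel₀ (upper_diag_ne_zero hc i)).symm))
    have hk' : k.1 = u₁.1 * (Matrix.diagonal db * (permGLn σ : GL (Fin n) F).1 *
        Matrix.diagonal dc) * u₂.1 := by
      have := congrArg Units.val he
      rw [Units.val_mul, Units.val_mul, hb', hc'] at this
      simp only [Matrix.mul_assoc] at this ⊢
      exact this
    have h1 : (u₁⁻¹ : SLn).1 * u₁.1 = 1 := by
      rw [← Matrix.SpecialLinearGroup.coe_mul, inv_mul_cancel]; rfl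
    have h2 : u₂.1 * (u₂⁻¹ : SLn).1 = 1 := by
      rw [← Matrix.SpecialLinearGroup.coe_mul, mul_inv_cancel]; rfl
    have hM' : (u₁⁻¹ * k * u₂⁻¹).1 =
        Matrix.diagonal db * (permGLn σ : GL (Fin n) F).1 * Matrix.diagonal dc := by
      rw [Matrix.SpecialLinearGroup.coe_mul, Matrix.SpecialLinearGroup.coe_mul, hk',
        Matrix.mul_assoc _ _ (u₂⁻¹ : SLn).1, Matrix.mul_assoc _ u₂.1, h2, Matrix.mul_one,
        ← Matrix.mul_assoc _ u₁.1, h1, Matrix.one_mul]
    rw [hM']
    have := ((isMonAt_diagonal db).mul (isMonAt_permGLn (F := F) σ)).mul (isMonAt_diagonal dc)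
    rwa [one_mul, mul_one] at this
  have hMK := diag_conj_mon hK hD _ σ _ le_rfl hM
    (K.mul_mem (K.mul_mem (K.inv_mem (hK hu₁m)) hk) (K.inv_mem (hK hu₂m)))
  have : D * k * D⁻¹ = (D * u₁ * D⁻¹) * (D * (u₁⁻¹ * k * u₂⁻¹) * D⁻¹) * (D * u₂ * D⁻¹) := by
    group
  rw [this]
  exact K.mul_mem (K.mul_mem (hK (diag_conj_UTg hD hu₁m)) hMK) (hK (diag_conj_UTg hD hu₂m))

/-- The normaliser of the unitriangular group is upper triangular. -/
theorem normalizer_upper {g : SLn} (hg : ∀ x ∈ UTg n F, g * x * g⁻¹ ∈ UTg n F) :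
    ∀ i j, j < i → g.1 i j = 0 := by
  obtain ⟨σ, b, c, hb, hc, he⟩ := bruhat (Matrix.SpecialLinearGroup.toGL g)
  have hσ : σ = 1 := by
    by_contra hne
    obtain ⟨x, y, hxy, hlt⟩ := exists_descent hne
    have hxy' : x < y := by show (x : ℕ) < y; omega
    let T : GL (Fin n) F := Matrix.SpecialLinearGroup.toGL
      (Matrix.SpecialLinearGroup.transvection (ne_of_lt hxy') (1 : F))
    let P : GL (Fin n) F := permGLn σ
    have hT : T ∈ upperTriangularGL n F :=
      upper_iff.2 fun i j hij => (transvection_mem_UTg hxy' (1 : F)).2 i j hij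
    -- conjugate `c⁻¹ T c` by `g`
    obtain ⟨w, hw⟩ : ∃ w : SLn, Matrix.SpecialLinearGroup.toGL w = c⁻¹ * T * c :=
      ⟨⟨(c⁻¹ * T * c : GL (Fin n) F).1, by
        rw [Units.val_mul, Units.val_mul, Matrix.det_mul, Matrix.det_mul, mul_right_comm,
          ← Matrix.det_mul, ← Units.val_mul, inv_mul_cancel, Units.val_one, Matrix.det_one,
          one_mul]
        exact (Matrix.SpecialLinearGroup.transvection (ne_of_lt hxy') (1 : F)).2⟩, Units.ext rfl⟩
    have hwu : w ∈ UTg n F := by
      have hwup : c⁻¹ * T * c ∈ upperTriangularGL n F :=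
        mul_mem (mul_mem (inv_mem hc) hT) hc
      refine ⟨fun i => ?_, fun i j hij => ?_⟩
      · have h1 := congrArg Units.val (show c * (c⁻¹ * T * c) = T * c by group)
        change c.1 * (c⁻¹ * T * c : GL (Fin n) F).1 = T.1 * c.1 at h1
        have h2 := congrFun (congrFun h1 i) i
        rw [Matrix.mul_apply, Matrix.mul_apply, Finset.sum_eq_single i, Finset.sum_eq_single i] at h2
        · have hw' : (c⁻¹ * T * c : GL (Fin n) F).1 i i = w.1 i i := by rw [← hw]; rfl
          rw [hw', show T.1 i i = 1 from (transvection_mem_UTg hxy' (1 : F)).1 i, one_mul] at h2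
          exact mul_left_cancel₀ (upper_diag_ne_zero hc i) (h2.trans (mul_one _).symm)
        · intro k _ hk
          rcases lt_or_gt_of_ne hk with h | h
          · rw [upper_iff.1 hT i k h, zero_mul]
          · rw [upper_iff.1 hc k i h, mul_zero]
        · simp
        · intro k _ hk
          rcases lt_or_gt_of_ne hk with h | h
          · rw [upper_iff.1 hc i k h, zero_mul]
          · rw [upper_iff.1 hwup k i h, mul_zero]
        · simp
      · rw [show w.1 = (c⁻¹ * T * c : GL (Fin n) F).1 by rw [← hw]; rfl]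
        exact upper_iff.1 hwup i j hij
    have hz := hg w hwu
    have hzg : Matrix.SpecialLinearGroup.toGL (g * w * g⁻¹) = b * (P * T * P⁻¹) * b⁻¹ := by
      rw [map_mul, map_mul, map_inv, hw, he]; simp only [P]; group
    have hup : P * T * P⁻¹ ∈ upperTriangularGL n F := by
      have : P * T * P⁻¹ = b⁻¹ * Matrix.SpecialLinearGroup.toGL (g * w * g⁻¹) * b := by
        rw [hzg]; group
      rw [this]
      exact mul_mem (mul_mem (inv_mem hb) (upper_iff.2 fun i j hij => hz.2 i j hij)) hb
    have h1 := congrArg Units.val (show P * T = (P * T * P⁻¹) * P by group)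
    rw [Units.val_mul, Units.val_mul] at h1
    have h2 := congrFun (congrFun h1 (σ x)) y
    have hP : IsMonAt σ P.1 := isMonAt_permGLn σ
    rw [Matrix.mul_apply, Matrix.mul_apply, Finset.sum_eq_single x, Finset.sum_eq_single (σ y)] at h2
    · rw [upper_iff.1 hup (σ x) (σ y) hlt, zero_mul] at h2
      have hT1 : T.1 x y = 1 := by
        show (Matrix.SpecialLinearGroup.transvection (ne_of_lt hxy') (1 : F) : SLn).1 x y = 1
        rw [transvection_val, Matrix.add_apply, Matrix.one_apply_ne (ne_of_lt hxy'),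
          Matrix.single_apply_same, zero_add]
      have hPx : P.1 (σ x) x = 1 := by
        have := permGLn_mulVec (F := F) σ (Pi.single x 1) (σ x)
        rw [Matrix.mulVec_single_one] at this
        simpa using this
      rw [hT1, hPx, one_mul] at h2
      exact one_ne_zero h2
    · intro k _ hk
      rw [hP k y hk, mul_zero]
    · simp
    · intro k _ hk
      rw [hP (σ x) k (fun e => hk (σ.injective e).symm), zero_mul]
    · simp
  intro i j hij
  have hup : Matrix.SpecialLinearGroup.toGL g ∈ upperTriangularGL n F := by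
    rw [he, hσ, map_one, mul_one]; exact mul_mem hb hc
  exact upper_iff.1 hup i j hij

theorem normalizer_le {K : Subgroup SLn} (hK : UTg n F ≤ K) :
    Subgroup.normalizer (UTg n F : Set SLn) ≤ Subgroup.normalizer (K : Set SLn) := by
  intro g hg
  have hu := normalizer_upper fun x hx => (Subgroup.mem_normalizer_iff.1 hg x).1 hx
  have hb : Matrix.SpecialLinearGroup.toGL g ∈ upperTriangularGL n F := upper_iff.2 hu
  obtain ⟨u, hu'⟩ : ∃ u : SLn, u.1 = g.1 * Matrix.diagonal fun i => (g.1 i i)⁻¹ :=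
    ⟨⟨_, det_of_isUT (diag_mul_inv_isUT hb)⟩, rfl⟩
  have humem : u ∈ UTg n F := by rw [mem_UTg, hu']; exact diag_mul_inv_isUT hb
  have hD : (u⁻¹ * g).1 = Matrix.diagonal fun i => g.1 i i := by
    have h1 : (u⁻¹ : SLn).1 * u.1 = 1 := by
      rw [← Matrix.SpecialLinearGroup.coe_mul, inv_mul_cancel]; rfl
    have h2 : g.1 = u.1 * Matrix.diagonal fun i => g.1 i i := by
      rw [hu', Matrix.mul_assoc, Matrix.diagonal_mul_diagonal]
      conv_lhs => rw [← Matrix.mul_one g.1, ← Matrix.diagonal_one]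
      exact congrArg _ (congrArg Matrix.diagonal
        (funext fun i => (inv_mul_cancel₀ (upper_diag_ne_zero hb i)).symm))
    rw [Matrix.SpecialLinearGroup.coe_mul]
    conv_lhs => rw [h2, ← Matrix.mul_assoc, h1, Matrix.one_mul]
  rw [← Cfsg.Agent.Perm.Pronormal.cj_eq_self_iff]
  refine Subgroup.eq_of_le_of_card_ge ?_
    (le_of_eq (Subgroup.card_map_of_injective (MulAut.conj g).injective).symm)
  rintro _ ⟨k, hk, rfl⟩
  show g * k * g⁻¹ ∈ K
  rw [show g * k * g⁻¹ = u * ((u⁻¹ * g) * k * (u⁻¹ * g)⁻¹) * u⁻¹ by group]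
  exact K.mul_mem (K.mul_mem (hK humem) (diag_conj_mem hK hD hk)) (K.inv_mem (hK humem))

/-- Odd-index subgroups of `PSL_n(2^f)`, `n` a power of two, are pronormal. -/
theorem pronormal_psl_char_two {w f : ℕ} (hn : n = 2 ^ w) (hf : 1 ≤ f)
    (hF : Fintype.card F = 2 ^ f)
    (H : Subgroup (Matrix.ProjectiveSpecialLinearGroup (Fin n) F)) (hH : Odd H.index) :
    Cfsg.IsPronormal H := by
  haveI : Fact (Nat.Prime 2) := ⟨Nat.prime_two⟩
  haveI : NeZero n := ⟨hn ▸ (by positivity)⟩
  haveI : CharP F 2 := by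
    obtain ⟨p, hp⟩ := CharP.exists F
    haveI : Fact p.Prime := ⟨CharP.char_is_prime F p⟩
    obtain ⟨e, -, he⟩ := FiniteField.card F p
    have h2p : p ∣ 2 ^ f := by rw [← hF, he]; exact dvd_pow_self p e.ne_zero
    rwa [(Nat.prime_dvd_prime_iff_eq Fact.out Nat.prime_two).1 (Fact.out (p := p.Prime) |>.dvd_of_dvd_pow h2p)] at hp
  have hinj : Function.Injective (pr : SLn → _) := by
    intro A B h
    obtain ⟨ε, hε, h⟩ := (pr_eq_iff A B).1 h
    rw [hn, ← iterateFrobenius_def] at hε
    have : ε = 1 := iterateFrobenius_inj F 2 w (hε.trans (map_one _).symm)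
    rw [this, one_smul] at h
    exact Subtype.ext h
  have hidx : ¬ 2 ∣ (UTg n F).index := by
    have := not_dvd_index (n := n) (F := F) hf hF
    rwa [U, Subgroup.index_map_of_bijective ⟨hinj, pr_surjective⟩] at this
  have hpg : IsPGroup 2 (UTg n F) :=
    IsPGroup.of_card (n := f * n.choose 2) (by rw [card_UTg, hF, ← pow_mul])
  exact of_surjective pr pr_surjective
    (fun K hK => all_of_sylow (hpg.toSylow hidx)
      (fun L hL => isPronormal_of_normalizer_le _ hL (normalizer_le hL)) K hK) H hH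

end Cfsg.Agent.Classical.OddPronormal
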