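import Mathlib
import Cfsg.Agent.Lib.Classical.Pronormal.Basic
import Cfsg.Agent.Lib.Classical.SL2FourSylow
import Cfsg.Agent.Lib.Classical.Dickson.Classify

/-!
Subgroups of odd index of `PSL₂(q)`, `q ≡ ±3 mod 8`, are pronormal.
-/

set_option autoImplicit false
set_option linter.unusedSectionVars false

open scoped Pointwise

namespace Cfsg.Agent.Classical.OddPronormal

open Cfsg.Agent.Small Cfsg.Agent.Small.SL2C Cfsg.Agent.Classical.SL2Four
open Cfsg.Agent.Perm.Pronormal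

universe u

variable {F : Type u} [Field F] [Fintype F]

local notation "M2" => Matrix (Fin 2) (Fin 2) F
local notation "SL2" => Matrix.SpecialLinearGroup (Fin 2) F
local notation "P2" => Matrix.ProjectiveSpecialLinearGroup (Fin 2) F

theorem comm_of_pr_comm {A B : SL2} (h : PSL2.pr A * PSL2.pr B = PSL2.pr B * PSL2.pr A) :
    A * B = B * A ∨ A.1 * B.1 = -(B.1 * A.1) := by
  rw [← map_mul, ← map_mul, PSL2.pr_eq_iff] at h
  obtain ⟨ε, hε, h⟩ := h
  rcases mul_self_eq_one_iff.1 hε with rfl | rfl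
  · left; apply Subtype.ext; simpa using h
  · right; simpa using h

theorem trace_zero_of_anti (h2 : (2 : F) ≠ 0) {A B : SL2} (h : A.1 * B.1 = -(B.1 * A.1)) :
    B.1.trace = 0 := by
  have h1 : B.1 = -((A⁻¹).1 * B.1 * A.1) := by
    have : (A⁻¹).1 * (A.1 * B.1) = (A⁻¹).1 * -(B.1 * A.1) := by rw [h]
    rwa [← Matrix.mul_assoc, ← Matrix.SpecialLinearGroup.coe_mul, inv_mul_cancel,
      Matrix.SpecialLinearGroup.coe_one, Matrix.one_mul, Matrix.mul_neg, ← Matrix.mul_assoc] at this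
  have h2' := congrArg Matrix.trace h1
  rw [Matrix.trace_neg, Matrix.trace_mul_cycle, ← Matrix.SpecialLinearGroup.coe_mul,
    mul_inv_cancel, Matrix.SpecialLinearGroup.coe_one, Matrix.one_mul] at h2'
  exact (mul_eq_zero.1 (show (2 : F) * B.1.trace = 0 by linear_combination h2')).resolve_left h2

theorem pr_sq_of_trace_zero (h2 : (2 : F) ≠ 0) {A : SL2} (h : A.1.trace = 0) :
    PSL2.pr A * PSL2.pr A = 1 := by
  have := pow_orderOf_eq_one (PSL2.pr A)
  rw [(orderOf_pr_eq_two_iff h2).mpr h, sq] at this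
  exact this

theorem trace_zero_of_inv (h2 : (2 : F) ≠ 0) {A : SL2} (h : PSL2.pr A * PSL2.pr A = 1)
    (h1 : PSL2.pr A ≠ 1) : A.1.trace = 0 :=
  (orderOf_pr_eq_two_iff h2).mp (orderOf_eq_prime (by rw [sq, h]) h1)

/-- Commuting is inherited by lifts when one element is not an involution. -/
theorem lift_comm (h2 : (2 : F) ≠ 0) {A B : SL2}
    (h : PSL2.pr A * PSL2.pr B = PSL2.pr B * PSL2.pr A) (hB : PSL2.pr B * PSL2.pr B ≠ 1) :
    A * B = B * A :=
  (comm_of_pr_comm h).resolve_right fun ha => hB (pr_sq_of_trace_zero h2 (trace_zero_of_anti h2 ha))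

theorem anti_of_pr_ne (h2 : (2 : F) ≠ 0) {A B : SL2}
    (h : PSL2.pr A * PSL2.pr B = PSL2.pr B * PSL2.pr A) (hA : A.1.trace = 0) (hB : B.1.trace = 0)
    (hne : PSL2.pr A ≠ PSL2.pr B) : A.1 * B.1 = -(B.1 * A.1) := by
  refine (comm_of_pr_comm h).resolve_left fun hc => ?_
  have hnA : ¬ IsSc A.1 := not_isSc_of_trace (by
    rw [hA, mul_zero]
    intro h4
    exact h2 (mul_self_eq_zero.1 (by linear_combination -h4)))
  obtain ⟨x, y, hxy, hdet⟩ := exists_of_mem_tor hnA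
    (mem_tor.mpr (by rw [← Matrix.SpecialLinearGroup.coe_mul, ← hc]; rfl) : B ∈ tor A)
  have ht := congrArg Matrix.trace hxy
  rw [hB, comb, Matrix.trace_add, Matrix.trace_smul, Matrix.trace_smul, hA, Matrix.trace_one,
    smul_eq_mul, smul_zero, add_zero, Fintype.card_fin] at ht
  have hx : x = 0 := (mul_eq_zero.1 ht.symm).resolve_right (by simpa using h2)
  rw [hx, comb, zero_smul, zero_add] at hxy
  rw [hx, hA] at hdet
  exact hne (((PSL2.pr_eq_iff B A).mpr ⟨y, by linear_combination hdet, hxy⟩).symm)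

/-- An element commuting with two anticommuting trace-zero elements is scalar. -/
theorem scalar_of_comm (h2 : (2 : F) ≠ 0) {A B X : SL2} (hA : A.1.trace = 0)
    (hAB : A.1 * B.1 = -(B.1 * A.1)) (hXA : X * A = A * X) (hXB : X * B = B * X) :
    PSL2.pr X = 1 := by
  have hnA : ¬ IsSc A.1 := not_isSc_of_trace (by
    rw [hA, mul_zero]
    intro h4
    exact h2 (mul_self_eq_zero.1 (by linear_combination -h4)))
  obtain ⟨x, y, hxy, -⟩ := exists_of_mem_tor hnA
    (mem_tor.mpr (by rw [← Matrix.SpecialLinearGroup.coe_mul, hXA]; rfl) : X ∈ tor A)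
  have h1 : X.1 * B.1 = B.1 * X.1 := congrArg Subtype.val hXB
  rw [hxy, comb, Matrix.add_mul, Matrix.mul_add, Matrix.smul_mul, Matrix.smul_mul, Matrix.mul_smul,
    Matrix.mul_smul, Matrix.one_mul, Matrix.mul_one, add_left_cancel_iff, hAB] at h1
  have h3 : ((2 : F) * y) • (B.1 * A.1) = 0 := by
    rw [two_mul, add_smul]
    linear_combination (norm := module) -h1
  rcases smul_eq_zero.1 h3 with h | h
  · rw [(mul_eq_zero.1 h).resolve_left h2] at hxy
    exact pr_eq_one_iff.mpr ⟨x, by rw [hxy, comb, zero_smul, add_zero]⟩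
  · exact absurd (congrArg Matrix.det h) (by simp [Matrix.det_mul, A.2, B.2])

theorem conj_upper {s g : SL2} (h : (s * PSL2.uS 1 * s⁻¹).1 1 0 = 0) (hg : g = s) : g.1 1 0 = 0 := by
  subst hg
  rw [Matrix.SpecialLinearGroup.coe_mul, Matrix.SpecialLinearGroup.coe_mul,
    Matrix.SpecialLinearGroup.coe_inv, Matrix.adjugate_fin_two] at h
  simp [Matrix.mul_apply, Fin.sum_univ_two] at h
  have : g.1 1 0 * g.1 1 0 = 0 := by linear_combination -h
  exact mul_self_eq_zero.1 this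

/-- Two involutions of a four-group have no common odd-order invariant subgroup with nontrivial
fixed points for both. -/
theorem no_two_fixed (h2 : (2 : F) ≠ 0) {O : Subgroup P2} (hO : Odd (Nat.card O)) {z z' : P2}
    (hz : z * z = 1) (hz1 : z ≠ 1) (hz' : z' * z' = 1) (hz1' : z' ≠ 1) (hne : z ≠ z')
    (hzz : z * z' = z' * z) (hzO : z ∈ Subgroup.normalizer (O : Set P2))
    (hzO' : z' ∈ Subgroup.normalizer (O : Set P2)) {x y : P2} (hx : x ∈ O) (hx1 : x ≠ 1)
    (hy : y ∈ O) (hy1 : y ≠ 1) (hxz : z * x = x * z) (hyz : z' * y = y * z') : False := by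
  obtain ⟨Z, rfl⟩ := PSL2.pr_surjective z
  obtain ⟨Z', rfl⟩ := PSL2.pr_surjective z'
  obtain ⟨X, rfl⟩ := PSL2.pr_surjective x
  obtain ⟨Y, rfl⟩ := PSL2.pr_surjective y
  have hZ := trace_zero_of_inv h2 hz hz1
  have hZ' := trace_zero_of_inv h2 hz' hz1'
  have hanti := anti_of_pr_ne h2 hzz hZ hZ' hne
  have hsq : ∀ w ∈ O, w ≠ 1 → w * w ≠ 1 := by
    intro w hw hw1 hw2
    have h2d : orderOf w = 2 := orderOf_eq_prime (by rw [sq, hw2]) hw1
    have := Subgroup.orderOf_dvd_natCard (s := O) hw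
    rw [h2d] at this
    exact hO.not_two_dvd_nat this
  have heven : ∀ (T : Type) [Group T] [Finite T], Nonempty (↥O ≃* T) → ¬ 2 ∣ Nat.card T := by
    intro T _ _ ⟨e⟩ hd
    rw [← Nat.card_congr e.toEquiv] at hd
    exact hO.not_two_dvd_nat hd
  have hmap : (O.comap PSL2.pr).map PSL2.pr = O := Dickson.map_comap_pr O
  cases Dickson.classify O with
  | cyclic k hk hc hcard =>
    rw [hmap] at hc
    have hxy : PSL2.pr Y * PSL2.pr X = PSL2.pr X * PSL2.pr Y :=
      congrArg Subtype.val ((IsCyclic.commGroup (α := O)).mul_comm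
        ⟨PSL2.pr Y, hy⟩ ⟨PSL2.pr X, hx⟩)
    have hXn : ¬ IsSc X.1 := fun h => hx1 (pr_eq_one_iff.mpr h)
    have c1 := lift_comm h2 hxz (hsq _ hx hx1)
    have c2 := lift_comm h2 hxy (hsq _ hx hx1)
    have c3 : Y * Z = Z * Y := tor_comm hXn Y
      (mem_tor.mpr (congrArg Subtype.val c2)) Z (mem_tor.mpr (congrArg Subtype.val c1))
    exact hy1 (scalar_of_comm h2 hZ hanti c3 (lift_comm h2 hyz (hsq _ hy hy1)).symm)
  | dihedral k hk hk2 hiso =>
    rw [hmap] at hiso
    haveI : NeZero k := ⟨by omega⟩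
    exact heven (DihedralGroup k) hiso (by rw [DihedralGroup.nat_card]; exact dvd_mul_right 2 k)
  | a4 _ hiso =>
    rw [hmap] at hiso
    exact heven _ hiso (by rw [nat_card_alternatingGroup, Nat.card_fin]; decide)
  | s4 _ hiso =>
    rw [hmap] at hiso
    exact heven _ hiso (by rw [Nat.card_perm, Nat.card_fin]; decide)
  | a5 _ hiso =>
    rw [hmap] at hiso
    exact heven _ hiso (by rw [nat_card_alternatingGroup, Nat.card_fin]; decide)
  | field g K hlow hhigh hiso =>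
    obtain ⟨w, hw, hwv⟩ : PSL2.wS ∈ (O.comap PSL2.pr).map (PSL2.conjSL g).toMonoidHom := by
      rw [← PSL2.uS_vS_uS]
      exact mul_mem (mul_mem (hlow 1 K.one_mem).1 (hlow (-1) (neg_mem K.one_mem)).2)
        (hlow 1 K.one_mem).1
    have htr : w.1.trace = 0 := by
      have h := congrArg (fun A : SL2 => A.1.trace) hwv
      change ((PSL2.conjSL g) w).1.trace = _ at h
      rw [PSL2.conjSL_val, Matrix.trace_units_conj] at h
      simpa [Matrix.trace_fin_two] using h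
    refine hsq _ hw (fun h1 => ?_) (pr_sq_of_trace_zero h2 htr)
    have ho := (orderOf_pr_eq_two_iff h2).mpr htr
    rw [h1, orderOf_one] at ho
    omega
  | borel g hg hu =>
    obtain ⟨v, hv, hvu⟩ := hu
    have hup : ∀ W : SL2, PSL2.pr W ∈ Subgroup.normalizer (O : Set P2) →
        (PSL2.conjSL g W).1 1 0 = 0 := by
      intro W hW
      have hmem : W * v * W⁻¹ ∈ O.comap PSL2.pr := by
        rw [Subgroup.mem_comap, map_mul, map_mul, map_inv]
        exact (Subgroup.mem_normalizer_iff.1 hW _).1 hv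
      have := hg _ ⟨_, hmem, rfl⟩
      change (PSL2.conjSL g (W * v * W⁻¹)).1 1 0 = 0 at this
      rw [map_mul, map_mul, map_inv, show PSL2.conjSL g v = PSL2.uS 1 from hvu] at this
      exact conj_upper this rfl
    have a10 := hup Z hzO
    have b10 := hup Z' hzO'
    have hAB : (PSL2.conjSL g Z).1 * (PSL2.conjSL g Z').1 =
        -((PSL2.conjSL g Z').1 * (PSL2.conjSL g Z).1) := by
      simp only [PSL2.conjSL_val]
      calc g.1 * Z.1 * (g⁻¹).1 * (g.1 * Z'.1 * (g⁻¹).1)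
          = g.1 * (Z.1 * Z'.1) * (g⁻¹).1 := by simp [Matrix.mul_assoc]
        _ = _ := by rw [hanti]; simp [Matrix.mul_assoc]
    have h00 := congrFun (congrFun hAB 0) 0
    rw [Matrix.neg_apply, Matrix.mul_apply, Matrix.mul_apply, Fin.sum_univ_two,
      Fin.sum_univ_two, a10, b10, mul_zero, mul_zero, add_zero, add_zero] at h00
    have h3 : (2 : F) * ((PSL2.conjSL g Z).1 0 0 * (PSL2.conjSL g Z').1 0 0) = 0 := by
      linear_combination h00
    have hd : ∀ W : SL2, W.1 1 0 = 0 → W.1 0 0 ≠ 0 := by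
      intro W hW h0
      have := W.2
      rw [Matrix.det_fin_two, h0, hW] at this
      simp at this
    rcases mul_eq_zero.1 ((mul_eq_zero.1 h3).resolve_left h2) with h | h
    · exact hd _ a10 h
    · exact hd _ b10 h

theorem centralizer_klein_le (h2 : (2 : F) ≠ 0) (S : Subgroup P2) [IsKleinFour S] {g : P2}
    (hg : ∀ s ∈ S, g * s = s * g) : g ∈ S := by
  classical
  haveI : Fintype S := Fintype.ofFinite S
  have h4 : Nat.card S = 4 := IsKleinFour.card_four
  haveI : Nontrivial S :=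
    Finite.one_lt_card_iff_nontrivial.1 (by rw [IsKleinFour.card_four]; norm_num)
  obtain ⟨⟨a, ha⟩, ha1⟩ := exists_ne (1 : S)
    (α := S)
  obtain ⟨b, hb, hb1, hba⟩ : ∃ b ∈ S, b ≠ 1 ∧ b ≠ a := by
    by_contra hh
    push Not at hh
    have hsub : (Finset.univ : Finset S) ⊆ {1, ⟨a, ha⟩} := fun s _ => by
      simp only [Finset.mem_insert, Finset.mem_singleton]
      by_cases h : (s : P2) = 1
      · exact Or.inl (Subtype.ext h)
      · exact Or.inr (Subtype.ext (hh s s.2 h))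
    have := (Finset.card_le_card hsub).trans Finset.card_le_two
    rw [Finset.card_univ, ← Nat.card_eq_fintype_card, h4] at this
    omega
  have ha1' : a ≠ 1 := fun e => ha1 (Subtype.ext e)
  have hsq : ∀ s ∈ S, s * s = 1 := fun s hs => congrArg Subtype.val (IsKleinFour.mul_self ⟨s, hs⟩)
  obtain ⟨A, rfl⟩ := PSL2.pr_surjective a
  obtain ⟨B, rfl⟩ := PSL2.pr_surjective b
  obtain ⟨X, rfl⟩ := PSL2.pr_surjective g
  have hA := trace_zero_of_inv h2 (hsq _ ha) ha1'
  have hB := trace_zero_of_inv h2 (hsq _ hb) hb1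
  have hab : PSL2.pr A * PSL2.pr B = PSL2.pr B * PSL2.pr A := congrArg Subtype.val
    (mul_comm_of_exponent_two (G := S) IsKleinFour.exponent_two ⟨_, ha⟩ ⟨_, hb⟩)
  have hanti := anti_of_pr_ne h2 hab hA hB (Ne.symm hba)
  have hanti' : B.1 * A.1 = -(A.1 * B.1) := by rw [hanti, neg_neg]
  have key : ∀ s : SL2, PSL2.pr s ∈ S → (X * s) * A = A * (X * s) → (X * s) * B = B * (X * s) →
      PSL2.pr X ∈ S := by
    intro s hs e1 e2
    have := scalar_of_comm h2 hA hanti e1 e2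
    rw [map_mul] at this
    rw [eq_inv_of_mul_eq_one_left this]
    exact S.inv_mem hs
  have hval : ∀ U V : SL2, U.1 * V.1 = V.1 * U.1 → U * V = V * U := fun U V h => Subtype.ext h
  rcases comm_of_pr_comm (hg _ ha) with cA | cA <;> rcases comm_of_pr_comm (hg _ hb) with cB | cB
  · exact key 1 (by rw [map_one]; exact S.one_mem) (by rwa [mul_one]) (by rwa [mul_one])
  · refine key A ha (by rw [mul_assoc, ← mul_assoc A X, ← cA, mul_assoc]) (hval _ _ ?_)
    simp only [Matrix.SpecialLinearGroup.coe_mul]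
    calc X.1 * A.1 * B.1 = -(X.1 * B.1 * A.1) := by
          rw [Matrix.mul_assoc, hanti, Matrix.mul_neg, Matrix.mul_assoc]
      _ = B.1 * (X.1 * A.1) := by rw [cB]; simp [Matrix.mul_assoc]
  · refine key B hb (hval _ _ ?_) (by rw [mul_assoc, ← mul_assoc B X, ← cB, mul_assoc])
    simp only [Matrix.SpecialLinearGroup.coe_mul]
    calc X.1 * B.1 * A.1 = -(X.1 * A.1 * B.1) := by
          rw [Matrix.mul_assoc, hanti', Matrix.mul_neg, Matrix.mul_assoc]
      _ = A.1 * (X.1 * B.1) := by rw [cA]; simp [Matrix.mul_assoc]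
  · refine key (A * B) (by rw [map_mul]; exact S.mul_mem ha hb) (hval _ _ ?_) (hval _ _ ?_)
    · simp only [Matrix.SpecialLinearGroup.coe_mul]
      calc X.1 * (A.1 * B.1) * A.1 = X.1 * (A.1 * (B.1 * A.1)) := by simp [Matrix.mul_assoc]
        _ = -((X.1 * A.1) * (A.1 * B.1)) := by rw [hanti']; simp [Matrix.mul_assoc]
        _ = A.1 * (X.1 * (A.1 * B.1)) := by rw [cA]; simp [Matrix.mul_assoc]
    · simp only [Matrix.SpecialLinearGroup.coe_mul]
      calc X.1 * (A.1 * B.1) * B.1 = -(X.1 * B.1 * (A.1 * B.1)) := by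
            conv_lhs => rw [hanti]
            simp [Matrix.mul_assoc]
        _ = B.1 * (X.1 * (A.1 * B.1)) := by rw [cB]; simp [Matrix.mul_assoc]

/-- A normal 2-complement, from Burnside's transfer theorem. -/
theorem exists_normal_complement {G : Type*} [Group G] [Finite G] (P : Sylow 2 G)
    (hP : Subgroup.normalizer ((P : Subgroup G) : Set G) ≤
      Subgroup.centralizer ((P : Subgroup G) : Set G)) :
    ∃ N : Subgroup G, N.Normal ∧ Odd (Nat.card N) ∧
      (∀ x : G, ∃ o ∈ N, ∃ s ∈ (P : Subgroup G), o * s = x) ∧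
      ∀ x : G, Odd (orderOf x) → x ∈ N := by
  haveI : Fact (Nat.Prime 2) := ⟨Nat.prime_two⟩
  refine ⟨(MonoidHom.transferSylow P hP).ker, MonoidHom.normal_ker _,
    Nat.odd_iff.2 (Nat.two_dvd_ne_zero.1 (MonoidHom.not_dvd_card_ker_transferSylow P hP)), ?_, ?_⟩
  · intro x
    obtain ⟨⟨o, s⟩, hos⟩ := (MonoidHom.ker_transferSylow_isComplement' P hP).2 x
    exact ⟨o, o.2, s, s.2, hos⟩
  · intro x hx
    rw [MonoidHom.mem_ker, ← orderOf_eq_one_iff]
    obtain ⟨i, hi⟩ := P.2 (MonoidHom.transferSylow P hP x)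
    exact Nat.eq_one_of_dvd_coprimes (Nat.Coprime.pow_right i hx.coprime_two_right)
      (orderOf_map_dvd _ x) (orderOf_dvd_of_pow_eq_one hi)

theorem klein_sq (S : Subgroup P2) [IsKleinFour S] : ∀ s ∈ S, s * s = 1 :=
  fun s hs => congrArg Subtype.val (IsKleinFour.mul_self ⟨s, hs⟩)

theorem klein_comm (S : Subgroup P2) [IsKleinFour S] : ∀ a ∈ S, ∀ b ∈ S, a * b = b * a :=
  fun a ha b hb => congrArg Subtype.val
    (mul_comm_of_exponent_two (G := S) IsKleinFour.exponent_two ⟨a, ha⟩ ⟨b, hb⟩)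

theorem klein_three (S : Subgroup P2) [IsKleinFour S] :
    ∀ u v w : P2, u ∈ S → v ∈ S → w ∈ S → u ≠ 1 → v ≠ 1 → u ≠ v → w ≠ 1 → w ≠ u →
      w ≠ v → w = u * v := by
  classical
  have hsq := klein_sq S
  haveI : Fintype S := Fintype.ofFinite S
  have hcard : Fintype.card S = 4 := by rw [← Nat.card_eq_fintype_card]; exact IsKleinFour.card_four
  intro u v w hu hv hw hu1 hv1 huv hw1 hwu hwv
  by_contra hne
  have huv1 : u * v ≠ 1 := fun e => huv (by
    calc u = u * (v * v) := by rw [hsq v hv, mul_one]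
      _ = v := by rw [← mul_assoc, e, one_mul])
  have huvu : u * v ≠ u := fun e => hv1 (mul_eq_left.1 e)
  have huvv : u * v ≠ v := fun e => hu1 (mul_eq_right.1 e)
  have h5 : ({1, ⟨u, hu⟩, ⟨v, hv⟩, ⟨w, hw⟩, ⟨u * v, S.mul_mem hu hv⟩} : Finset S).card = 5 := by
    simp [Finset.card_insert_of_notMem, Subtype.ext_iff, hu1.symm, hv1.symm, huv, hw1.symm,
      huv1.symm, hwu.symm, hwv.symm, huvu.symm, huvv.symm, hne]
  have := Finset.card_le_univ ({1, ⟨u, hu⟩, ⟨v, hv⟩, ⟨w, hw⟩, ⟨u * v, S.mul_mem hu hv⟩} : Finset S)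
  omega

theorem klein_move (h2 : (2 : F) ≠ 0) (T : Sylow 2 P2) (S : Subgroup P2)
    (hS : S = (T : Subgroup P2)) [IsKleinFour S] : ∀ {h : P2},
    h ∈ Subgroup.normalizer (S : Set P2) → h ∉ S →
      ∀ z ∈ S, z ≠ 1 → h * z * h⁻¹ ≠ z := by
  haveI : Fact (Nat.Prime 2) := ⟨Nat.prime_two⟩
  have hsq := klein_sq S
  have hthree := klein_three S
  have hnorm : ∀ {h : P2}, h ∈ Subgroup.normalizer (S : Set P2) → ∀ s ∈ S, h * s * h⁻¹ ∈ S :=
    fun hh s hs => (Subgroup.mem_normalizer_iff.1 hh s).1 hs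
  intro h hh hhS z hz hz1 hfix
  apply hhS
  have h2S : h * h ∈ S := by
    refine centralizer_klein_le h2 S fun s hs => ?_
    suffices e : h * (h * s * h⁻¹) * h⁻¹ = s by
      calc h * h * s = (h * (h * s * h⁻¹) * h⁻¹) * (h * h) := by group
        _ = s * (h * h) := by rw [e]
    by_cases hs1 : s = 1
    · subst hs1; group
    by_cases hsz : s = z
    · subst hsz; rw [hfix, hfix]
    have m1 := hnorm hh s hs
    have n1 : h * s * h⁻¹ ≠ 1 := fun e => hs1 (conj_eq_one_iff.1 e)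
    have nz : h * s * h⁻¹ ≠ z := fun e => hsz (by
      have := e.trans hfix.symm
      simpa using this)
    by_cases hss : h * s * h⁻¹ = s
    · rw [hss, hss]
    have e1 := hthree z s _ hz hs m1 hz1 hs1 (Ne.symm hsz) n1 nz hss
    rw [e1, show h * (z * s) * h⁻¹ = (h * z * h⁻¹) * (h * s * h⁻¹) by group, hfix, e1,
      ← mul_assoc, hsq z hz, one_mul]
  have hp : IsPGroup 2 (Subgroup.zpowers h) := by
    refine IsPGroup.iff_orderOf.mpr fun ⟨x, hx⟩ => ?_
    obtain ⟨i, rfl⟩ := hx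
    have h4 : (h ^ i) ^ (2 ^ 2) = 1 := by
      rw [← zpow_natCast, ← zpow_mul, show i * ((2 ^ 2 : ℕ) : ℤ) = ((4 : ℕ) : ℤ) * i by
        push_cast; ring, zpow_mul, zpow_natCast, show h ^ 4 = (h * h) * (h * h) by
        rw [← sq h, ← pow_add], hsq _ h2S, one_zpow]
    obtain ⟨j, -, hj⟩ := (Nat.dvd_prime_pow Nat.prime_two).1
      (orderOf_dvd_of_pow_eq_one h4)
    exact ⟨j, by rw [← hj]; exact Subgroup.orderOf_mk _ _⟩
  have hsup : IsPGroup 2 ↥(Subgroup.zpowers h ⊔ S) :=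
    hp.to_sup_of_normal_right' (hS ▸ T.2) (Subgroup.zpowers_le.mpr hh)
  have := T.3 hsup (hS.symm.le.trans le_sup_right)
  rw [hS, ← this]
  exact le_sup_left (a := Subgroup.zpowers h) (Subgroup.mem_zpowers h)

theorem mem_of_fused (h2 : (2 : F) ≠ 0) (T : Sylow 2 P2) (S : Subgroup P2)
    (hS : S = (T : Subgroup P2)) [IsKleinFour S] {J : Subgroup P2} (hSJ : S ≤ J) {g h : P2}
    (hgS : g ∈ Subgroup.normalizer (S : Set P2)) (hgS' : g ∉ S) (hhJ : h ∈ J)
    (hhN : h ∈ Subgroup.normalizer (S : Set P2)) (hhS : h ∉ S) : g ∈ J := by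
  have hsq := klein_sq S
  have hthree := klein_three S
  have hmove := @klein_move _ _ _ h2 T S hS _
  have hnorm : ∀ {h : P2}, h ∈ Subgroup.normalizer (S : Set P2) → ∀ s ∈ S, h * s * h⁻¹ ∈ S :=
    fun hh s hs => (Subgroup.mem_normalizer_iff.1 hh s).1 hs
  haveI : Nontrivial S :=
    Finite.one_lt_card_iff_nontrivial.1 (by rw [IsKleinFour.card_four]; norm_num)
  obtain ⟨⟨a, ha⟩, ha1⟩ := exists_ne (1 : S)
  replace ha1 : a ≠ 1 := fun e => ha1 (Subtype.ext e)
  by_cases hsame : h * a * h⁻¹ = g * a * g⁻¹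
  · have hfix : (h⁻¹ * g) * a * (h⁻¹ * g)⁻¹ = a := by
      rw [show (h⁻¹ * g) * a * (h⁻¹ * g)⁻¹ = h⁻¹ * (g * a * g⁻¹) * h by group, ← hsame]
      group
    have hm : h⁻¹ * g ∈ S := by
      by_contra hn
      exact hmove (mul_mem (inv_mem hhN) hgS) hn a ha ha1 hfix
    have := mul_mem hhJ (hSJ hm)
    rwa [mul_inv_cancel_left] at this
  · have hm : h * g ∈ S := by
      by_contra hn
      refine hmove (mul_mem hhN hgS) hn a ha ha1 ?_
      rw [show h * g * a * (h * g)⁻¹ = h * (g * a * g⁻¹) * h⁻¹ by group]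
      have mh := hnorm hhN a ha
      have mg := hnorm hgS a ha
      have n1 : h * a * h⁻¹ ≠ 1 := fun e => ha1 (conj_eq_one_iff.1 e)
      have n2 : g * a * g⁻¹ ≠ 1 := fun e => ha1 (conj_eq_one_iff.1 e)
      have n3 : h * a * h⁻¹ ≠ a := hmove hhN hhS a ha ha1
      have n4 : g * a * g⁻¹ ≠ a := hmove hgS hgS' a ha ha1
      have m1 := hnorm hhN _ mg
      have n5 : h * (g * a * g⁻¹) * h⁻¹ ≠ 1 := fun e => n2 (conj_eq_one_iff.1 e)
      have n6 : h * (g * a * g⁻¹) * h⁻¹ ≠ g * a * g⁻¹ := hmove hhN hhS _ mg n2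
      have n7 : h * (g * a * g⁻¹) * h⁻¹ ≠ h * a * h⁻¹ := fun e => n4 (by simpa using e)
      rw [hthree _ _ _ mh mg m1 n1 n2 hsame n5 n7 n6,
        ← hthree _ _ a mh mg ha n1 n2 hsame ha1 n3.symm n4.symm]
    have := mul_mem (inv_mem hhJ) (hSJ hm)
    rwa [inv_mul_cancel_left] at this

theorem exists_conj_of_unfused (h2 : (2 : F) ≠ 0) (T : Sylow 2 P2) (S : Subgroup P2)
    (hS : S = (T : Subgroup P2)) [IsKleinFour S] {H : Subgroup P2} (hT : S ≤ H) {g : P2}
    (hgS : g ∈ Subgroup.normalizer (S : Set P2)) (hgS' : g ∉ S)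
    (hN : ∀ h ∈ H ⊔ cj g H, h ∈ Subgroup.normalizer (S : Set P2) → h ∈ S) :
    ∃ x ∈ H ⊔ cj g H, cj g H = cj x H := by
  classical
  haveI : Fact (Nat.Prime 2) := ⟨Nat.prime_two⟩
  haveI : Finite P2 := Finite.of_surjective _ PSL2.pr_surjective
  subst hS
  set S := (T : Subgroup P2)
  have hsq := klein_sq S
  have hcomm := klein_comm S
  have hmove := @klein_move _ _ _ h2 T S rfl _
  have hnorm : ∀ {h : P2}, h ∈ Subgroup.normalizer (S : Set P2) → ∀ s ∈ S, h * s * h⁻¹ ∈ S :=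
    fun hh s hs => (Subgroup.mem_normalizer_iff.1 hh s).1 hs
  haveI : Fintype S := Fintype.ofFinite S
  have hcard : Fintype.card S = 4 := by rw [← Nat.card_eq_fintype_card]; exact IsKleinFour.card_four
  haveI : Nontrivial S :=
    Finite.one_lt_card_iff_nontrivial.1 (by rw [IsKleinFour.card_four]; norm_num)
  obtain ⟨⟨a, ha⟩, ha1⟩ := exists_ne (1 : S)
  replace ha1 : a ≠ 1 := fun e => ha1 (Subtype.ext e)
  set J := H ⊔ cj g H with hJ
  have hSJ : S ≤ J := hT.trans le_sup_left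
  set T' : Sylow 2 J := T.subtype hSJ with hT'
  have hT'mem : ∀ x : J, x ∈ (T' : Subgroup J) ↔ (x : P2) ∈ S := fun x => Iff.rfl
  have hP : Subgroup.normalizer ((T' : Subgroup J) : Set J) ≤
      Subgroup.centralizer ((T' : Subgroup J) : Set J) := by
    intro x hx
    have hxS : (x : P2) ∈ S := by
      refine hN x x.2 (Subgroup.mem_normalizer_iff.2 fun s => ?_)
      constructor
      · intro hs
        exact (hT'mem _).1 ((Subgroup.mem_normalizer_iff.1 hx ⟨s, hSJ hs⟩).1 ((hT'mem _).2 hs))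
      · intro hs
        have h1 : s ∈ J := by
          have h' := mul_mem (mul_mem (inv_mem x.2) (hSJ hs)) x.2
          simpa [mul_assoc] using h'
        exact (hT'mem ⟨s, h1⟩).1 ((Subgroup.mem_normalizer_iff.1 hx ⟨s, h1⟩).2 ((hT'mem _).2 hs))
    rw [Subgroup.mem_centralizer_iff]
    intro y hy
    exact Subtype.ext (hcomm _ ((hT'mem y).1 hy) _ hxS)
  obtain ⟨N, hNn, hNodd, hNS, hNmem⟩ := exists_normal_complement T' hP
  set O := N.map J.subtype with hOdef
  have hOodd : Odd (Nat.card O) := by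
    rw [hOdef, Subgroup.card_map_of_injective J.subtype_injective]
    exact hNodd
  have hSO : ∀ s ∈ S, s ∈ Subgroup.normalizer (O : Set P2) := by
    intro s hs
    rw [Subgroup.mem_normalizer_iff]
    intro x
    constructor
    · rintro ⟨y, hy, rfl⟩
      exact ⟨⟨s, hSJ hs⟩ * y * ⟨s, hSJ hs⟩⁻¹,
        hNn.conj_mem y hy ⟨s, hSJ hs⟩, rfl⟩
    · rintro ⟨y, hy, hye⟩
      refine ⟨(⟨s, hSJ hs⟩ : J)⁻¹ * y * ⟨s, hSJ hs⟩, ?_, ?_⟩
      · have := hNn.conj_mem y hy (⟨s, hSJ hs⟩ : J)⁻¹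
        rwa [inv_inv] at this
      · show s⁻¹ * (y : P2) * s = x
        rw [show (y : P2) = s * x * s⁻¹ from hye]
        group
  by_cases hHS : H ≤ S
  · refine ⟨1, one_mem _, ?_⟩
    rw [cj_one]
    have : H = S := le_antisymm hHS hT
    rw [this]
    exact cj_eq_self_iff.2 hgS
  obtain ⟨h, hhH, hhS⟩ := Set.not_subset.1 hHS
  obtain ⟨o, hoN, s, hsT, hos⟩ := hNS ⟨h, le_sup_left (α := Subgroup P2) hhH⟩
  have hoH : (o : P2) ∈ H := by
    have e : (o : P2) * (s : P2) = h := congrArg Subtype.val hos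
    rw [← eq_mul_inv_iff_mul_eq] at e
    rw [e]
    exact mul_mem hhH (inv_mem (hT ((hT'mem _).1 hsT)))
  have ho1 : (o : P2) ≠ 1 := by
    intro e1
    have e : (o : P2) * (s : P2) = h := congrArg Subtype.val hos
    rw [e1, one_mul] at e
    exact hhS (e ▸ (hT'mem _).1 hsT)
  have hoO : (o : P2) ∈ O := ⟨o, hoN, rfl⟩
  -- some involution of `S` has a fixed point on `H ⊓ O`
  obtain ⟨z, hz, hz1, x, hx, hx1, hxz⟩ : ∃ z ∈ S, z ≠ 1 ∧ ∃ x ∈ H ⊓ O, x ≠ 1 ∧ z * x = x * z := by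
    by_contra hh
    push Not at hh
    have hinv : ∀ z ∈ S, z ≠ 1 → ∀ x ∈ H ⊓ O, z * x * z⁻¹ = x⁻¹ := by
      intro z hz hz1 x hx
      have hmem : ∀ y ∈ H ⊓ O, z * y * z⁻¹ ∈ H ⊓ O := fun y hy =>
        ⟨H.mul_mem (H.mul_mem (hT hz) hy.1) (H.inv_mem (hT hz)),
          (Subgroup.mem_normalizer_iff.1 (hSO z hz) y).1 hy.2⟩
      let φ : ↥(H ⊓ O) →* ↥(H ⊓ O) :=
        { toFun := fun y => ⟨z * y.1 * z⁻¹, hmem y.1 y.2⟩
          map_one' := Subtype.ext (by simp)
          map_mul' := fun a b => Subtype.ext (by simp [mul_assoc]) }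
      have hfpf : MonoidHom.FixedPointFree φ := by
        intro y hy
        by_contra hy1
        refine hh z hz hz1 y.1 y.2 (fun e => hy1 (Subtype.ext e)) ?_
        have e : z * y.1 * z⁻¹ = y.1 := congrArg Subtype.val hy
        rwa [mul_inv_eq_iff_eq_mul] at e
      have hinvol : Function.Involutive φ := fun y => Subtype.ext (by
        show z * (z * y.1 * z⁻¹) * z⁻¹ = y.1
        rw [show z * (z * y.1 * z⁻¹) * z⁻¹ = (z * z) * y.1 * (z * z)⁻¹ by group, hsq z hz]
        group)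
      exact congrArg Subtype.val
        (congrFun (hfpf.coe_eq_inv_of_involutive hinvol) ⟨x, hx⟩)
    obtain ⟨b, hb, hb1, hba⟩ : ∃ b ∈ S, b ≠ 1 ∧ b ≠ a := by
      by_contra hh'
      push Not at hh'
      have hsub : (Finset.univ : Finset S) ⊆ {1, ⟨a, ha⟩} := fun s _ => by
        simp only [Finset.mem_insert, Finset.mem_singleton]
        by_cases h : (s : P2) = 1
        · exact Or.inl (Subtype.ext h)
        · exact Or.inr (Subtype.ext (hh' s s.2 h))
      have := (Finset.card_le_card hsub).trans Finset.card_le_two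
      rw [Finset.card_univ] at this
      omega
    have hab1 : a * b ≠ 1 := fun e => hba (by
      calc b = (a * a) * b := by rw [hsq a ha, one_mul]
        _ = a := by rw [mul_assoc, e, mul_one])
    have hm : (o : P2) ∈ H ⊓ O := ⟨hoH, hoO⟩
    refine hh (a * b) (S.mul_mem ha hb) hab1 _ hm ho1 ?_
    rw [← mul_inv_eq_iff_eq_mul, show a * b * (o : P2) * (a * b)⁻¹ =
      a * (b * (o : P2) * b⁻¹) * a⁻¹ by group, hinv b hb hb1 _ hm,
      hinv a ha ha1 _ (inv_mem hm), inv_inv]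
  have hmv := hmove hgS hgS' z hz hz1
  have hx' : g * x * g⁻¹ ∈ O := by
    have hxJ : g * x * g⁻¹ ∈ J := le_sup_right (α := Subgroup P2) (mem_cj.2 (by
      simpa [mul_assoc] using hx.1))
    have hqodd : Odd (orderOf (g * x * g⁻¹)) := by
      rw [show g * x * g⁻¹ = MulAut.conj g x from rfl, MulEquiv.orderOf_eq]
      exact hOodd.of_dvd_nat (Subgroup.orderOf_dvd_natCard (s := O) hx.2)
    exact ⟨⟨_, hxJ⟩, hNmem _ (by rwa [Subgroup.orderOf_mk]), rfl⟩
  exfalso
  refine no_two_fixed h2 hOodd (z := z) (z' := g * z * g⁻¹) (hsq z hz) hz1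
    (hsq _ (hnorm hgS z hz)) (fun e => hz1 (conj_eq_one_iff.1 e)) hmv.symm
    (hcomm z hz _ (hnorm hgS z hz)) (hSO z hz) (hSO _ (hnorm hgS z hz)) hx.2 hx1 hx'
    (fun e => hx1 (conj_eq_one_iff.1 e)) hxz ?_
  calc g * z * g⁻¹ * (g * x * g⁻¹) = g * (z * x) * g⁻¹ := by group
    _ = g * (x * z) * g⁻¹ := by rw [hxz]
    _ = _ := by group


/-- Odd-index subgroups of `PSL₂(q)`, `q ≡ ±3 mod 8`, are pronormal. -/
theorem pronormal_psl2_klein (h8 : Fintype.card F % 8 = 3 ∨ Fintype.card F % 8 = 5)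
    (H : Subgroup P2) (hH : Odd H.index) : Cfsg.IsPronormal H := by
  classical
  haveI : Fact (Nat.Prime 2) := ⟨Nat.prime_two⟩
  have h2 : (2 : F) ≠ 0 := Ring.two_ne_zero fun hc => by
    haveI := hc ▸ ringChar.charP F
    have := FiniteField.even_card_of_char_two hc
    omega
  haveI : Finite P2 := Finite.of_surjective _ PSL2.pr_surjective
  obtain ⟨T, hT⟩ := Cfsg.Agent.Lead.exists_sylow_two_le_of_odd_index H hH
  set S : Subgroup P2 := (T : Subgroup P2) with hS
  haveI : IsKleinFour S := sylow_psl_klein h2 h8 T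
  rw [isPronormal_iff]
  intro g₀
  obtain ⟨k, hk, hke⟩ := sylow_conj_in (p := 2) S (A := ⊤) (K := H ⊔ cj g₀ H)
    (hT.trans le_sup_left) le_top T.2
    (by rw [Subgroup.relIndex_top_right]; exact T.not_dvd_index)
    (g := g₀) ((cj_le hT).trans le_sup_right)
  set g := k⁻¹ * g₀ with hgdef
  have hgS : g ∈ Subgroup.normalizer (S : Set P2) :=
    cj_eq_self_iff.1 (by rw [hgdef, ← cj_cj, hke, cj_cj, inv_mul_cancel, cj_one])
  have hgJ : cj g H ≤ H ⊔ cj g₀ H := by
    rw [hgdef, ← cj_cj]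
    exact cj_le_of_mem (inv_mem hk) le_sup_right
  suffices h : ∃ x ∈ H ⊔ cj g H, cj g H = cj x H by
    obtain ⟨x, hx, he⟩ := h
    refine ⟨k * x, mul_mem hk ((sup_le le_sup_left hgJ) hx), ?_⟩
    rw [← cj_cj, ← he, cj_cj, hgdef, mul_inv_cancel_left]
  clear hgJ hke hk hgdef
  clear_value g
  by_cases hgS' : g ∈ S
  · exact ⟨g, le_sup_left (α := Subgroup P2) (hT hgS'), rfl⟩
  by_cases hN : ∀ h ∈ H ⊔ cj g H, h ∈ Subgroup.normalizer (S : Set P2) → h ∈ S
  · exact exists_conj_of_unfused h2 T S hS hT hgS hgS' hN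
  · push Not at hN
    obtain ⟨h, hhJ, hhN, hhS⟩ := hN
    exact ⟨g, mem_of_fused h2 T S hS (hT.trans le_sup_left) hgS hgS' hhJ hhN hhS, rfl⟩

end Cfsg.Agent.Classical.OddPronormal
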