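import Mathlib

/-!
A monomial 2-group is self-normalising in the group of determinant one of a monomially shaped
group `Γ` of `F`-linear maps of `Kᵐ`.
-/

set_option autoImplicit false

namespace Cfsg.Agent.Classical.OddPronormal

open Polynomial

variable (F K : Type*) [Field F] [Field K] [Algebra F K] (m : ℕ)

/-- The monomial map with scalars `c`, field automorphisms `e` and permutation `σ`. -/
def mon (c : Fin m → Kˣ) (e : Fin m → K ≃ₐ[F] K) (σ : Equiv.Perm (Fin m)) :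
    (Fin m → K) ≃ₗ[F] (Fin m → K) where
  toFun x j := (c j : K) * e j (x (σ.symm j))
  map_add' x y := by funext j; simp [mul_add]
  map_smul' a x := by funext j; simp
  invFun y i := (e (σ i)).symm (((c (σ i))⁻¹ : Kˣ) * y (σ i))
  left_inv x := by funext i; simp [← mul_assoc]
  right_inv y := by funext j; simp [← mul_assoc]

variable {F K m}

/-- The action of `(e, σ)` on scalar vectors. -/
def tw (e : Fin m → K ≃ₐ[F] K) (σ : Equiv.Perm (Fin m)) : (Fin m → Kˣ) →* (Fin m → Kˣ) where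
  toFun d j := Units.map (e j).toAlgHom.toMonoidHom (d (σ.symm j))
  map_one' := by funext j; simp
  map_mul' a b := by funext j; simp

@[simp] theorem mon_apply (c : Fin m → Kˣ) (e : Fin m → K ≃ₐ[F] K) (σ : Equiv.Perm (Fin m))
    (x : Fin m → K) (j : Fin m) : mon F K m c e σ x j = (c j : K) * e j (x (σ.symm j)) := rfl

@[simp] theorem tw_apply (e : Fin m → K ≃ₐ[F] K) (σ : Equiv.Perm (Fin m)) (d : Fin m → Kˣ)
    (j : Fin m) : ((tw e σ d j : Kˣ) : K) = e j (d (σ.symm j)) := rfl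

theorem tw_one_one (d : Fin m → Kˣ) : tw (1 : Fin m → K ≃ₐ[F] K) 1 d = d := by
  funext j; ext; simp [Equiv.Perm.one_def]

theorem mon_mul (c c' : Fin m → Kˣ) (e e' : Fin m → K ≃ₐ[F] K) (σ σ' : Equiv.Perm (Fin m)) :
    mon F K m c e σ * mon F K m c' e' σ' =
      mon F K m (c * tw e σ c') (fun j => e j * e' (σ.symm j)) (σ * σ') := by
  ext x j
  simp [LinearEquiv.mul_apply, Equiv.Perm.mul_def, mul_assoc]

variable (F) in
/-- Diagonal maps. -/
def dg : (Fin m → Kˣ) →* ((Fin m → K) ≃ₗ[F] (Fin m → K)) where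
  toFun c := mon F K m c 1 1
  map_one' := by ext x j; simp [LinearEquiv.coe_one, Equiv.Perm.one_def]
  map_mul' a b := by ext x j; simp [LinearEquiv.mul_apply, mul_assoc, Equiv.Perm.one_def]

@[simp] theorem dg_apply (c : Fin m → Kˣ) (x : Fin m → K) (j : Fin m) :
    dg F c x j = (c j : K) * x j := by simp [dg, Equiv.Perm.one_def]

theorem dg_mul_mon (c c' : Fin m → Kˣ) (e : Fin m → K ≃ₐ[F] K) (σ : Equiv.Perm (Fin m)) :
    dg F c * mon F K m c' e σ = mon F K m (c * c') e σ := by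
  ext x j; simp [LinearEquiv.mul_apply, mul_assoc]

theorem mon_mul_dg (c d : Fin m → Kˣ) (e : Fin m → K ≃ₐ[F] K) (σ : Equiv.Perm (Fin m)) :
    mon F K m c e σ * dg F d = dg F (tw e σ d) * mon F K m c e σ := by
  ext x j; simp [LinearEquiv.mul_apply]; ring

theorem mon_conj_dg (c d : Fin m → Kˣ) (e : Fin m → K ≃ₐ[F] K) (σ : Equiv.Perm (Fin m)) :
    mon F K m c e σ * dg F d * (mon F K m c e σ)⁻¹ = dg F (tw e σ d) :=
  mul_inv_eq_of_eq_mul (mon_mul_dg c d e σ)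

theorem dg_injective : Function.Injective (dg F : (Fin m → Kˣ) → _) := by
  intro a b h
  funext j; ext
  have := congrFun (LinearEquiv.congr_fun h (fun _ => 1)) j
  simpa using this

theorem mon_inj {c c' : Fin m → Kˣ} {e e' : Fin m → K ≃ₐ[F] K} {σ σ' : Equiv.Perm (Fin m)}
    (h : mon F K m c e σ = mon F K m c' e' σ') : c = c' ∧ e = e' ∧ σ = σ' := by
  have hσ : σ = σ' := by
    ext i
    have := congrFun (LinearEquiv.congr_fun h (Pi.single i 1)) (σ i)
    rw [mon_apply, mon_apply, Equiv.symm_apply_apply, Pi.single_eq_same] at this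
    by_contra hne
    have hne' : σ'.symm (σ i) ≠ i := fun he => hne (by
      rw [show σ i = σ' i from (Equiv.symm_apply_eq σ').1 he])
    rw [Pi.single_eq_of_ne hne', map_zero, mul_zero, map_one, mul_one] at this
    exact (c (σ i)).ne_zero this
  subst hσ
  have hc : c = c' := by
    funext j; ext
    simpa using congrFun (LinearEquiv.congr_fun h (fun _ => 1)) j
  subst hc
  refine ⟨rfl, funext fun j => AlgEquiv.ext fun y => ?_, rfl⟩
  have := congrFun (LinearEquiv.congr_fun h (fun _ => y)) j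
  simpa [(c j).ne_zero] using this

theorem det_dg [FiniteDimensional F K] (c : Fin m → Kˣ) :
    ((LinearEquiv.det (dg F c) : Fˣ) : F) = ∏ j, Algebra.norm F (c j : K) := by
  have h : ((dg F c : (Fin m → K) ≃ₗ[F] (Fin m → K)) : (Fin m → K) →ₗ[F] (Fin m → K)) =
      LinearMap.pi (fun j => (Algebra.lmul F K (c j : K)).comp (LinearMap.proj j)) := by
    ext x j; simp
  rw [LinearEquiv.coe_det, h, LinearMap.det_pi]
  simp [Algebra.norm_apply]

variable (F K m) in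
/-- Scalar vectors of 2-power order. -/
noncomputable def twoVec : Subgroup (Fin m → Kˣ) :=
  (powMonoidHom (2 ^ Nat.card Kˣ) : (Fin m → Kˣ) →* (Fin m → Kˣ)).ker

theorem mem_twoVec {c : Fin m → Kˣ} : c ∈ twoVec K m ↔ ∀ j, c j ^ (2 ^ Nat.card Kˣ) = 1 := by
  simp [twoVec, MonoidHom.mem_ker, funext_iff]

theorem two_pow_card {M : Type*} [Group M] [Finite M] {y : M} {k : ℕ} (h : y ^ (2 ^ k) = 1) :
    y ^ (2 ^ Nat.card M) = 1 := by
  obtain ⟨i, -, hi⟩ := (Nat.dvd_prime_pow Nat.prime_two).1 (orderOf_dvd_of_pow_eq_one h)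
  rw [← orderOf_dvd_iff_pow_eq_one, hi]
  refine Nat.pow_dvd_pow 2 ?_
  calc i ≤ 2 ^ i := (Nat.lt_two_pow_self).le
    _ = orderOf y := hi.symm
    _ ≤ Nat.card M := Nat.le_of_dvd Nat.card_pos (orderOf_dvd_natCard y)

theorem mem_twoVec_of_pow [Finite K] {c : Fin m → Kˣ} (h : ∀ j, ∃ k, c j ^ (2 ^ k) = 1) :
    c ∈ twoVec K m := mem_twoVec.2 fun j => (h j).elim fun _ hk => two_pow_card hk

theorem tw_twoVec {e : Fin m → K ≃ₐ[F] K} {σ : Equiv.Perm (Fin m)} {c : Fin m → Kˣ}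
    (h : c ∈ twoVec K m) : tw e σ c ∈ twoVec K m := by
  rw [twoVec, MonoidHom.mem_ker] at h ⊢
  simp only [powMonoidHom_apply] at h ⊢
  rw [← map_pow, h, map_one]

/-- What is asked of the monomial data. -/
structure Shape (Γ : Subgroup ((Fin m → K) ≃ₗ[F] (Fin m → K))) (C : Subgroup (Fin m → Kˣ))
    (Q : Subgroup (Equiv.Perm (Fin m))) : Prop where
  perm_two : IsPGroup 2 Q
  perm_norm : ∀ π, (∀ σ ∈ Q, π * σ * π⁻¹ ∈ Q) → π ∈ Q
  perm_trans : ∀ i j, ∃ σ ∈ Q, σ i = j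
  aut_two : IsPGroup 2 (K ≃ₐ[F] K)
  mem_iff : ∀ c e σ, σ ∈ Q → (mon F K m c e σ ∈ Γ ↔ c ∈ C)
  lift : ∀ σ ∈ Q, ∀ e, ∃ c ∈ C, c ∈ twoVec K m ∧ LinearEquiv.det (mon F K m c e σ) = 1
  move : ∀ (e : Fin m → K ≃ₐ[F] K) (σ : Equiv.Perm (Fin m)) i, σ ∈ Q → σ i ≠ i → ∃ d ∈ C, d ∈ twoVec K m ∧ LinearEquiv.det (dg F d) = 1 ∧
    d * tw e σ (tw e σ d) ≠ tw e σ d * tw e σ d
  fix : ∀ (e : Fin m → K ≃ₐ[F] K) i, e i ≠ 1 → ∃ d ∈ C, d ∈ twoVec K m ∧
    LinearEquiv.det (dg F d) = 1 ∧ d * tw e 1 (tw e 1 d) ≠ tw e 1 d * tw e 1 d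
  sep : ∀ i l, i ≠ l → ∃ d ∈ C, d ∈ twoVec K m ∧
    LinearEquiv.det (dg F d) = 1 ∧ minpoly F (d i : K) ≠ minpoly F (d l : K)
  gen : ∀ i, ∃ d ∈ C, d ∈ twoVec K m ∧
    LinearEquiv.det (dg F d) = 1 ∧ Algebra.adjoin F {(d i : K)} = ⊤
  dim : ∃ w : ℕ, Module.finrank F (Fin m → K) = 2 ^ w

variable [Finite K] [FiniteDimensional F K]
  {Γ : Subgroup ((Fin m → K) ≃ₗ[F] (Fin m → K))} {C : Subgroup (Fin m → Kˣ)}
  {Q : Subgroup (Equiv.Perm (Fin m))}

instance : Finite ((Fin m → K) ≃ₗ[F] (Fin m → K)) := DFunLike.finite _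

namespace Shape

theorem tw_mem (h : Shape Γ C Q) {e : Fin m → K ≃ₐ[F] K} {σ : Equiv.Perm (Fin m)} (hσ : σ ∈ Q)
    {c : Fin m → Kˣ} (hc : c ∈ C) : tw e σ c ∈ C := by
  have h1 : mon F K m 1 e σ * dg F c * (mon F K m 1 e σ)⁻¹ ∈ Γ :=
    mul_mem (mul_mem ((h.mem_iff 1 e σ hσ).2 C.one_mem) ((h.mem_iff c 1 1 Q.one_mem).2 hc))
      (inv_mem ((h.mem_iff 1 e σ hσ).2 C.one_mem))
  rw [mon_conj_dg] at h1
  exact (h.mem_iff _ 1 1 Q.one_mem).1 h1

/-- The monomial 2-group. -/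
def syl (h : Shape Γ C Q) : Subgroup ((Fin m → K) ≃ₗ[F] (Fin m → K)) :=
  let M : Submonoid ((Fin m → K) ≃ₗ[F] (Fin m → K)) :=
    { carrier := {g | LinearEquiv.det g = 1 ∧
        ∃ c e σ, σ ∈ Q ∧ c ∈ C ∧ c ∈ twoVec K m ∧ g = mon F K m c e σ}
      one_mem' := ⟨map_one _, 1, 1, 1, Q.one_mem, C.one_mem, Subgroup.one_mem _,
        (map_one (dg F)).symm⟩
      mul_mem' := by
        rintro a b ⟨hda, c, e, σ, hσ, hc, hc2, rfl⟩ ⟨hdb, c', e', σ', hσ', hc', hc2', rfl⟩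
        exact ⟨by rw [map_mul, hda, hdb, mul_one], _, _, _, Q.mul_mem hσ hσ',
          C.mul_mem hc (h.tw_mem hσ hc'), Subgroup.mul_mem _ hc2 (tw_twoVec hc2'),
          mon_mul c c' e e' σ σ'⟩ }
  { M with
    inv_mem' := fun {g} hg => by
      obtain ⟨k, hk⟩ : ∃ k : ℕ, g⁻¹ = g ^ k :=
        ⟨orderOf g - 1, inv_eq_of_mul_eq_one_right (by
          rw [← pow_succ', Nat.sub_add_cancel (orderOf_pos g), pow_orderOf_eq_one])⟩
      rw [hk]
      exact M.pow_mem hg k }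

theorem mem_syl (h : Shape Γ C Q) {g : (Fin m → K) ≃ₗ[F] (Fin m → K)} :
    g ∈ h.syl ↔ LinearEquiv.det g = 1 ∧
      ∃ c e σ, σ ∈ Q ∧ c ∈ C ∧ c ∈ twoVec K m ∧ g = mon F K m c e σ := Iff.rfl

theorem syl_le (h : Shape Γ C Q) {g : (Fin m → K) ≃ₗ[F] (Fin m → K)} (hg : g ∈ h.syl) :
    g ∈ Γ := by
  obtain ⟨-, c, e, σ, hσ, hc, -, rfl⟩ := hg
  exact (h.mem_iff c e σ hσ).2 hc

theorem dg_mem_syl (h : Shape Γ C Q) {d : Fin m → Kˣ} (hd : d ∈ C) (hd2 : d ∈ twoVec K m)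
    (hd1 : LinearEquiv.det (dg F d) = 1) : dg F d ∈ h.syl :=
  ⟨hd1, d, 1, 1, Q.one_mem, hd, hd2, rfl⟩

theorem isPGroup_syl (h : Shape Γ C Q) : IsPGroup 2 h.syl := by
  rintro ⟨g, hg⟩
  obtain ⟨k₁, hk₁⟩ : ∃ k : ℕ, ∃ c e, c ∈ twoVec K m ∧ g ^ (2 ^ k) = mon F K m c e 1 := by
    obtain ⟨-, c, e, σ, hσ, -, hc2, rfl⟩ := hg
    obtain ⟨k, hk⟩ := h.perm_two ⟨σ, hσ⟩
    have key : ∀ n : ℕ, ∃ c' e', c' ∈ twoVec K m ∧
        mon F K m c e σ ^ n = mon F K m c' e' (σ ^ n) := by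
      intro n
      induction n with
      | zero => exact ⟨1, 1, Subgroup.one_mem _, by rw [pow_zero, pow_zero]; exact (map_one (dg F)).symm⟩
      | succ n ih =>
        obtain ⟨c', e', hc', he⟩ := ih
        exact ⟨_, _, Subgroup.mul_mem _ hc' (tw_twoVec hc2),
          by rw [pow_succ, he, mon_mul, ← pow_succ]⟩
    obtain ⟨c', e', hc', he⟩ := key (2 ^ k)
    exact ⟨k, c', e', hc', by
      rw [he, show σ ^ (2 ^ k) = 1 from congrArg Subtype.val hk]⟩
  obtain ⟨c, e, hc, he⟩ := hk₁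
  have key : ∀ n : ℕ, ∃ c', c' ∈ twoVec K m ∧
      mon F K m c e 1 ^ n = mon F K m c' (e ^ n) 1 := by
    intro n
    induction n with
    | zero => exact ⟨1, Subgroup.one_mem _, by rw [pow_zero, pow_zero]; exact (map_one (dg F)).symm⟩
    | succ n ih =>
      obtain ⟨c', hc', he'⟩ := ih
      refine ⟨c' * tw (e ^ n) 1 c, Subgroup.mul_mem _ hc' (tw_twoVec hc), ?_⟩
      rw [pow_succ, he', mon_mul, mul_one]
      rfl
  have haut : ∀ j, e j ^ (2 ^ Nat.card (K ≃ₐ[F] K)) = 1 := fun j => by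
    haveI : Finite (K ≃ₐ[F] K) := DFunLike.finite _
    obtain ⟨k, hk⟩ := h.aut_two (e j)
    exact two_pow_card hk
  obtain ⟨c', hc', he'⟩ := key (2 ^ Nat.card (K ≃ₐ[F] K))
  rw [show e ^ (2 ^ Nat.card (K ≃ₐ[F] K)) = 1 from funext fun j => haut j] at he'
  refine ⟨k₁ + Nat.card (K ≃ₐ[F] K) + Nat.card Kˣ, Subtype.ext ?_⟩
  show g ^ _ = 1
  rw [pow_add, pow_add, pow_mul, pow_mul, he, he', show mon F K m c' 1 1 = dg F c' from rfl,
    ← map_pow, show c' ^ (2 ^ Nat.card Kˣ) = 1 from hc', map_one]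

theorem minpoly_eq_of_semiconj {f : K →ₗ[F] K} (hf : f ≠ 0) {a b : K}
    (h : ∀ y, f (a * y) = b * f y) : minpoly F b = minpoly F a := by
  have key : ∀ (P : F[X]) (y : K), f (aeval a P * y) = aeval b P * f y := by
    intro P
    induction P using Polynomial.induction_on' with
    | add p q hp hq => intro y; simp [add_mul, hp, hq]
    | monomial n r =>
      intro y
      have hpow : ∀ (k : ℕ) (z : K), f (a ^ k * z) = b ^ k * f z := by
        intro k
        induction k with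
        | zero => simp
        | succ k ih => intro z; rw [pow_succ, mul_assoc, ih, h, ← mul_assoc, ← pow_succ]
      simp only [aeval_monomial, ← Algebra.smul_def, smul_mul_assoc, map_smul, hpow]
  obtain ⟨y, hy⟩ : ∃ y, f y ≠ 0 := by
    by_contra hh
    push Not at hh
    exact hf (LinearMap.ext hh)
  refine (minpoly.eq_of_irreducible_of_monic (minpoly.irreducible (Algebra.IsIntegral.isIntegral a))
    ?_ (minpoly.monic (Algebra.IsIntegral.isIntegral a))).symm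
  have := key (minpoly F a) y
  rw [minpoly.aeval, zero_mul, map_zero] at this
  exact (mul_eq_zero.1 this.symm).resolve_right hy

theorem exists_algEquiv_of_semiconj {f : K →ₗ[F] K} (hf : Function.Injective f) {a b : K}
    (h : ∀ y, f (a * y) = b * f y) (ha : Algebra.adjoin F {a} = ⊤) :
    ∃ (c : Kˣ) (φ : K ≃ₐ[F] K), ∀ y, f y = c * φ y := by
  have h1 : f 1 ≠ 0 := fun h0 => one_ne_zero (hf (h0.trans (map_zero f).symm))
  let φ : K →ₗ[F] K := (Algebra.lmul F K (f 1)⁻¹).comp f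
  have hφ : ∀ y, φ y = (f 1)⁻¹ * f y := fun y => rfl
  have hmul : ∀ x y, φ (x * y) = φ x * φ y := by
    intro x
    have hx : x ∈ Algebra.adjoin F {a} := ha ▸ Algebra.mem_top
    induction hx using Algebra.adjoin_induction with
    | mem x hx =>
      intro y
      rw [Set.mem_singleton_iff] at hx
      subst hx
      have e1 : f x = b * f 1 := by simpa using h 1
      rw [hφ, hφ, hφ, h, e1]
      field_simp
    | algebraMap r =>
      intro y
      simp only [hφ, ← Algebra.smul_def, map_smul]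
      rw [Algebra.algebraMap_eq_smul_one, map_smul]
      simp only [Algebra.smul_def]
      field_simp
    | add u v _ _ hu hv => intro y; rw [add_mul, map_add, map_add, hu, hv, add_mul]
    | mul u v _ _ hu hv =>
      intro y
      rw [mul_assoc, hu, hv, hu, mul_assoc]
  let φh : K →ₐ[F] K := AlgHom.ofLinearMap φ (by rw [hφ, inv_mul_cancel₀ h1]) hmul
  refine ⟨Units.mk0 _ h1, AlgEquiv.ofBijective φh φh.bijective, fun y => ?_⟩
  show f y = f 1 * φ y
  rw [hφ, ← mul_assoc, mul_inv_cancel₀ h1, one_mul]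

/-- The conjugates of the diagonal part under a normalising element are diagonal. -/
theorem conj_dg_mem (h : Shape Γ C Q) {g : (Fin m → K) ≃ₗ[F] (Fin m → K)}
    (hg : ∀ x ∈ h.syl, g * x * g⁻¹ ∈ h.syl) (hg' : ∀ x ∈ h.syl, g⁻¹ * x * g ∈ h.syl)
    {d : Fin m → Kˣ} (hd : d ∈ C) (hd2 : d ∈ twoVec K m) (hd1 : LinearEquiv.det (dg F d) = 1) :
    ∃ d', g * dg F d * g⁻¹ = dg F d' := by
  have hdd : ∀ s ∈ h.syl, ∀ d : Fin m → Kˣ, d ∈ C → d ∈ twoVec K m →
      LinearEquiv.det (dg F d) = 1 →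
      ∃ d' : Fin m → Kˣ, d' ∈ C ∧ d' ∈ twoVec K m ∧ LinearEquiv.det (dg F d') = 1 ∧
        s * dg F d * s⁻¹ = dg F d' := by
    rintro s ⟨hs1, c, e, σ, hσ, hc, hc2, rfl⟩ d hd hd2 hd1
    refine ⟨tw e σ d, h.tw_mem hσ hd, tw_twoVec hd2, ?_, mon_conj_dg c d e σ⟩
    rw [← mon_conj_dg c d e σ, map_mul, map_mul, hd1, hs1, map_inv, hs1]
    simp
  obtain ⟨hdet, c, e, σ, hσ, hc, hc2, ha⟩ := hg _ (h.dg_mem_syl hd hd2 hd1)
  by_cases htriv : σ = 1 ∧ e = 1
  · exact ⟨c, by rw [ha, htriv.1, htriv.2]; rfl⟩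
  exfalso
  have hcomm : ∀ d₀ : Fin m → Kˣ, d₀ ∈ C → d₀ ∈ twoVec K m → LinearEquiv.det (dg F d₀) = 1 →
      d₀ * tw e σ (tw e σ d₀) = tw e σ d₀ * tw e σ d₀ := by
    intro d₀ h0 h02 h01
    set a := g * dg F d * g⁻¹ with haa
    set s := g⁻¹ * dg F d₀ * g
    obtain ⟨d₁, -, -, -, he⟩ := hdd s (hg' _ (h.dg_mem_syl h0 h02 h01)) d hd hd2 hd1
    have hu : dg F d₀ * a * (dg F d₀)⁻¹ = g * dg F d₁ * g⁻¹ := by
      rw [← he]; simp only [s, a]; group
    have hu2 : dg F d₀ * a * (dg F d₀)⁻¹ * a⁻¹ = dg F (d₀ * tw e σ d₀⁻¹) := by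
      rw [mul_assoc, mul_assoc, ← mul_assoc a, ← map_inv, ha, mon_conj_dg, map_mul]
    have hcm : a * (dg F d₀ * a * (dg F d₀)⁻¹ * a⁻¹) * a⁻¹ =
        dg F d₀ * a * (dg F d₀)⁻¹ * a⁻¹ := by
      rw [hu]
      have hc1 : Commute (dg F d) (dg F d₁) := by
        show _ * _ = _ * _
        rw [← map_mul, ← map_mul, mul_comm]
      have hc2' : Commute a (g * dg F d₁ * g⁻¹) := by
        rw [haa]
        have := hc1.map (MulAut.conj g).toMonoidHom
        simpa using this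
      rw [mul_inv_eq_iff_eq_mul]
      exact (hc2'.mul_right (Commute.refl a).inv_right).eq
    rw [hu2, ha, mon_conj_dg] at hcm
    have hk := dg_injective hcm
    rw [map_mul, map_inv, map_inv] at hk
    calc d₀ * tw e σ (tw e σ d₀)
        = (d₀ * (tw e σ d₀)⁻¹) * (tw e σ d₀ * tw e σ (tw e σ d₀)) := by group
      _ = (tw e σ d₀ * (tw e σ (tw e σ d₀))⁻¹) * (tw e σ d₀ * tw e σ (tw e σ d₀)) := by
          rw [hk]
      _ = tw e σ d₀ * tw e σ d₀ := by
          rw [mul_comm (tw e σ d₀) (tw e σ (tw e σ d₀)), mul_assoc, inv_mul_cancel_left]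
  by_cases hσ1 : σ = 1
  · obtain ⟨i, hi⟩ : ∃ i, e i ≠ 1 := by
      by_contra hh
      push Not at hh
      exact htriv ⟨hσ1, funext hh⟩
    obtain ⟨d₀, h0, h02, h01, hne⟩ := h.fix e i hi
    subst hσ1
    exact hne (hcomm d₀ h0 h02 h01)
  · obtain ⟨i, hi⟩ : ∃ i, σ i ≠ i := by
      by_contra hh
      push Not at hh
      exact hσ1 (Equiv.ext hh)
    obtain ⟨d₀, h0, h02, h01, hne⟩ := h.move e σ i hσ hi
    exact hne (hcomm d₀ h0 h02 h01)

/-- A normalising element is monomial. -/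
theorem exists_mon (h : Shape Γ C Q) {g : (Fin m → K) ≃ₗ[F] (Fin m → K)}
    (hg : ∀ x ∈ h.syl, g * x * g⁻¹ ∈ h.syl) (hg' : ∀ x ∈ h.syl, g⁻¹ * x * g ∈ h.syl) :
    ∃ c e σ, g = mon F K m c e σ := by
  classical
  let B : Fin m → Fin m → (K →ₗ[F] K) := fun k i =>
    (LinearMap.proj k).comp (g.toLinearMap.comp (LinearMap.single F (fun _ => K) i))
  have hB : ∀ k i y, B k i y = g (Pi.single i y) k := fun k i y => rfl
  have hsum : ∀ x k, g x k = ∑ i, B k i (x i) := by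
    intro x k
    conv_lhs => rw [← Finset.univ_sum_single x, map_sum, Finset.sum_apply]
    rfl
  have hrel : ∀ d : Fin m → Kˣ, d ∈ C → d ∈ twoVec K m → LinearEquiv.det (dg F d) = 1 →
      ∃ d' : Fin m → Kˣ, ∀ k i y, B k i ((d i : K) * y) = (d' k : K) * B k i y := by
    intro d hd hd2 hd1
    obtain ⟨d', hd'⟩ := h.conj_dg_mem hg hg' hd hd2 hd1
    refine ⟨d', fun k i y => ?_⟩
    have h1 : g * dg F d = dg F d' * g := by rw [← hd']; group
    have h2 : dg F d (Pi.single i y) = Pi.single i ((d i : K) * y) := by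
      funext j
      rcases eq_or_ne j i with rfl | hj
      · simp
      · simp [hj]
    have h3 := congrFun (LinearEquiv.congr_fun h1 (Pi.single i y)) k
    rw [LinearEquiv.mul_apply, LinearEquiv.mul_apply, h2, dg_apply] at h3
    exact h3
  have huniq : ∀ k i l, B k i ≠ 0 → B k l ≠ 0 → i = l := by
    intro k i l hi hl
    by_contra hne
    obtain ⟨d, hd, hd2, hd1, hmp⟩ := h.sep i l hne
    obtain ⟨d', hd'⟩ := hrel d hd hd2 hd1
    exact hmp ((minpoly_eq_of_semiconj hi (hd' k i)).symm.trans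
      (minpoly_eq_of_semiconj hl (hd' k l)))
  have hex : ∀ k, ∃ i, B k i ≠ 0 := by
    intro k
    by_contra hh
    push Not at hh
    obtain ⟨x, hx⟩ := g.surjective (Pi.single k 1)
    have := congrFun hx k
    rw [hsum] at this
    simp [hh] at this
  choose r hr using hex
  have hrs : Function.Surjective r := by
    intro i
    by_contra hh
    push Not at hh
    have : g (Pi.single i 1) = 0 := funext fun k => by
      rw [← hB, show B k i = 0 from not_not.1 fun hne => hh k (huniq k (r k) i (hr k) hne)]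
      rfl
    rw [LinearEquiv.map_eq_zero_iff, Pi.single_eq_zero_iff] at this
    exact one_ne_zero this
  have hrb : Function.Bijective r := hrs.bijective_of_finite
  have hgx : ∀ x k, g x k = B k (r k) (x (r k)) := fun x k => by
    rw [hsum]
    refine Finset.sum_eq_single (r k) (fun i _ hi => ?_) (by simp)
    rw [show B k i = 0 from not_not.1 fun hne => hi (huniq k i (r k) hne (hr k))]
    rfl
  have hinj : ∀ k, Function.Injective (B k (r k)) := by
    intro k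
    refine (injective_iff_map_eq_zero _).2 fun y hy => ?_
    have : g (Pi.single (r k) y) = 0 := funext fun k' => by
      rcases eq_or_ne k' k with rfl | hne
      · rw [← hB, hy]; rfl
      · rw [hgx, Pi.single_eq_of_ne (fun e => hne (hrb.1 e)), map_zero]; rfl
    rwa [LinearEquiv.map_eq_zero_iff, Pi.single_eq_zero_iff] at this
  have hsemi : ∀ k, ∃ (c : Kˣ) (φ : K ≃ₐ[F] K), ∀ y, B k (r k) y = c * φ y := by
    intro k
    obtain ⟨d, hd, hd2, hd1, hgen⟩ := h.gen (r k)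
    obtain ⟨d', hd'⟩ := hrel d hd hd2 hd1
    exact exists_algEquiv_of_semiconj (hinj k) (hd' k (r k)) hgen
  choose c φ hφ using hsemi
  refine ⟨c, φ, (Equiv.ofBijective r hrb).symm, LinearEquiv.ext fun x => funext fun k => ?_⟩
  rw [hgx, hφ, mon_apply, Equiv.symm_symm, Equiv.ofBijective_apply]

/-- The monomial 2-group is self-normalising. -/
theorem self_normalizing (h : Shape Γ C Q) {g : (Fin m → K) ≃ₗ[F] (Fin m → K)} (hgΓ : g ∈ Γ)
    (hgd : LinearEquiv.det g = 1) (hg : ∀ x ∈ h.syl, g * x * g⁻¹ ∈ h.syl) : g ∈ h.syl := by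
  have hg' : ∀ x ∈ h.syl, g⁻¹ * x * g ∈ h.syl := by
    have hmap : h.syl.map (MulAut.conj g).toMonoidHom = h.syl := by
      refine Subgroup.eq_of_le_of_card_ge ?_
        (le_of_eq (Subgroup.card_map_of_injective (MulAut.conj g).injective).symm)
      rintro _ ⟨x, hx, rfl⟩
      exact hg x hx
    intro x hx
    rw [← hmap] at hx
    obtain ⟨y, hy, rfl⟩ := hx
    simpa [mul_assoc] using hy
  obtain ⟨c, e, π, rfl⟩ := h.exists_mon hg hg'
  have hπ : π ∈ Q := by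
    refine h.perm_norm π fun σ hσ => ?_
    obtain ⟨c₀, hc₀, hc₀2, hc₀d⟩ := h.lift σ hσ 1
    obtain ⟨-, c₁, e₁, σ₁, hσ₁, -, -, he⟩ :=
      hg _ (⟨hc₀d, c₀, 1, σ, hσ, hc₀, hc₀2, rfl⟩ : mon F K m c₀ 1 σ ∈ h.syl)
    rw [mul_inv_eq_iff_eq_mul, mon_mul, mon_mul] at he
    rw [show π * σ = σ₁ * π from (mon_inj he).2.2, mul_inv_cancel_right]
    exact hσ₁
  have hc : c ∈ C := (h.mem_iff c e π hπ).1 hgΓ
  obtain ⟨c₁, hc₁, hc₁2, hc₁d⟩ := h.lift π hπ e
  have hc2C : c * c₁⁻¹ ∈ C := C.mul_mem hc (C.inv_mem hc₁)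
  set c₂ := c * c₁⁻¹ with hc₂
  have hg_eq : mon F K m c e π = dg F c₂ * mon F K m c₁ e π := by
    rw [dg_mul_mon, hc₂, inv_mul_cancel_right]
  have hsm : mon F K m c₁ e π ∈ h.syl := ⟨hc₁d, c₁, e, π, hπ, hc₁, hc₁2, rfl⟩
  have hd2 : LinearEquiv.det (dg F c₂) = 1 := by
    rw [hg_eq, map_mul, hc₁d, mul_one] at hgd
    exact hgd
  rw [hg_eq]
  refine Subgroup.mul_mem _ (h.dg_mem_syl hc2C ?_ hd2) hsm
  have hn : ∀ x ∈ h.syl, dg F c₂ * x * (dg F c₂)⁻¹ ∈ h.syl := by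
    intro x hx
    have h1 := hg _ (Subgroup.mul_mem _ (Subgroup.mul_mem _ (Subgroup.inv_mem _ hsm) hx) hsm)
    have e1 : mon F K m c e π * ((mon F K m c₁ e π)⁻¹ * x * mon F K m c₁ e π) *
        (mon F K m c e π)⁻¹ = dg F c₂ * x * (dg F c₂)⁻¹ := by
      rw [hg_eq]; group
    rwa [e1] at h1
  set y := c₂ ^ (2 ^ Nat.card Kˣ) with hy
  have hrel : ∀ σ ∈ Q, ∀ e₀ : Fin m → K ≃ₐ[F] K, tw e₀ σ y = y := by
    intro σ hσ e₀
    obtain ⟨c₀, hc₀, hc₀2, hc₀d⟩ := h.lift σ hσ e₀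
    obtain ⟨-, c₃, e₃, σ₃, -, -, hc₃2, he⟩ :=
      hn _ (⟨hc₀d, c₀, e₀, σ, hσ, hc₀, hc₀2, rfl⟩ : mon F K m c₀ e₀ σ ∈ h.syl)
    rw [mul_assoc, ← map_inv] at he
    rw [mon_mul_dg, dg_mul_mon, dg_mul_mon] at he
    have h3 := (mon_inj he).1
    have h4 : (c₂ * (tw e₀ σ c₂⁻¹)) ^ (2 ^ Nat.card Kˣ) = 1 := by
      have : c₂ * (tw e₀ σ c₂⁻¹) = c₃ * c₀⁻¹ := by
        rw [← h3, ← mul_assoc, mul_inv_cancel_right]
      rw [this]
      exact Subgroup.mul_mem _ hc₃2 (Subgroup.inv_mem _ hc₀2)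
    rw [mul_pow, ← map_pow, inv_pow, map_inv, ← hy, mul_inv_eq_one] at h4
    exact h4.symm
  rw [mem_twoVec]
  intro j
  show y j = 1
  have hconst : ∀ i, y i = y j := fun i => by
    obtain ⟨σ, hσ, hij⟩ := h.perm_trans j i
    have := congrFun (hrel σ hσ 1) i
    rw [← this]
    ext
    simp [← hij]
  have hfix : ∀ φ : K ≃ₐ[F] K, φ (y j : K) = y j := fun φ => by
    have := congrArg Units.val (congrFun (hrel 1 Q.one_mem fun _ => φ) j)
    simpa [Equiv.Perm.one_def] using this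
  obtain ⟨a, ha⟩ : (y j : K) ∈ Set.range (algebraMap F K) :=
    IsGalois.mem_range_algebraMap_iff_fixed _ |>.2 hfix
  have hdy : LinearEquiv.det (dg F y) = 1 := by rw [hy, map_pow, map_pow, hd2, one_pow]
  have hda : a ^ Module.finrank F (Fin m → K) = 1 := by
    have h1 : ((dg F y : (Fin m → K) ≃ₗ[F] (Fin m → K)) : (Fin m → K) →ₗ[F] (Fin m → K)) =
        a • LinearMap.id := by
      refine LinearMap.ext fun x => funext fun i => ?_
      simp [hconst i, ← ha, Algebra.smul_def]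
    have h2 := congrArg Units.val hdy
    rw [LinearEquiv.coe_det, h1, LinearMap.det_smul, LinearMap.det_id, mul_one] at h2
    simpa using h2
  obtain ⟨w, hw⟩ := h.dim
  rw [hw] at hda
  have h5 : y j ^ (2 ^ w) = 1 := Units.ext (by
    rw [Units.val_pow_eq_pow_val, ← ha, ← map_pow, hda, map_one]; rfl)
  have h6 : c₂ j ^ (2 ^ (Nat.card Kˣ + w)) = 1 := by
    rw [pow_add, pow_mul]; exact h5
  exact two_pow_card h6

end Shape

end Cfsg.Agent.Classical.OddPronormal
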