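import Mathlib
import Cfsg.Agent.Lib.Classical.Pronormal.Basic
import Cfsg.Agent.Lib.Classical.Pronormal.Monomial
import Cfsg.Agent.Lib.Lead.PairSylow

/-!
Sylow 2-subgroups of `SL_n(q)`, `n` a power of two and `q` odd, are self-normalising
(apart from `n = 2`, `q ≡ ±3 mod 8`).
-/

set_option autoImplicit false

open scoped MatrixGroups

namespace Cfsg.Agent.Classical.OddPronormal

/-- A Sylow 2-subgroup of the symmetric group of degree a power of two is transitive. -/
theorem sylow_perm_trans (m v : ℕ) (hm : m = 2 ^ v) (P : Sylow 2 (Equiv.Perm (Fin m)))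
    (i j : Fin m) : ∃ σ ∈ (P : Subgroup (Equiv.Perm (Fin m))), σ i = j := by
  haveI : Fact (Nat.Prime 2) := ⟨Nat.prime_two⟩
  set T : Subgroup (Equiv.Perm (Fin m)) := (P : Subgroup (Equiv.Perm (Fin m))) with hT
  set A := MulAction.stabilizer (Equiv.Perm (Fin m)) i with hA
  have h1 : A.index = m := by
    rw [hA, MulAction.index_stabilizer_of_transitive]
    simp
  have h2 : m ∣ (A.subgroupOf T).index := by
    obtain ⟨k, hk⟩ := IsPGroup.index (P.2) (A.subgroupOf T)
    have e1 : (A ⊓ T).relIndex T * T.index = (A ⊓ T).index :=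
      Subgroup.relIndex_mul_index inf_le_right
    have e2 : (A ⊓ T).relIndex A * A.index = (A ⊓ T).index :=
      Subgroup.relIndex_mul_index inf_le_left
    rw [Subgroup.inf_relIndex_right] at e1
    have hd : m ∣ A.relIndex T * T.index := by
      rw [e1, ← e2, h1]; exact Dvd.intro_left _ rfl
    have hco : Nat.Coprime m T.index := (congrArg (Nat.Coprime · T.index) hm).mpr
      (Nat.Coprime.pow_left _ ((Nat.Prime.coprime_iff_not_dvd Nat.prime_two).2 P.not_dvd_index))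
    exact hco.dvd_of_dvd_mul_right hd
  have hsub : A.subgroupOf T = MulAction.stabilizer (↥T) i := by
    ext x; rfl
  have h3 : (MulAction.orbit (↥T) i).ncard = m := by
    rw [← MulAction.index_stabilizer, ← hsub]
    refine le_antisymm ?_ (Nat.le_of_dvd (Nat.pos_of_ne_zero Subgroup.index_ne_zero_of_finite) h2)
    rw [hsub, MulAction.index_stabilizer]
    calc (MulAction.orbit (↥T) i).ncard ≤ (Set.univ : Set (Fin m)).ncard :=
          Set.ncard_le_ncard (Set.subset_univ _)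
      _ = m := by simp
  have h4 : MulAction.orbit (↥T) i = Set.univ :=
    Set.eq_of_subset_of_ncard_le (Set.subset_univ _) (by simp [h3])
  obtain ⟨σ, hσ⟩ : j ∈ MulAction.orbit (↥T) i := h4 ▸ Set.mem_univ j
  exact ⟨σ, σ.2, hσ⟩

variable {F K : Type*} [Field F] [Field K] [Algebra F K] [Finite K] [FiniteDimensional F K] {m : ℕ}

theorem finite_base (F K : Type*) [Field F] [Field K] [Algebra F K] [Finite K] : Finite F :=
  Finite.of_injective _ (algebraMap F K).injective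

/-- A 2-element scalar vector making a monomial map of determinant one. -/
theorem exists_lift (hA : IsPGroup 2 (K ≃ₐ[F] K)) {Q : Subgroup (Equiv.Perm (Fin m))}
    (hQ : IsPGroup 2 Q) (i₀ : Fin m) :
    ∀ σ ∈ Q, ∀ e : Fin m → K ≃ₐ[F] K, ∃ c ∈ (⊤ : Subgroup (Fin m → Kˣ)),
      c ∈ twoVec K m ∧ LinearEquiv.det (mon F K m c e σ) = 1 := by
  intro σ hσ e
  haveI : Finite F := finite_base F K
  haveI : Finite (K ≃ₐ[F] K) := DFunLike.finite _
  obtain ⟨y, hy⟩ : ∃ y : Fˣ, LinearEquiv.det (mon F K m 1 e σ) = y := ⟨_, rfl⟩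
  obtain ⟨k₁, hk₁⟩ := hQ ⟨σ, hσ⟩
  have key : ∀ n : ℕ, ∃ e', mon F K m 1 e σ ^ n = mon F K m 1 e' (σ ^ n) := by
    intro n
    induction n with
    | zero => exact ⟨1, by rw [pow_zero, pow_zero]; exact (map_one (dg F)).symm⟩
    | succ n ih =>
      obtain ⟨e', he⟩ := ih
      exact ⟨_, by rw [pow_succ, he, mon_mul, map_one, one_mul, ← pow_succ]⟩
  obtain ⟨e', he'⟩ := key (2 ^ k₁)
  rw [show σ ^ (2 ^ k₁) = 1 from congrArg Subtype.val hk₁] at he'
  have key2 : ∀ n : ℕ, mon F K m 1 e' 1 ^ n = mon F K m 1 (e' ^ n) 1 := by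
    intro n
    induction n with
    | zero => rw [pow_zero, pow_zero]; exact (map_one (dg F)).symm
    | succ n ih =>
      rw [pow_succ, ih, mon_mul, map_one, one_mul, mul_one]
      rfl
  set a := Nat.card (K ≃ₐ[F] K)
  have h1 : e' ^ (2 ^ a) = 1 := funext fun j => by
    obtain ⟨k, hk⟩ := hA (e' j)
    exact two_pow_card hk
  have hy2 : y ^ (2 ^ (k₁ + a)) = 1 := by
    rw [← hy, ← map_pow, pow_add, pow_mul, he', key2, h1,
      show mon F K m (1 : Fin m → Kˣ) 1 1 = dg F 1 from rfl, map_one, map_one]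
  obtain ⟨x, hx⟩ := FiniteField.norm_surjective F K ((y⁻¹ : Fˣ) : F)
  have hx0 : x ≠ 0 := fun h0 => y⁻¹.ne_zero (by rw [← hx, h0, Algebra.norm_zero])
  set X := Units.mk0 x hx0
  set t := ordCompl[2] (orderOf X) with ht
  have ht2 : t.Coprime (2 ^ (k₁ + a)) :=
    Nat.Coprime.pow_right _ (Nat.coprime_ordCompl Nat.prime_two (orderOf_pos X).ne').symm
  obtain ⟨s, hs⟩ := exists_pow_eq_self_of_coprime (x := y⁻¹) (n := t)
    (ht2.coprime_dvd_right (orderOf_dvd_of_pow_eq_one (by rw [inv_pow, hy2, inv_one])))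
  refine ⟨Pi.mulSingle i₀ (X ^ (t * s)), Subgroup.mem_top _, ?_, ?_⟩
  · refine mem_twoVec_of_pow fun j => ⟨(orderOf X).factorization 2, ?_⟩
    rcases eq_or_ne j i₀ with rfl | hj
    · rw [Pi.mulSingle_eq_same, ← pow_mul]
      refine orderOf_dvd_iff_pow_eq_one.1 ⟨s, ?_⟩
      rw [← Nat.ordProj_mul_ordCompl_eq_self (orderOf X) 2, ← ht]
      rw [Nat.ordProj_mul_ordCompl_eq_self (orderOf X) 2]
      conv_rhs => rw [← Nat.ordProj_mul_ordCompl_eq_self (orderOf X) 2, ← ht]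
      ring
    · rw [Pi.mulSingle_eq_of_ne hj, one_pow]
  · rw [← mul_one (Pi.mulSingle (M := fun _ : Fin m => Kˣ) i₀ (X ^ (t * s))), ← dg_mul_mon,
      map_mul, hy]
    have hyu : (y⁻¹) ^ (t * s) = y⁻¹ := by rw [pow_mul, hs]
    have hd : LinearEquiv.det (dg F (Pi.mulSingle i₀ (X ^ (t * s)))) = y⁻¹ := by
      rw [← hyu]
      apply Units.ext
      rw [det_dg, Finset.prod_eq_single i₀ (fun j _ hj => by rw [Pi.mulSingle_eq_of_ne hj]; simp)
        (by simp), Pi.mulSingle_eq_same, Units.val_pow_eq_pow_val, map_pow, Units.val_pow_eq_pow_val,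
        show (X : K) = x from rfl, hx]
    rw [hd, inv_mul_cancel]

omit [Finite K] in
theorem det_dg_single (i : Fin m) (x : Kˣ) :
    ((LinearEquiv.det (dg F (Pi.mulSingle i x)) : Fˣ) : F) = Algebra.norm F (x : K) := by
  rw [det_dg, Finset.prod_eq_single i (fun j _ hj => by rw [Pi.mulSingle_eq_of_ne hj]; simp)
    (by simp), Pi.mulSingle_eq_same]

omit [Finite K] in
theorem det_dg_pair (i k : Fin m) (x : Kˣ) :
    LinearEquiv.det (dg F (Pi.mulSingle i x * Pi.mulSingle k x⁻¹)) = 1 := by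
  apply Units.ext
  rw [map_mul, map_mul, Units.val_mul, det_dg_single, det_dg_single, ← map_mul]
  simp

omit [Algebra F K] [FiniteDimensional F K] in
theorem single_twoVec (i : Fin m) {x : Kˣ} {k : ℕ} (hx : x ^ (2 ^ k) = 1) :
    Pi.mulSingle i x ∈ twoVec K m :=
  mem_twoVec_of_pow fun j => ⟨k, by
    rcases eq_or_ne j i with rfl | hj
    · rw [Pi.mulSingle_eq_same, hx]
    · rw [Pi.mulSingle_eq_of_ne hj, one_pow]⟩

theorem exists_orderOf_units (K : Type*) [Field K] [Finite K] {d : ℕ}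
    (hd : d ∣ Nat.card Kˣ) : ∃ x : Kˣ, orderOf x = d := by
  obtain ⟨g, hg⟩ := IsCyclic.exists_ofOrder_eq_natCard (α := Kˣ)
  exact ⟨g ^ (Nat.card Kˣ / d), by
    rw [← hg] at hd ⊢
    exact orderOf_pow_orderOf_div (orderOf_pos g).ne' hd⟩

theorem pow_ne_one_of_orderOf {M : Type*} [Monoid M] {x : M} {d k : ℕ} (hx : orderOf x = d)
    (hk : ¬ d ∣ k) : x ^ k ≠ 1 := fun h => hk (hx ▸ orderOf_dvd_of_pow_eq_one h)

omit [Finite K] [Algebra F K] [FiniteDimensional F K] [Field K] in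
theorem exists_third (hm : 4 ≤ m) (a b c : Fin m) : ∃ k, k ≠ a ∧ k ≠ b ∧ k ≠ c := by
  classical
  obtain ⟨k, -, hk⟩ := Finset.exists_mem_notMem_of_card_lt_card (s := ({a, b, c} : Finset (Fin m)))
    (t := Finset.univ) (Finset.card_le_three.trans_lt (by simp; omega))
  simp only [Finset.mem_insert, Finset.mem_singleton, not_or] at hk
  exact ⟨k, hk⟩

section Split

variable (F : Type*) [Field F] [Finite F]

instance subsingleton_algAut : Subsingleton (F ≃ₐ[F] F) :=
  ⟨fun a b => AlgEquiv.ext fun x => by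
    rw [show x = algebraMap F F x from rfl, a.commutes, b.commutes]⟩

/-- `q ≡ 1 mod 4`. -/
theorem shape_split {w : ℕ} (hw : 1 ≤ w) (hq : Nat.card F % 4 = 1)
    (h2 : w = 1 → Nat.card F % 8 = 1) :
    ∃ Q : Subgroup (Equiv.Perm (Fin (2 ^ w))),
      Shape (⊤ : Subgroup ((Fin (2 ^ w) → F) ≃ₗ[F] (Fin (2 ^ w) → F))) ⊤ Q := by
  haveI : Fact (Nat.Prime 2) := ⟨Nat.prime_two⟩
  obtain ⟨P⟩ := (inferInstance : Nonempty (Sylow 2 (Equiv.Perm (Fin (2 ^ w)))))
  have hA : IsPGroup 2 (F ≃ₐ[F] F) := fun g => ⟨0, Subsingleton.elim _ _⟩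
  obtain ⟨ζ, hζ⟩ := exists_orderOf_units F (d := if w = 1 then 8 else 4) (by
    rw [Nat.card_units]
    split_ifs with h
    · have := h2 h; omega
    · omega)
  have hζ2 : ∃ k, ζ ^ (2 ^ k) = 1 := by
    split_ifs at hζ with h
    · exact ⟨3, by rw [show 2 ^ 3 = orderOf ζ from hζ.symm, pow_orderOf_eq_one]⟩
    · exact ⟨2, by rw [show 2 ^ 2 = orderOf ζ from hζ.symm, pow_orderOf_eq_one]⟩
  obtain ⟨kζ, hkζ⟩ := hζ2
  have hkζ' : ζ⁻¹ ^ (2 ^ kζ) = 1 := by rw [inv_pow, hkζ, inv_one]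
  have hsq : ζ ^ 2 ≠ 1 := pow_ne_one_of_orderOf hζ (by split_ifs <;> omega)
  refine ⟨P, P.2, fun π hπ => Cfsg.Agent.Lead.mem_sylow_two_perm_of_normalize _ P π hπ,
    sylow_perm_trans _ w rfl P, hA, fun c e σ _ => by simp,
    exists_lift hA P.2 ⟨0, by positivity⟩, ?_, ?_, ?_, ?_, ⟨w, by simp⟩⟩
  · intro e σ i _ hi
    obtain ⟨k, hk1, hk2, hk3⟩ : ∃ k, k ≠ i ∧ (w = 1 ∧ k = σ i ∧ k = σ.symm i ∨
        k ≠ σ i ∧ k ≠ σ.symm i) ∧ True := by
      rcases Nat.lt_or_ge w 2 with h | h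
      · have hw1 : w = 1 := by omega
        subst hw1
        refine ⟨σ i, hi, Or.inl ⟨rfl, rfl, ?_⟩, trivial⟩
        have h' : σ.symm i ≠ i := fun he => hi (by rw [← he, Equiv.apply_symm_apply, he])
        revert hi h'
        generalize σ i = a
        generalize σ.symm i = b
        revert i a b
        decide
      · obtain ⟨k, a, b, c⟩ := exists_third (m := 2 ^ w)
          (le_trans (by norm_num) (Nat.pow_le_pow_right two_pos h)) i (σ i) (σ.symm i)
        exact ⟨k, a, Or.inr ⟨b, c⟩, trivial⟩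
    refine ⟨Pi.mulSingle i ζ * Pi.mulSingle k ζ⁻¹, Subgroup.mem_top _,
      Subgroup.mul_mem _ (single_twoVec i hkζ) (single_twoVec k hkζ'), det_dg_pair i k ζ, ?_⟩
    intro hh
    have hh' := congrFun hh (σ i)
    have hone : ∀ (φ : F ≃ₐ[F] F) (x : F), φ x = x := fun φ x => by
      rw [Subsingleton.elim φ 1]; rfl
    have h' : σ.symm i ≠ i := fun he => hi (by rw [← he, Equiv.apply_symm_apply, he])
    have hh'' := congrArg Units.val hh'
    simp only [Pi.mul_apply, Units.val_mul, tw_apply, Equiv.symm_apply_apply, hone,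
      Pi.mulSingle_eq_same, Pi.mulSingle_eq_of_ne hi, Pi.mulSingle_eq_of_ne h', one_mul,
      Pi.mulSingle_eq_of_ne hk1.symm] at hh''
    rcases hk2 with ⟨hw1, e1, e2⟩ | ⟨e1, e2⟩
    · rw [← e1, ← e2, Pi.mulSingle_eq_same] at hh''
      have h4 : ζ ^ 4 = 1 := by
        have : ζ * ζ = ζ⁻¹ * ζ⁻¹ := Units.ext (by simpa using hh''.symm)
        rw [show ζ ^ 4 = (ζ * ζ) * (ζ * ζ) by rw [← sq ζ, ← pow_add]]
        nth_rewrite 1 [this]
        group
      rw [if_pos hw1] at hζ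
      exact pow_ne_one_of_orderOf hζ (by omega) h4
    · simp only [Pi.mulSingle_eq_of_ne e1.symm, Pi.mulSingle_eq_of_ne e2.symm,
        Units.val_one, mul_one, one_mul] at hh''
      exact hsq (Units.ext (by simpa [sq] using hh''.symm))
  · intro e i he
    exact absurd (Subsingleton.elim _ _) he
  · intro i l hil
    refine ⟨Pi.mulSingle i ζ * Pi.mulSingle l ζ⁻¹, Subgroup.mem_top _,
      Subgroup.mul_mem _ (single_twoVec i hkζ) (single_twoVec l hkζ'), det_dg_pair i l ζ, ?_⟩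
    simp only [Pi.mul_apply, Pi.mulSingle_eq_same, Pi.mulSingle_eq_of_ne hil,
      Pi.mulSingle_eq_of_ne hil.symm, mul_one, one_mul]
    rw [minpoly.eq_X_sub_C' (ζ : F), minpoly.eq_X_sub_C' ((ζ⁻¹ : Fˣ) : F)]
    intro h
    have h' : ζ = ζ⁻¹ := Units.ext (Polynomial.C_injective (by linear_combination -h))
    exact hsq (by rw [sq]; nth_rewrite 2 [h']; exact mul_inv_cancel ζ)
  · intro i
    exact ⟨1, one_mem _, one_mem _, by rw [map_one, map_one], Subsingleton.elim _ _⟩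

end Split

section NonSplit

variable (F : Type*) [Field F] [Finite F]

/-- `q ≡ 3 mod 4`. -/
theorem shape_nonsplit {K : Type*} [Field K] [Algebra F K] [Finite K] [FiniteDimensional F K]
    (hK : Module.finrank F K = 2) {v : ℕ} (hq : Nat.card F % 4 = 3)
    (h2 : v = 0 → Nat.card F % 8 = 7) :
    ∃ Q : Subgroup (Equiv.Perm (Fin (2 ^ v))),
      Shape (⊤ : Subgroup ((Fin (2 ^ v) → K) ≃ₗ[F] (Fin (2 ^ v) → K))) ⊤ Q := by
  haveI : Fact (Nat.Prime 2) := ⟨Nat.prime_two⟩
  haveI := Fintype.ofFinite F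
  haveI := Fintype.ofFinite K
  haveI : Finite (K ≃ₐ[F] K) := DFunLike.finite _
  obtain ⟨P⟩ := (inferInstance : Nonempty (Sylow 2 (Equiv.Perm (Fin (2 ^ v)))))
  set q := Nat.card F with hqdef
  have hKc : Nat.card K = q ^ 2 := by rw [Module.natCard_eq_pow_finrank (K := F) (V := K), hK]
  have h8 : 8 ∣ Nat.card Kˣ := by
    rw [Nat.card_units, hKc]
    obtain ⟨a, ha⟩ : ∃ a, q = 4 * a + 3 := ⟨q / 4, by omega⟩
    refine ⟨(2 * a + 1) * (a + 1), ?_⟩
    have : (4 * a + 3) ^ 2 = 8 * ((2 * a + 1) * (a + 1)) + 1 := by ring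
    rw [ha, this]; omega
  have hAcard : Nat.card (K ≃ₐ[F] K) = 2 := by
    rw [IsGalois.card_aut_eq_finrank, hK]
  have hA : IsPGroup 2 (K ≃ₐ[F] K) := IsPGroup.of_card (n := 1) (by rw [hAcard, pow_one])
  have hAsq : ∀ (φ : K ≃ₐ[F] K) (x : K), φ (φ x) = x := by
    intro φ x
    have h := pow_card_eq_one' (x := φ)
    rw [hAcard, sq] at h
    exact AlgEquiv.congr_fun h x
  have hfr : ∀ φ : K ≃ₐ[F] K, φ ≠ 1 → ∀ x, φ x = x ^ q := by
    intro φ hφ x
    obtain ⟨⟨i, hi⟩, rfl⟩ := (FiniteField.bijective_frobeniusAlgEquivOfAlgebraic_pow F K).2 φ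
    have hi' : i < 2 := hK ▸ hi
    interval_cases i
    · exact absurd (pow_zero _) hφ
    · simp [hqdef, Nat.card_eq_fintype_card]
  obtain ⟨ζ, hζ⟩ := exists_orderOf_units K h8
  have hζ3 : ζ ^ (2 ^ 3) = 1 := by rw [show 2 ^ 3 = orderOf ζ from hζ.symm, pow_orderOf_eq_one]
  have hζ3' : ζ⁻¹ ^ (2 ^ 3) = 1 := by rw [inv_pow, hζ3, inv_one]
  set η := ζ ^ 2 with hηdef
  have hη2 : η ^ (2 ^ 3) = 1 := by rw [hηdef, ← pow_mul, mul_comm, pow_mul, hζ3, one_pow]
  have hηne : η ^ 2 ≠ 1 := by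
    rw [hηdef, ← pow_mul]; exact pow_ne_one_of_orderOf hζ (by norm_num)
  have hnorm : ∀ x : Kˣ, x ^ (q + 1) = 1 → Algebra.norm F (x : K) = 1 := by
    intro x hx
    apply (algebraMap F K).injective
    rw [FiniteField.algebraMap_norm_eq_pow, map_one, hKc, ← hqdef,
      show (q ^ 2 - 1) / (q - 1) = q + 1 from ?_, ← Units.val_pow_eq_pow_val, hx, Units.val_one]
    apply Nat.div_eq_of_eq_mul_left (by omega)
    rw [← Nat.sq_sub_sq q 1, one_pow]
  have hηnorm : Algebra.norm F (η : K) = 1 := hnorm η (by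
    obtain ⟨a, ha⟩ : ∃ a, q + 1 = 4 * a := ⟨(q + 1) / 4, by omega⟩
    rw [ha, hηdef, ← pow_mul, show 2 * (4 * a) = 2 ^ 3 * a by ring, pow_mul, hζ3, one_pow])
  have hηdet : ∀ i : Fin (2 ^ v), LinearEquiv.det (dg F (Pi.mulSingle i η)) = 1 := fun i =>
    Units.ext (by rw [det_dg_single, hηnorm, Units.val_one])
  have hηne' : ∀ r : F, algebraMap F K r ≠ (η : K) := by
    intro r hr
    have hr0 : r ≠ 0 := fun h0 => η.ne_zero (by rw [← hr, h0, map_zero])
    have h1 : r ^ (q - 1) = 1 := by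
      rw [hqdef, Nat.card_eq_fintype_card]; exact FiniteField.pow_card_sub_one_eq_one r hr0
    have h2' : η ^ (q - 1) = 1 := Units.ext (by
      rw [Units.val_pow_eq_pow_val, ← hr, ← map_pow, h1, map_one, Units.val_one])
    rw [hηdef, ← pow_mul] at h2'
    exact pow_ne_one_of_orderOf hζ (by omega) h2'
  refine ⟨P, P.2, fun π hπ => Cfsg.Agent.Lead.mem_sylow_two_perm_of_normalize _ P π hπ,
    sylow_perm_trans _ v rfl P, hA, fun c e σ _ => by simp,
    exists_lift hA P.2 ⟨0, by positivity⟩, ?_, ?_, ?_, ?_, ⟨v + 1, ?_⟩⟩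
  · intro e σ i _ hi
    refine ⟨Pi.mulSingle i η, Subgroup.mem_top _, single_twoVec i hη2, hηdet i, ?_⟩
    intro hh
    have h' : σ.symm i ≠ i := fun he => hi (by rw [← he, Equiv.apply_symm_apply, he])
    have hh' := congrArg Units.val (congrFun hh (σ i))
    simp only [Pi.mul_apply, Units.val_mul, tw_apply, Equiv.symm_apply_apply,
      Pi.mulSingle_eq_same, Pi.mulSingle_eq_of_ne hi, Pi.mulSingle_eq_of_ne h', Units.val_one,
      map_one, one_mul] at hh'
    refine hηne (Units.ext ((e (σ i)).injective ?_))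
    rw [Units.val_pow_eq_pow_val, map_pow, Units.val_one, map_one, sq]
    exact hh'.symm
  · intro e i hei
    obtain ⟨d, hd2, hdd, hdi⟩ : ∃ d : Fin (2 ^ v) → Kˣ, d ∈ twoVec K (2 ^ v) ∧
        LinearEquiv.det (dg F d) = 1 ∧ d i = ζ := by
      rcases Nat.eq_zero_or_pos v with h | h
      · refine ⟨Pi.mulSingle i ζ, single_twoVec i hζ3, Units.ext ?_, Pi.mulSingle_eq_same ..⟩
        rw [det_dg_single, Units.val_one]
        refine hnorm ζ ?_
        have := h2 h
        obtain ⟨a, ha⟩ : ∃ a, q + 1 = 2 ^ 3 * a := ⟨(q + 1) / 8, by omega⟩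
        rw [ha, pow_mul, hζ3, one_pow]
      · obtain ⟨k, hk⟩ : ∃ k : Fin (2 ^ v), k ≠ i := by
          have : Nontrivial (Fin (2 ^ v)) := Fin.nontrivial_iff_two_le.mpr
            (le_trans (by norm_num) (Nat.pow_le_pow_right two_pos h))
          exact exists_ne i
        exact ⟨_, Subgroup.mul_mem _ (single_twoVec i hζ3) (single_twoVec k hζ3'),
          det_dg_pair i k ζ, by simp [Pi.mulSingle_eq_of_ne hk.symm]⟩
    refine ⟨d, Subgroup.mem_top _, hd2, hdd, fun hh => ?_⟩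
    have hh' := congrArg Units.val (congrFun hh i)
    simp only [Pi.mul_apply, Units.val_mul, tw_apply, Equiv.Perm.one_def, Equiv.refl_symm,
      Equiv.refl_apply, hdi] at hh'
    rw [hAsq, hfr _ hei] at hh'
    have h' : ζ ^ 2 = ζ ^ (2 * q) := Units.ext (by
      rw [Units.val_pow_eq_pow_val, Units.val_pow_eq_pow_val, sq, hh', pow_mul', sq])
    rw [pow_eq_pow_iff_modEq, hζ] at h'
    unfold Nat.ModEq at h'
    omega
  · intro i l hil
    refine ⟨Pi.mulSingle l η, Subgroup.mem_top _, single_twoVec l hη2, hηdet l, ?_⟩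
    rw [Pi.mulSingle_eq_same, Pi.mulSingle_eq_of_ne hil, Units.val_one, minpoly.one]
    intro h
    refine hηne' 1 ?_
    have := minpoly.aeval F (η : K)
    rw [← h] at this
    simp at this
    rw [map_one]
    first | exact (sub_eq_zero.1 this).symm | exact (sub_eq_zero.1 this.symm).symm | exact this.symm | exact this
  · intro i
    refine ⟨Pi.mulSingle i η, Subgroup.mem_top _, single_twoVec i hη2, hηdet i, ?_⟩
    rw [Pi.mulSingle_eq_same]
    haveI := Subalgebra.isSimpleOrder_of_finrank_prime F K (hK ▸ Nat.prime_two)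
    refine (eq_bot_or_eq_top _).resolve_left fun hb => ?_
    have hmem : (η : K) ∈ (⊥ : Subalgebra F K) := hb ▸ Algebra.subset_adjoin (Set.mem_singleton _)
    obtain ⟨r, hr⟩ := Algebra.mem_bot.1 hmem
    exact hηne' r hr
  · rw [Module.finrank_pi_fintype]
    simp [hK, pow_succ]

end NonSplit

/-- Transfer of a shape to the special linear group of matrices. -/
theorem exists_sylow_sl {n : ℕ} {Q : Subgroup (Equiv.Perm (Fin m))}
    (h : Shape (⊤ : Subgroup ((Fin m → K) ≃ₗ[F] (Fin m → K))) ⊤ Q)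
    (hn : Module.finrank F (Fin m → K) = n) :
    ∃ T : Sylow 2 SL(n, F), ∀ g : SL(n, F),
      (∀ x ∈ (T : Subgroup SL(n, F)), g * x * g⁻¹ ∈ (T : Subgroup SL(n, F))) →
        g ∈ (T : Subgroup SL(n, F)) := by
  classical
  haveI : Finite F := finite_base F K
  let b : (Fin m → K) ≃ₗ[F] (Fin n → F) := (Module.finBasisOfFinrankEq F _ hn).equivFun
  let ψ : SL(n, F) →* ((Fin m → K) ≃ₗ[F] (Fin m → K)) :=
    { toFun := fun A => (b.trans (Matrix.SpecialLinearGroup.toLin' A)).trans b.symm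
      map_one' := by ext x; simp
      map_mul' := fun A B => by ext x; simp [LinearEquiv.mul_apply] }
  have hψ : Function.Injective ψ := by
    intro A B hAB
    apply Matrix.SpecialLinearGroup.toLin'_injective
    apply LinearEquiv.ext
    intro x
    have := LinearEquiv.congr_fun hAB (b.symm x)
    simpa [ψ] using this
  have hdet : ∀ A, LinearEquiv.det (ψ A) = 1 := by
    intro A
    have := LinearEquiv.det_conj (Matrix.SpecialLinearGroup.toLin' A) b.symm
    rw [LinearEquiv.symm_symm] at this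
    apply Units.ext
    show ((LinearEquiv.det ((b.trans (Matrix.SpecialLinearGroup.toLin' A)).trans b.symm) : Fˣ) : F) = 1
    rw [this, LinearEquiv.coe_det, Matrix.SpecialLinearGroup.toLin'_to_linearMap,
      LinearMap.det_toLin', A.2]
  have hsurj : ∀ g, LinearEquiv.det g = 1 → ∃ A, ψ A = g := by
    intro g hg
    have hg' : (LinearMap.toMatrix' (((b.symm.trans g).trans b : (Fin n → F) ≃ₗ[F] (Fin n → F)) :
        (Fin n → F) →ₗ[F] (Fin n → F))).det = 1 := by
      rw [LinearMap.det_toMatrix', ← LinearEquiv.coe_det, LinearEquiv.det_conj, hg, Units.val_one]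
    refine ⟨⟨_, hg'⟩, LinearEquiv.ext fun x => ?_⟩
    show b.symm (Matrix.SpecialLinearGroup.toLin' _ (b x)) = g x
    show b.symm (Matrix.toLin' (LinearMap.toMatrix' (((b.symm.trans g).trans b :
      (Fin n → F) ≃ₗ[F] (Fin n → F)) : (Fin n → F) →ₗ[F] (Fin n → F))) (b x)) = g x
    rw [Matrix.toLin'_toMatrix']
    simp
  have hsyl : ∀ g : SL(n, F), (∀ x ∈ h.syl.comap ψ, g * x * g⁻¹ ∈ h.syl.comap ψ) →
      g ∈ h.syl.comap ψ := by
    intro g hg
    refine h.self_normalizing (Subgroup.mem_top _) (hdet g) fun x hx => ?_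
    obtain ⟨A, rfl⟩ := hsurj x hx.1
    simpa using hg A hx
  obtain ⟨T, hT⟩ := exists_sylow_of_self_normalizing (h.syl.comap ψ)
    (h.isPGroup_syl.comap_of_injective ψ hψ) hsyl
  exact ⟨T, fun g hg => hT ▸ hsyl g (hT ▸ hg)⟩

/-- The Sylow 2-subgroups of `SL_n(q)` are self-normalising in the generic case. -/
theorem exists_self_normalizing_sylow (F : Type*) [Field F] [Fintype F] (w : ℕ) (hw : 1 ≤ w)
    (hodd : Fintype.card F % 2 = 1)
    (h2 : w = 1 → Fintype.card F % 8 = 1 ∨ Fintype.card F % 8 = 7) :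
    ∃ T : Sylow 2 SL(2 ^ w, F), ∀ g : SL(2 ^ w, F),
      (∀ x ∈ (T : Subgroup SL(2 ^ w, F)), g * x * g⁻¹ ∈ (T : Subgroup SL(2 ^ w, F))) →
        g ∈ (T : Subgroup SL(2 ^ w, F)) := by
  rcases (by omega : Fintype.card F % 4 = 1 ∨ Fintype.card F % 4 = 3) with h4 | h4
  · obtain ⟨Q, hQ⟩ := shape_split F hw (by rwa [Nat.card_eq_fintype_card])
      (fun h => by rw [Nat.card_eq_fintype_card]; have := h2 h; omega)
    exact exists_sylow_sl hQ (by simp)
  · obtain ⟨p, hp⟩ := CharP.exists F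
    haveI : Fact p.Prime := ⟨CharP.char_is_prime F p⟩
    obtain ⟨v, rfl⟩ : ∃ v, w = v + 1 := ⟨w - 1, by omega⟩
    obtain ⟨Q, hQ⟩ := shape_nonsplit F (FiniteField.finrank_extension F p 2) (v := v)
      (by rwa [Nat.card_eq_fintype_card])
      (fun h => by rw [Nat.card_eq_fintype_card]; have := h2 (by omega); omega)
    exact exists_sylow_sl hQ (by
      rw [Module.finrank_pi_fintype]; simp [FiniteField.finrank_extension, pow_succ])

end Cfsg.Agent.Classical.OddPronormal
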