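import Cfsg.Agent.Lib.Classical.Pronormal.SpSylow

/-!
Subgroups of odd order of `Sp₄(q)` normalised by a quaternion group of a coordinate plane.
-/

set_option autoImplicit false
set_option linter.unusedSectionVars false

open scoped Matrix Pointwise

namespace Cfsg.Agent.Classical.SpPro

universe u v

variable {F : Type u} [Field F] [Fintype F]
  {Q : Sylow 2 (Matrix.SpecialLinearGroup (Fin 2) F)}
  {i j : Matrix.SpecialLinearGroup (Fin 2) F}

local notation "M2" => Matrix (Fin 2) (Fin 2) F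
local notation "SL2" => Matrix.SpecialLinearGroup (Fin 2) F
local notation "G4" => Ug F (Fin 2)

theorem scalar_of_adj_eq (h2 : (2 : F) ≠ 0) {A : M2} (h : A.adjugate = A) :
    A = A 0 0 • (1 : M2) := by
  have h01 := congrFun (congrFun h 0) 1
  have h10 := congrFun (congrFun h 1) 0
  have h00 := congrFun (congrFun h 0) 0
  simp [Matrix.adjugate_fin_two] at h01 h10 h00
  refine Matrix.ext fun a b => ?_
  fin_cases a <;> fin_cases b <;> simp
  · exact (mul_eq_zero.1 (show (2 : F) * A 0 1 = 0 by linear_combination -h01)).resolve_left h2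
  · exact (mul_eq_zero.1 (show (2 : F) * A 1 0 = 0 by linear_combination -h10)).resolve_left h2
  · exact h00

theorem one_add_pow_of_sq_zero {R : Type*} [Ring R] {N : R} (h : N * N = 0) :
    ∀ n : ℕ, (1 + N) ^ n = 1 + n • N
  | 0 => by simp
  | n + 1 => by
    rw [pow_succ, one_add_pow_of_sq_zero h n, succ_nsmul, mul_add, mul_one, add_mul, one_mul,
      smul_mul_assoc, h, smul_zero, add_zero, add_assoc]

theorem eq_one_of_pow_four {G : Type*} [Group G] {a : G} (ho : Odd (orderOf a)) (h4 : a ^ 4 = 1) :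
    a = 1 := by
  have hd := orderOf_dvd_of_pow_eq_one h4
  have hle : orderOf a ≤ 4 := Nat.le_of_dvd (by norm_num) hd
  rw [← orderOf_eq_one_iff]
  interval_cases h : orderOf a <;> simp_all (config := { decide := true })

theorem diag_neg_comm (h2 : (2 : F) ≠ 0) {Z : Matrix (Fin 2) (Fin 2) M2}
    (h : Matrix.diagonal ![(-1 : M2), 1] * Z = Z * Matrix.diagonal ![(-1 : M2), 1]) :
    Z 0 1 = 0 ∧ Z 1 0 = 0 := by
  have h01 := congrFun (congrFun h 0) 1
  have h10 := congrFun (congrFun h 1) 0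
  rw [Matrix.diagonal_mul, Matrix.mul_diagonal] at h01 h10
  simp at h01 h10
  refine ⟨?_, ?_⟩
  · have h' : (2 : F) • Z 0 1 = 0 := by
      rw [two_smul]
      nth_rewrite 1 [← h01]
      exact neg_add_cancel _
    exact (smul_eq_zero.1 h').resolve_left h2
  · have h' : (2 : F) • Z 1 0 = 0 := by
      rw [two_smul]
      nth_rewrite 1 [h10]
      exact neg_add_cancel _
    exact (smul_eq_zero.1 h').resolve_left h2

/-- Shape of an element inverted by the diagonal involution. -/
def IsInv (A : Matrix (Fin 2) (Fin 2) M2) (s : F) (β : M2) : Prop :=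
  A 0 0 = s • (1 : M2) ∧ A 0 1 = β ∧ A 1 0 = -β.adjugate ∧ A 1 1 = s • (1 : M2) ∧
    s * s + β.det = 1

theorem inverted_form (h2 : (2 : F) ≠ 0) {A : Matrix (Fin 2) (Fin 2) M2}
    (hcs : cs A = Matrix.diagonal ![(-1 : M2), 1] * A * Matrix.diagonal ![(-1 : M2), 1])
    (hAA : A * cs A = 1) :
    (Matrix.diagonal ![(-1 : M2), 1] * A = A * Matrix.diagonal ![(-1 : M2), 1]) ∨
      ∃ s β, IsInv A s β := by
  have hent : ∀ b c, (A c b).adjugate = ![(-1 : M2), 1] b * A b c * ![(-1 : M2), 1] c := by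
    intro b c
    have := congrFun (congrFun hcs b) c
    rwa [cs_apply, Matrix.mul_diagonal, Matrix.diagonal_mul] at this
  have e00 : A 0 0 = A 0 0 0 0 • (1 : M2) := scalar_of_adj_eq h2 (by simpa using hent 0 0)
  have e11 : A 1 1 = A 1 1 0 0 • (1 : M2) := scalar_of_adj_eq h2 (by simpa using hent 1 1)
  have e10 : A 1 0 = -(A 0 1).adjugate := by
    have := hent 1 0
    simp at this
    rw [this, neg_neg]
  have h0 := congrFun (congrFun hAA 0) 0
  have h1 := congrFun (congrFun hAA 0) 1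
  rw [Matrix.mul_apply, Fin.sum_univ_two, cs_apply, cs_apply] at h0 h1
  generalize A 0 0 0 0 = s at e00
  generalize A 1 1 0 0 = s' at e11
  rw [e10, e00, e11, adj_neg, adj_adj, adj_smul, Matrix.adjugate_one, Matrix.smul_mul, one_mul,
    Matrix.mul_smul, mul_one, Matrix.one_apply_ne (by decide), smul_neg, neg_add_eq_sub,
    ← sub_smul] at h1
  rcases smul_eq_zero.1 h1 with h | h
  · right
    refine ⟨s, A 0 1, e00, rfl, e10, by rw [e11, sub_eq_zero.1 h], ?_⟩
    rw [e00, adj_smul, Matrix.adjugate_one, Matrix.smul_mul, one_mul, smul_smul, mul_adj,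
      Matrix.one_apply_eq, ← add_smul] at h0
    have := congrFun (congrFun h0 0) 0
    simpa using this
  · left
    refine Matrix.ext fun b c => ?_
    rw [Matrix.diagonal_mul, Matrix.mul_diagonal]
    fin_cases b <;> fin_cases c <;> simp [h, e10, adj_zero]

theorem sq_entries {A : Matrix (Fin 2) (Fin 2) M2} {s : F} {β : M2} (h : IsInv A s β) :
    (A * A) 0 0 = (s * s - β.det) • (1 : M2) ∧ (A * A) 1 1 = (s * s - β.det) • (1 : M2) ∧
      (A * A) 0 1 = (2 * s) • β ∧ (A * A) 1 0 = -((2 * s) • β.adjugate) := by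
  obtain ⟨e00, e01, e10, e11, -⟩ := h
  refine ⟨?_, ?_, ?_, ?_⟩ <;> rw [Matrix.mul_apply, Fin.sum_univ_two] <;>
    simp only [e00, e01, e10, e11]
  · rw [mul_neg, mul_adj, Matrix.smul_mul, one_mul, smul_smul, ← sub_eq_add_neg, sub_smul]
  · rw [neg_mul, adj_mul_self, Matrix.smul_mul, one_mul, smul_smul, neg_add_eq_sub, sub_smul]
  · rw [Matrix.smul_mul, one_mul, Matrix.mul_smul, mul_one, ← add_smul, two_mul]
  · rw [neg_mul, mul_neg, Matrix.smul_mul, one_mul, Matrix.mul_smul, mul_one, ← neg_add, ← add_smul,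
      two_mul]

theorem sq_eq_one_of_det_zero {A : Matrix (Fin 2) (Fin 2) M2} {s : F} {β : M2} (h : IsInv A s β)
    (hd : β.det = 0) {n : ℕ} (hn : (n : F) ≠ 0) (hp : (A * A) ^ n = 1) : A * A = 1 := by
  obtain ⟨q00, q11, q01, q10⟩ := sq_entries h
  have hs : s * s - β.det = 1 := by rw [hd, sub_zero, ← h.2.2.2.2, hd, add_zero]
  rw [hs, one_smul] at q00 q11
  set N := A * A - 1
  have n00 : N 0 0 = 0 := by simp [N, q00]
  have n11 : N 1 1 = 0 := by simp [N, q11]
  have n01 : N 0 1 = (2 * s) • β := by simp [N, q01]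
  have n10 : N 1 0 = -((2 * s) • β.adjugate) := by simp [N, q10]
  have hNN : N * N = 0 := Matrix.ext fun b c => by
    rw [Matrix.mul_apply, Fin.sum_univ_two]
    fin_cases b <;> fin_cases c <;>
      simp [n00, n11, n01, n10, mul_adj, adj_mul_self, hd]
  rw [show A * A = 1 + N by simp [N], one_add_pow_of_sq_zero hNN, add_eq_left] at hp
  refine sub_eq_zero.1 (show N = 0 from Matrix.ext fun b c => Matrix.ext fun e f => ?_)
  have := congrFun (congrFun (congrFun (congrFun hp b) c) e) f
  rw [Matrix.smul_apply, Matrix.smul_apply, nsmul_eq_mul] at this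
  exact (mul_eq_zero.1 this).resolve_left hn

theorem sq_neg_one_of_scalar_zero {A : Matrix (Fin 2) (Fin 2) M2} {β : M2}
    (h : IsInv A 0 β) : A * A = -1 := by
  obtain ⟨q00, q11, q01, q10⟩ := sq_entries h
  have hd : β.det = 1 := by rw [← h.2.2.2.2]; ring
  refine Matrix.ext fun b c => ?_
  fin_cases b <;> fin_cases c <;> simp [q00, q11, q01, q10, hd]

/-- An inverted element with invertible off-diagonal block does not commute with its conjugate
modulo block diagonal elements. -/
theorem commutator_contra (h2 : (2 : F) ≠ 0) {i : SL2} (hi : i.1 * i.1 = -1)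
    {A B Z : Matrix (Fin 2) (Fin 2) M2} {s : F} {β : M2} (h : IsInv A s β) (hs : s ≠ 0)
    (hd : β.det ≠ 0) (hB : ∀ c d, B c d = ![i.1, 1] c * A c d * ![-i.1, 1] d)
    (hab : A * B = Z * (B * A)) (hz : Z 0 1 = 0) : False := by
  obtain ⟨e00, e01, e10, e11, -⟩ := h
  have b00 : B 0 0 = s • (1 : M2) := by simp [hB, e00, hi]
  have b01 : B 0 1 = i.1 * β := by simp [hB, e01]
  have b10 : B 1 0 = β.adjugate * i.1 := by simp [hB, e10]
  have b11 : B 1 1 = s • (1 : M2) := by simp [hB, e11]
  have h00 : (s * s) • (1 : M2) + β.det • i.1 = Z 0 0 * ((s * s) • (1 : M2) - β.det • i.1) := by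
    have e := congrFun (congrFun hab 0) 0
    rw [Matrix.mul_apply, Fin.sum_univ_two, Matrix.mul_apply, Fin.sum_univ_two, hz, zero_mul,
      add_zero, Matrix.mul_apply, Fin.sum_univ_two, e00, e01, e10, b00, b01, b10] at e
    rw [Matrix.smul_mul, one_mul, smul_smul, ← mul_assoc β, mul_adj, Matrix.smul_mul, one_mul,
      mul_assoc i.1 β, mul_neg β, mul_adj, mul_neg, Matrix.mul_smul, mul_one,
      ← sub_eq_add_neg] at e
    exact e
  have h01 : (s • (i.1 + 1)) * β = Z 0 0 * ((s • (i.1 + 1)) * β) := by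
    have e := congrFun (congrFun hab 0) 1
    rw [Matrix.mul_apply, Fin.sum_univ_two, Matrix.mul_apply, Fin.sum_univ_two, hz, zero_mul,
      add_zero, Matrix.mul_apply, Fin.sum_univ_two, e00, e01, e11, b00, b01, b11] at e
    simp only [Matrix.smul_mul, Matrix.mul_smul, one_mul, mul_one] at e
    rw [Matrix.smul_mul, add_mul, one_mul, smul_add]
    nth_rewrite 1 [e]
    rw [add_comm (s • β)]
  have hz00 : Z 0 0 = 1 := by
    have hdet : ((s • (i.1 + 1)) * β).det ≠ 0 := by
      rw [Matrix.det_mul, Matrix.det_smul]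
      refine mul_ne_zero (mul_ne_zero (pow_ne_zero _ hs) ?_) hd
      rw [show i.1 + 1 = -((-i.1) - 1) by rw [neg_sub, sub_neg_eq_add, add_comm], Matrix.det_neg,
        ← IsQuat.adj_eq hi, ← Matrix.SpecialLinearGroup.coe_inv,
        IsQuat.det_sub_one (x := i⁻¹) (by
          rw [Matrix.SpecialLinearGroup.coe_inv, IsQuat.adj_eq hi, neg_mul_neg, hi])]
      simp [h2]
    have hY : (Z 0 0 - 1) * ((s • (i.1 + 1)) * β) = 0 := by
      rw [sub_mul, one_mul, ← h01, sub_self]
    have := congrArg (· * ((s • (i.1 + 1)) * β).adjugate) hY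
    simp only [zero_mul] at this
    rw [mul_assoc, mul_adj, Matrix.mul_smul, mul_one, smul_eq_zero] at this
    exact sub_eq_zero.1 (this.resolve_left hdet)
  rw [hz00, one_mul, sub_eq_add_neg, add_right_inj] at h00
  have h5 : (2 * β.det) • i.1 = 0 := by
    rw [two_mul, add_smul]
    nth_rewrite 1 [h00]
    exact neg_add_cancel _
  exact sl_ne_zero i ((smul_eq_zero.1 h5).resolve_left (mul_ne_zero h2 hd))

/-- A Sylow `r`-group of odd order, `r` not the characteristic, normalised by `x = diag(i, 1)`,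
centralises `x²`. -/
theorem rgroup_centralises (h2 : (2 : F) ≠ 0) (hi : i.1 * i.1 = -1) {r : ℕ} [Fact r.Prime]
    (hr2 : r ≠ 2) (hrF : (r : F) ≠ 0) :
    ∀ (n : ℕ) (R : Subgroup G4), Nat.card R = n → IsPGroup r R →
      (∀ g ∈ R, dg F (Fin 2) (one1 0 i) * g * (dg F (Fin 2) (one1 0 i))⁻¹ ∈ R) →
      ∀ g ∈ R, dg F (Fin 2) (one1 0 (i * i)) * g = g * dg F (Fin 2) (one1 0 (i * i)) := by
  intro n
  induction n using Nat.strong_induction_on with
  | _ n ih =>
    intro R hcard hR hinv g hg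
    set x := dg F (Fin 2) (one1 0 i) with hx
    set t := dg F (Fin 2) (one1 0 (i * i)) with ht
    have htx : t = x * x := by
      rw [ht, hx, ← map_mul]; congr 1
      exact Pi.mulSingle_mul (f := fun _ : Fin 2 => SL2) 0 i i
    have hii : (i * i).1 = -1 := by rw [Matrix.SpecialLinearGroup.coe_mul, hi]
    have htmat : mat t = Matrix.diagonal ![(-1 : M2), 1] := by
      rw [ht, mat_dg]; congr 1; funext a; fin_cases a <;> simp [one1, hii]
    have htt : t * t = 1 := mat_ext (by
      rw [mat_mul, htmat, Matrix.diagonal_mul_diagonal, mat_one, ← Matrix.diagonal_one]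
      congr 1; funext a; fin_cases a <;> simp)
    have hti : ∀ g ∈ R, t * g * t⁻¹ ∈ R := fun g hg => by
      have := hinv _ (hinv g hg)
      rw [htx, mul_inv_rev]
      simpa [mul_assoc] using this
    by_contra hne
    -- an inverted element
    set a := g * (t * g * t⁻¹)⁻¹ with ha
    have haR : a ∈ R := R.mul_mem hg (R.inv_mem (hti g hg))
    have ha1 : a ≠ 1 := by
      intro h
      rw [ha, mul_inv_eq_one] at h
      exact hne (mul_inv_eq_iff_eq_mul.1 h.symm)
    have htinv : t⁻¹ = t := inv_eq_of_mul_eq_one_right htt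
    have hinvt : t * a * t = a⁻¹ := by
      rw [ha, htinv]
      simp only [mul_inv_rev, htinv, inv_inv, mul_assoc, ← mul_assoc t t, htt, one_mul, mul_one]
    have hodd : Odd (orderOf a) := by
      obtain ⟨k, hk⟩ := hR ⟨a, haR⟩
      have hr : Odd (r ^ k) := ((Fact.out : r.Prime).odd_of_ne_two hr2).pow
      exact hr.of_dvd_nat (orderOf_dvd_of_pow_eq_one (congrArg Subtype.val hk))
    have hcs : cs (mat a) = mat t * mat a * mat t := by rw [← mat_inv, ← hinvt, mat_mul, mat_mul]
    rw [htmat] at hcs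
    rcases inverted_form h2 hcs (mat_mul_cs a) with hc | ⟨s, β, hform⟩
    · refine ha1 (eq_one_of_pow_four hodd ?_)
      have hta : t * a = a * t := mat_ext (by rw [mat_mul t a, mat_mul a t, htmat]; exact hc)
      have e : a⁻¹ = a := by rw [← hinvt, hta, mul_assoc, htt, mul_one]
      have h2a : a * a = 1 := (congrArg (· * a) e).symm.trans (inv_mul_cancel a)
      rw [show 4 = 2 + 2 from rfl, pow_add, sq, h2a, mul_one]
    by_cases hd : β.det = 0
    · obtain ⟨k, hk⟩ := hR ⟨a * a, R.mul_mem haR haR⟩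
      have hm : ∀ (y : G4) (n : ℕ), mat (y ^ n) = mat y ^ n := fun y n => by
        induction n with
        | zero => exact mat_one
        | succ n ih => rw [pow_succ, pow_succ, mat_mul, ih]
      have hh : (a * a) ^ r ^ k = 1 := congrArg Subtype.val hk
      have h2a : a * a = 1 := mat_ext (sq_eq_one_of_det_zero hform hd
        (n := r ^ k) (by rw [Nat.cast_pow]; exact pow_ne_zero _ hrF)
        (by show (mat a * mat a) ^ (r ^ k) = 1; rw [← mat_mul a a, ← hm, hh, mat_one]))
      refine ha1 (eq_one_of_pow_four hodd ?_)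
      rw [show 4 = 2 + 2 from rfl, pow_add, sq, h2a, mul_one]
    by_cases hs : s = 0
    · subst hs
      have h2a : mat (a * a) = -1 := sq_neg_one_of_scalar_zero hform
      refine ha1 (eq_one_of_pow_four hodd ?_)
      rw [show 4 = 2 + 2 from rfl, pow_add, sq]
      exact mat_ext (by rw [mat_mul, h2a, neg_mul_neg, one_mul, mat_one])
    -- the commutator with the conjugate
    set b := x * a * x⁻¹ with hb
    have hbR : b ∈ R := hinv a haR
    set D := ⁅R, R⁆
    have hDle : D ≤ R := Subgroup.commutator_le_self R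
    have hDlt : Nat.card D < n := by
      haveI : Nontrivial R := ⟨⟨⟨a, haR⟩, 1, fun h => ha1 (congrArg Subtype.val h)⟩⟩
      haveI : Group.IsNilpotent R := hR.isNilpotent
      rw [← hcard]
      refine lt_of_le_of_ne (Subgroup.card_le_of_le hDle) fun he => ?_
      have hD : D = R := Subgroup.eq_of_le_of_card_ge hDle he.ge
      refine (IsSolvable.commutator_lt_top_of_nontrivial R).ne ?_
      refine Subgroup.map_injective R.subtype_injective ?_
      rw [Subgroup.map_subtype_commutator, ← MonoidHom.range_eq_map, Subgroup.range_subtype]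
      exact hD
    have hDinv : ∀ g ∈ D, x * g * x⁻¹ ∈ D := fun g hg => by
      have h1 : D.map (MulAut.conj x).toMonoidHom ≤ D := by
        rw [Subgroup.map_commutator]
        have : R.map (MulAut.conj x).toMonoidHom ≤ R := by
          rintro _ ⟨g, hg, rfl⟩; exact hinv g hg
        exact Subgroup.commutator_mono this this
      exact h1 ⟨g, hg, rfl⟩
    set z := a * b * a⁻¹ * b⁻¹ with hz
    have hzc := ih _ hDlt D rfl (hR.to_le hDle) hDinv z (Subgroup.commutator_mem_commutator haR hbR)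
    have hab : a * b = z * (b * a) := by rw [hz]; group
    have hz01 : mat z 0 1 = 0 := (diag_neg_comm h2 (by
      have h := congrArg mat hzc
      rwa [mat_mul t z, mat_mul z t, htmat] at h)).1
    have hxmat : mat x = Matrix.diagonal ![i.1, 1] := by
      rw [hx, mat_dg]; congr 1; funext c; fin_cases c <;> simp [one1]
    have hxinv : mat x⁻¹ = Matrix.diagonal ![-i.1, 1] := by
      rw [hx, ← map_inv, mat_dg]; congr 1; funext c
      fin_cases c <;> simp [one1, Matrix.SpecialLinearGroup.coe_inv, IsQuat.adj_eq hi]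
    have hB : ∀ c d, mat b c d = ![i.1, 1] c * mat a c d * ![-i.1, 1] d := fun c d => by
      rw [hb, mat_mul, mat_mul, hxmat, hxinv, Matrix.mul_diagonal, Matrix.diagonal_mul]
    exact commutator_contra h2 hi hform hs hd hB (by rw [← mat_mul a b, hab, mat_mul z, mat_mul b a]) hz01

/-- A nonzero right ideal stable under `i` and `j` contains `1`. -/
theorem one_mem_of_stable (hq : IsQuat i j) (J : Set M2) (hadd : ∀ a ∈ J, ∀ b ∈ J, a + b ∈ J)
    (hmul : ∀ a ∈ J, ∀ c : M2, a * c ∈ J) (hi : ∀ a ∈ J, i.1 * a ∈ J)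
    (hj : ∀ a ∈ J, j.1 * a ∈ J) {m : M2} (hm : m ∈ J) (hm0 : m ≠ 0) : (1 : M2) ∈ J := by
  suffices h : ∃ a ∈ J, a.det ≠ 0 by
    obtain ⟨a, ha, hd⟩ := h
    have := hmul a ha (a.det⁻¹ • a.adjugate)
    rwa [Matrix.mul_smul, mul_adj, smul_smul, inv_mul_cancel₀ hd, one_smul] at this
  obtain ⟨a, b, hab⟩ : ∃ a b, m a b ≠ 0 := by
    by_contra h
    push Not at h
    exact hm0 (Matrix.ext h)
  set m' := m * (Matrix.of fun c d => if c = b ∧ d = 0 then (1 : F) else 0 : M2) with hm'
  have hm'J : m' ∈ J := hmul m hm _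
  have hcol : ∀ c, m' c 1 = 0 ∧ m' c 0 = m c b := fun c => by
    constructor <;> fin_cases b <;> simp [hm', Matrix.mul_apply, Fin.sum_univ_two]
  have hu : m' 0 0 ≠ 0 ∨ m' 1 0 ≠ 0 := by
    fin_cases a
    · exact Or.inl (by rw [(hcol 0).2]; exact hab)
    · exact Or.inr (by rw [(hcol 1).2]; exact hab)
  have key : ∀ y : M2, (m' + y * m' * !![0, 1; 1, 0]).det =
      m' 0 0 * (y 1 0 * m' 0 0 + y 1 1 * m' 1 0) -
        m' 1 0 * (y 0 0 * m' 0 0 + y 0 1 * m' 1 0) := fun y => by
    simp [Matrix.det_fin_two, Matrix.mul_apply, Fin.sum_univ_two, (hcol 0).1, (hcol 1).1]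
    ring
  by_contra hall
  push Not at hall
  have heig : ∀ y : SL2, (∀ a ∈ J, y.1 * a ∈ J) → y.1 * y.1 = -1 →
      ∃ l : F, l ≠ 0 ∧ y.1 * m' = l • m' := by
    intro y hy hyy
    have h0 := hall _ (hadd _ hm'J _ (hmul _ (hy _ hm'J) !![0, 1; 1, 0]))
    rw [key] at h0
    obtain ⟨l, hl⟩ : ∃ l : F, y.1 * m' = l • m' := by
      rcases hu with hu | hu
      · refine ⟨(y.1 0 0 * m' 0 0 + y.1 0 1 * m' 1 0) / m' 0 0, Matrix.ext fun c d => ?_⟩
        fin_cases c <;> fin_cases d <;>
          simp [Matrix.mul_apply, Fin.sum_univ_two, (hcol 0).1, (hcol 1).1] <;>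
          field_simp <;> linear_combination h0
      · refine ⟨(y.1 1 0 * m' 0 0 + y.1 1 1 * m' 1 0) / m' 1 0, Matrix.ext fun c d => ?_⟩
        fin_cases c <;> fin_cases d <;>
          simp [Matrix.mul_apply, Fin.sum_univ_two, (hcol 0).1, (hcol 1).1] <;>
          field_simp <;> linear_combination -h0
    refine ⟨l, fun hl0 => ?_, hl⟩
    have := congrArg (fun z => y.1 * z) hl
    rw [hl0, zero_smul, ← mul_assoc, hyy, mul_zero, neg_one_mul, neg_eq_zero] at this
    rcases hu with hu | hu <;> simp [this] at hu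
  obtain ⟨l, hl0, hl⟩ := heig i hi hq.sqi
  obtain ⟨μ, hμ0, hμ⟩ := heig j hj hq.sqj
  have h := congrArg (· * m') hq.anti
  simp only [neg_mul, mul_assoc, hμ, hl, Matrix.mul_smul, smul_smul] at h
  have h' : (2 * (μ * l)) • m' = 0 := by
    rw [two_mul, add_smul]
    nth_rewrite 1 [h]
    rw [mul_comm l μ]
    exact neg_add_cancel _
  rcases smul_eq_zero.1 h' with h' | h'
  · exact mul_ne_zero hq.two (mul_ne_zero hμ0 hl0) h'
  · rcases hu with hu | hu <;> simp [h'] at hu

/-- The quaternion group of a coordinate plane. -/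
def blkHom (a : Fin 2) : SL2 →* G4 := (dg F (Fin 2)).comp (MonoidHom.mulSingle (fun _ => SL2) a)

theorem blkHom_apply (a : Fin 2) (y : SL2) : blkHom a y = dg F (Fin 2) (one1 a y) := rfl

theorem pgroup_fixed (hq : IsQuat i j) {p : ℕ} [Fact p.Prime] [CharP F p] {P : Subgroup G4}
    (hP : IsPGroup p P)
    (h0 : ∀ y ∈ ({i, j} : Set SL2), blkHom 0 y ∈ Subgroup.normalizer (P : Set G4)) {g : G4}
    (hg : g ∈ P) :
    (mat g 1 0).det = 0 ∧
      ((∀ y ∈ ({i, j} : Set SL2), blkHom 1 y ∈ Subgroup.normalizer (P : Set G4)) →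
        mat g 1 0 = 0) := by
  classical
  let V := Fin 2 → M2
  let act : MulAction P V :=
    { smul := fun y v => mat y.1 *ᵥ v
      mul_smul := fun y z v => by
        show mat (y.1 * z.1) *ᵥ v = mat y.1 *ᵥ (mat z.1 *ᵥ v)
        rw [mat_mul, Matrix.mulVec_mulVec]
      one_smul := fun v => by
        show mat (1 : G4) *ᵥ v = v
        rw [mat_one, Matrix.one_mulVec] }
  have hdvd : p ∣ Nat.card V := by
    have ho : addOrderOf (e 0 : V) = p := by
      refine addOrderOf_eq_prime ?_ ?_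
      · funext c
        refine Matrix.ext fun x y => ?_
        simp [CharP.cast_eq_zero F p]
      · intro h
        have := congrFun (congrFun (congrFun h 0) 0) 0
        simp [e] at this
    exact ho ▸ addOrderOf_dvd_natCard _
  have hz : (0 : V) ∈ MulAction.fixedPoints P V := fun y => Matrix.mulVec_zero _
  obtain ⟨v, hv, hv0⟩ := hP.exists_fixed_point_of_prime_dvd_card_of_fixed_point V hdvd hz
  have hfix : ∀ y ∈ P, mat y *ᵥ v = v := fun y hy => hv ⟨y, hy⟩
  have hstab : ∀ (w : V), (∀ y ∈ P, mat y *ᵥ w = w) → ∀ n : G4,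
      n ∈ Subgroup.normalizer (P : Set G4) → ∀ y ∈ P, mat y *ᵥ (mat n *ᵥ w) = mat n *ᵥ w := by
    intro w hw n hn y hy
    have hy' : n⁻¹ * y * n ∈ P := by
      have := (Subgroup.mem_normalizer_iff.1 (inv_mem hn) y).1 hy
      rwa [inv_inv] at this
    calc mat y *ᵥ (mat n *ᵥ w) = mat n *ᵥ (mat (n⁻¹ * y * n) *ᵥ w) := by
          rw [Matrix.mulVec_mulVec, Matrix.mulVec_mulVec, ← mat_mul, ← mat_mul]
          congr 2; group
      _ = mat n *ᵥ w := by rw [hw _ hy']
  have hdiag : ∀ (a : Fin 2) (y : SL2) (w : V) (c : Fin 2),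
      (mat (blkHom a y) *ᵥ w) c = if c = a then y.1 * w c else w c := by
    intro a y w c
    rw [blkHom_apply, mat_dg, Matrix.mulVec_diagonal, one1]
    by_cases h : c = a
    · subst h; simp
    · simp [h, Pi.mulSingle_eq_of_ne h]
  -- the coordinate ideals
  have hide : ∀ a : Fin 2, (∀ y ∈ ({i, j} : Set SL2),
      blkHom a y ∈ Subgroup.normalizer (P : Set G4)) →
      ∀ m : M2, m ≠ 0 → (∀ y ∈ P, mat y *ᵥ Pi.single a m = Pi.single a m) →
      ∀ y ∈ P, mat y *ᵥ e a = e a := by
    intro a ha m hm0 hm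
    let J : Set M2 := {m | ∀ y ∈ P, mat y *ᵥ Pi.single a m = Pi.single a m}
    have hadd : ∀ b ∈ J, ∀ c ∈ J, b + c ∈ J := fun b hb c hc y hy => by
      rw [Pi.single_add, Matrix.mulVec_add, hb y hy, hc y hy]
    have hmul : ∀ b ∈ J, ∀ c : M2, b * c ∈ J := fun b hb c y hy => by
      funext d
      have := congrFun (hb y hy) d
      simp only [Matrix.mulVec, dotProduct, Pi.single_apply, mul_ite, mul_zero, Finset.sum_ite_eq',
        Finset.mem_univ, if_true] at this ⊢
      rw [← mul_assoc, this]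
      split_ifs <;> simp
    have hy : ∀ y ∈ ({i, j} : Set SL2), ∀ b ∈ J, y.1 * b ∈ J := fun y hy b hb => by
      have he : Pi.single a (y.1 * b) = mat (blkHom a y) *ᵥ Pi.single a b := by
        funext d
        rw [hdiag]
        by_cases hd : d = a
        · subst hd; simp
        · simp [hd]
      intro z hz'
      rw [he]
      exact hstab _ hb _ (ha y hy) z hz'
    exact one_mem_of_stable hq J hadd hmul (hy i (by simp)) (hy j (by simp)) hm hm0
  have hcoord : ∀ c : Fin 2, ∀ y ∈ P, mat y *ᵥ Pi.single c (v c) = Pi.single c (v c) := by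
    have hn : blkHom 0 (i * i) ∈ Subgroup.normalizer (P : Set G4) := by
      rw [map_mul]; exact mul_mem (h0 i (by simp)) (h0 i (by simp))
    have hii : (i * i).1 = -1 := by rw [Matrix.SpecialLinearGroup.coe_mul, hq.sqi]
    set w : V := mat (blkHom 0 (i * i)) *ᵥ v with hwdef
    have hw0 : w 0 = -v 0 := by rw [hwdef, hdiag, if_pos rfl, hii, neg_one_mul]
    have hw1 : w 1 = v 1 := by rw [hwdef, hdiag, if_neg (by decide)]
    have hsum0 : Pi.single 0 (v 0) = ((2 : F)⁻¹) • (v - w) := by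
      refine funext (Fin.forall_fin_two.2 ⟨?_, ?_⟩)
      · rw [Pi.single_eq_same, Pi.smul_apply, Pi.sub_apply, hw0, sub_neg_eq_add, ← two_smul F,
          smul_smul, inv_mul_cancel₀ hq.two, one_smul]
      · rw [Pi.single_eq_of_ne (by decide), Pi.smul_apply, Pi.sub_apply, hw1, sub_self, smul_zero]
    have hsum1 : Pi.single 1 (v 1) = ((2 : F)⁻¹) • (v + w) := by
      refine funext (Fin.forall_fin_two.2 ⟨?_, ?_⟩)
      · rw [Pi.single_eq_of_ne (by decide), Pi.smul_apply, Pi.add_apply, hw0, add_neg_cancel,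
          smul_zero]
      · rw [Pi.single_eq_same, Pi.smul_apply, Pi.add_apply, hw1, ← two_smul F, smul_smul,
          inv_mul_cancel₀ hq.two, one_smul]
    intro c y hy
    have hyv := hfix y hy
    have hyw : mat y *ᵥ w = w := hstab v hfix _ hn y hy
    revert c
    refine Fin.forall_fin_two.2 ⟨?_, ?_⟩
    · rw [hsum0, Matrix.mulVec_smul, Matrix.mulVec_sub, hyv, hyw]
    · rw [hsum1, Matrix.mulVec_smul, Matrix.mulVec_add, hyv, hyw]
  by_cases hv1 : v 0 = 0
  · have hw : v 1 ≠ 0 := fun h => hv0 (funext (Fin.forall_fin_two.2 ⟨hv1.symm, h.symm⟩))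
    have key : ∀ w : M2, (∀ y ∈ P, mat y *ᵥ Pi.single 1 w = Pi.single 1 w) →
        (mat g 1 0).adjugate * w = 0 := by
      intro w hw
      have h := ip_act g (e 0) (Pi.single 1 w)
      rw [hw g hg, ip_e_left, Pi.single_eq_of_ne (by decide), ip, Fin.sum_univ_two,
        Pi.single_eq_of_ne (by decide), Pi.single_eq_same, mulVec_e, mul_zero, zero_add,
        mulVec_e] at h
      exact h
    refine ⟨by_contra fun hd => hw ?_, fun h1 => ?_⟩
    · have := congrArg (mat g 1 0 * ·) (key _ (hcoord 1))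
      simp only [← mul_assoc, mul_adj, Matrix.smul_mul, one_mul, mul_zero, smul_eq_zero] at this
      exact this.resolve_left hd
    · have := key 1 (hide 1 h1 _ hw (hcoord 1))
      rw [mul_one] at this
      rw [← adj_adj (mat g 1 0), this, adj_zero]
  · have h1 := congrFun (hide 0 h0 _ hv1 (hcoord 0) g hg) 1
    rw [mulVec_e, e, Pi.single_eq_of_ne (by decide)] at h1
    exact ⟨by rw [h1]; simp, fun _ => h1⟩

/-- Odd subgroups normalised by quaternion groups of the coordinate planes. -/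
theorem odd_subgroup_col (hq : IsQuat i j) (hQi : i ∈ (Q : Subgroup SL2))
    (hQj : j ∈ (Q : Subgroup SL2)) {O : Subgroup G4} (hO : Odd (Nat.card O))
    (h0 : ∀ y ∈ (Q : Subgroup SL2), blkHom 0 y ∈ Subgroup.normalizer (O : Set G4)) {o : G4}
    (ho : o ∈ O) :
    (mat o 1 0).det = 0 ∧
      ((∀ y ∈ (Q : Subgroup SL2), blkHom 1 y ∈ Subgroup.normalizer (O : Set G4)) →
        mat o 1 0 = 0) := by
  classical
  obtain ⟨p, hp⟩ := CharP.exists F
  haveI : Fact p.Prime := ⟨CharP.char_is_prime F p⟩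
  haveI : Fact (Nat.Prime 2) := ⟨Nat.prime_two⟩
  have hfix : ∀ (r : ℕ) [Fact r.Prime] (Y : Subgroup G4), IsPGroup 2 Y →
      Y ≤ Subgroup.normalizer (O : Set G4) →
      ∃ R : Sylow r O, Y ≤ Subgroup.normalizer
        (((R : Subgroup O).map O.subtype : Subgroup G4) : Set G4) := by
    intro r _ Y hY hYN
    let φ : Y →* MulAut O := (Subgroup.normalizerMonoidHom O).comp (Subgroup.inclusion hYN)
    let act : MulAction Y (Sylow r O) := MulAction.compHom _ φ
    have hnd : ¬ 2 ∣ Nat.card (Sylow r O) := by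
      obtain ⟨R⟩ := (inferInstance : Nonempty (Sylow r O))
      have := (Sylow.card_dvd_index R).trans (Subgroup.index_dvd_card _)
      exact (hO.of_dvd_nat this).not_two_dvd_nat
    obtain ⟨R, hR⟩ := hY.nonempty_fixed_point_of_prime_not_dvd_card (Sylow r O) hnd
    refine ⟨R, fun y hy => Subgroup.mem_normalizer_fintype ?_⟩
    rintro _ ⟨w, hw, rfl⟩
    have hy' : φ ⟨y, hy⟩ • (R : Subgroup O) = R :=
      congrArg Sylow.toSubgroup (hR ⟨y, hy⟩)
    refine ⟨φ ⟨y, hy⟩ w, ?_, rfl⟩
    rw [← hy']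
    exact Subgroup.smul_mem_pointwise_smul _ _ _ hw
  let Y0 : Subgroup G4 := (Q : Subgroup SL2).map (blkHom 0)
  have hY0 : IsPGroup 2 Y0 := Q.2.map _
  have hY0N : Y0 ≤ Subgroup.normalizer (O : Set G4) := by
    rintro _ ⟨y, hy, rfl⟩; exact h0 y hy
  set t := dg F (Fin 2) (one1 0 (i * i)) with ht
  set C : Subgroup O := (Subgroup.centralizer ({t} : Set G4)).subgroupOf O with hC
  have hprime : ∀ r : ℕ, r.Prime → r ∣ C.index → r = p := by
    intro r hr hrd
    by_contra hne
    haveI : Fact r.Prime := ⟨hr⟩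
    have hr2 : r ≠ 2 := fun h => by
      subst h
      exact hO.not_two_dvd_nat (hrd.trans (Subgroup.index_dvd_card C))
    have hrF : (r : F) ≠ 0 := fun h => hne
      (((Nat.prime_dvd_prime_iff_eq (Fact.out : p.Prime) hr).1 ((CharP.cast_eq_zero_iff F p r).1 h)).symm)
    obtain ⟨R, hR⟩ := hfix r Y0 hY0 hY0N
    have hle : (R : Subgroup O) ≤ C := by
      intro w hw
      rw [hC, Subgroup.mem_subgroupOf, Subgroup.mem_centralizer_singleton_iff]
      refine (rgroup_centralises hq.two hq.sqi hr2 hrF _ _ rfl (R.2.map _) (fun g hg => ?_)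
        (w : G4) (Subgroup.mem_map_of_mem O.subtype hw)).symm
      exact (Subgroup.mem_normalizer_iff.1
        (hR (⟨i, hQi, rfl⟩ : blkHom 0 i ∈ Y0)) g).1 hg
    exact R.not_dvd_index (hrd.trans (Subgroup.index_dvd_of_le hle))
  -- decomposition through a Sylow `p`-subgroup
  have main : ∀ Y : Subgroup G4, IsPGroup 2 Y → Y ≤ Subgroup.normalizer (O : Set G4) →
      ∃ (w : G4) (c : G4) (P : Subgroup G4), w ∈ P ∧ IsPGroup p P ∧
        Y ≤ Subgroup.normalizer (P : Set G4) ∧ c * t = t * c ∧ o = w * c := by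
    intro Y hY hYN
    obtain ⟨P, hP⟩ := hfix p Y hY hYN
    have hcop : Nat.Coprime C.index (P : Subgroup O).index := by
      refine Nat.coprime_of_dvd fun r hr h1 h2 => ?_
      have := hprime r hr h1
      subst this
      exact P.not_dvd_index h2
    have horb : MulAction.orbit (P : Subgroup O) ((1 : O) : O ⧸ C) = Set.univ := by
      have hst : MulAction.stabilizer (P : Subgroup O) ((1 : O) : O ⧸ C) =
          C.subgroupOf (P : Subgroup O) := by
        ext w
        rw [MulAction.mem_stabilizer_iff, Subgroup.mem_subgroupOf]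
        show (((w : O) * 1 : O) : O ⧸ C) = ((1 : O) : O ⧸ C) ↔ _
        rw [mul_one, QuotientGroup.eq, mul_one, inv_mem_iff]
      refine Set.eq_of_subset_of_ncard_le (Set.subset_univ _) ?_
      rw [Set.ncard_univ, ← MulAction.index_stabilizer, hst]
      refine Nat.le_of_dvd (Nat.pos_of_ne_zero Subgroup.index_ne_zero_of_finite) ?_
      have e1 : (C ⊓ (P : Subgroup O)).relIndex P * (P : Subgroup O).index =
          (C ⊓ (P : Subgroup O)).index := Subgroup.relIndex_mul_index inf_le_right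
      rw [Subgroup.inf_relIndex_right] at e1
      exact hcop.dvd_of_dvd_mul_right
        (e1 ▸ Subgroup.index_dvd_of_le (inf_le_left (b := (P : Subgroup O))))
    obtain ⟨w, hw⟩ : ((⟨o, ho⟩ : O) : O ⧸ C) ∈
        MulAction.orbit (P : Subgroup O) ((1 : O) : O ⧸ C) := horb ▸ Set.mem_univ _
    have hw' : (((w : O) * 1 : O) : O ⧸ C) = ((⟨o, ho⟩ : O) : O ⧸ C) := hw
    rw [mul_one, QuotientGroup.eq] at hw'
    rw [hC, Subgroup.mem_subgroupOf, Subgroup.mem_centralizer_singleton_iff] at hw'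
    refine ⟨((w : O) : G4), _, (P : Subgroup O).map O.subtype, ⟨w, w.2, rfl⟩, P.2.map _, hP, hw', ?_⟩
    show o = ((w : O) : G4) * ((((w : O) : G4))⁻¹ * o)
    rw [mul_inv_cancel_left]
  have hcol : ∀ w c : G4, c * t = t * c → o = w * c → mat o 1 0 = mat w 1 0 * mat c 0 0 := by
    intro w c hc he
    have htmat : mat t = Matrix.diagonal ![(-1 : M2), 1] := by
      rw [ht, mat_dg]; congr 1; funext a
      fin_cases a <;> simp [one1, Matrix.SpecialLinearGroup.coe_mul, hq.sqi]
    have hc10 : mat c 1 0 = 0 := (diag_neg_comm hq.two (by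
      have h := congrArg mat hc
      rw [mat_mul, mat_mul, htmat] at h
      exact h.symm)).2
    rw [he, mat_mul, Matrix.mul_apply, Fin.sum_univ_two, hc10, mul_zero, add_zero]
  refine ⟨?_, fun h1 => ?_⟩
  · obtain ⟨w, c, P, hw, hP, hN, hc, he⟩ := main Y0 hY0 hY0N
    rw [hcol w c hc he, Matrix.det_mul, (pgroup_fixed hq hP (fun y hy => hN ⟨y, by
      rcases hy with rfl | rfl <;> assumption, rfl⟩) hw).1, zero_mul]
  · let Y : Subgroup G4 :=
      ((Subgroup.pi Set.univ fun _ : Fin 2 => (Q : Subgroup SL2))).map (dg F (Fin 2))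
    have hmem : ∀ (a : Fin 2), ∀ y ∈ (Q : Subgroup SL2), blkHom a y ∈ Y := fun a y hy =>
      ⟨one1 a y, fun b _ => one1_mem hy b, rfl⟩
    have hY : IsPGroup 2 Y := by
      rintro ⟨_, v, hv, rfl⟩
      obtain ⟨l, hl⟩ := IsPGroup.iff_card.1 Q.2
      refine ⟨l, Subtype.ext ?_⟩
      show dg F (Fin 2) v ^ 2 ^ l = 1
      rw [← map_pow, ← map_one (dg F (Fin 2))]
      congr 1; funext b
      have := pow_card_eq_one' (x := (⟨v b, hv b (Set.mem_univ b)⟩ : (Q : Subgroup SL2)))
      rw [hl] at this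
      exact congrArg Subtype.val this
    have hYN : Y ≤ Subgroup.normalizer (O : Set G4) := by
      rintro _ ⟨v, hv, rfl⟩
      have hsplit : dg F (Fin 2) v = blkHom 0 (v 0) * blkHom 1 (v 1) := by
        rw [blkHom_apply, blkHom_apply, ← map_mul]; congr 1
        funext b; fin_cases b <;> simp [one1]
      rw [hsplit]
      exact mul_mem (h0 _ (hv 0 (Set.mem_univ _))) (h1 _ (hv 1 (Set.mem_univ _)))
    obtain ⟨w, c, P, hw, hP, hN, hc, he⟩ := main Y hY hYN
    rw [hcol w c hc he, (pgroup_fixed hq hP (fun y hy => hN (hmem 0 y (by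
      rcases hy with rfl | rfl <;> assumption))) hw).2 (fun y hy => hN (hmem 1 y (by
      rcases hy with rfl | rfl <;> assumption))), zero_mul]

end Cfsg.Agent.Classical.SpPro
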