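import Cfsg.Agent.Lib.Classical.Pronormal.SpPlanes
import Cfsg.Agent.Lib.Classical.Pronormal.Klein
import Cfsg.Agent.Lib.Char.ZStar
import Cfsg.Agent.Lib.Solv.Cores

/-!
A subgroup containing `Q^n` in which no coordinate involution is fused to a non-coordinate one
permutes the coordinate planes.
-/

set_option autoImplicit false
set_option linter.unusedSectionVars false

open scoped Matrix

namespace Cfsg.Agent.Classical.SpPro

universe u v

variable {F : Type u} [Field F] {ι : Type v} [Fintype ι] [DecidableEq ι]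
  {Q : Sylow 2 (Matrix.SpecialLinearGroup (Fin 2) F)}
  {i j : Matrix.SpecialLinearGroup (Fin 2) F}

local notation "M2" => Matrix (Fin 2) (Fin 2) F
local notation "SL2" => Matrix.SpecialLinearGroup (Fin 2) F

/-- All full monomial elements. -/
abbrev monTop (F : Type u) [Field F] (ι : Type v) [Fintype ι] [DecidableEq ι] :
    Subgroup (Ug F ι) :=
  monG (⊤ : Subgroup (Equiv.Perm ι)) (⊤ : Subgroup (Matrix.SpecialLinearGroup (Fin 2) F))

/-- The hypothesis of the frame theorem. -/
structure NoFusion (Q : Sylow 2 (Matrix.SpecialLinearGroup (Fin 2) F))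
    (i : Matrix.SpecialLinearGroup (Fin 2) F) (K : Subgroup (Ug F ι)) : Prop where
  base : ∀ v : ι → Matrix.SpecialLinearGroup (Fin 2) F,
    (∀ a, v a ∈ (Q : Subgroup (Matrix.SpecialLinearGroup (Fin 2) F))) → dg F ι v ∈ K
  single : ∀ g ∈ K, ∀ a : ι,
    g * tv i a * g⁻¹ ∈ monG (⊤ : Subgroup (Equiv.Perm ι)) (nrm Q) → IsSingle (col g a)

/-! ### Restriction to the other coordinates -/

/-- Centraliser of a coordinate involution. -/
abbrev centTv (i : SL2) (c : ι) : Subgroup (Ug F ι) :=
  Subgroup.centralizer ({tv i c} : Set (Ug F ι))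

section Restrict

variable [Fintype F] {c : ι} (hq : IsQuat i j)

theorem centTv_entry (hq : IsQuat i j) {g : Ug F ι} (hg : g ∈ centTv i c) {b : ι} (hb : b ≠ c) :
    mat g c b = 0 ∧ mat g b c = 0 :=
  (comm_tv_iff hq.two hq.sqi g c).1 (Subgroup.mem_centralizer_singleton_iff.1 hg) b hb

theorem sum_others (c : ι) (f : ι → M2) (h : f c = 0) :
    ∑ b : {b // b ≠ c}, f b.1 = ∑ b, f b := by
  rw [← Finset.sum_subtype (Finset.univ.erase c) (fun x => by simp) f,
    Finset.sum_erase _ h]

/-- Restriction to the coordinates different from `c`. -/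
def res (hq : IsQuat i j) (c : ι) : ↥(centTv i c : Subgroup (Ug F ι)) →* Ug F {b // b ≠ c} :=
  lift
    { toFun := fun g => Matrix.of fun a b => mat g.1 a.1 b.1
      map_one' := by
        refine Matrix.ext fun a b => ?_
        rw [Matrix.of_apply, show mat ((1 : ↥(centTv i c : Subgroup (Ug F ι))) : Ug F ι) = 1 from rfl,
          Matrix.one_apply, Matrix.one_apply]
        simp [Subtype.ext_iff]
      map_mul' := fun g h => by
        refine Matrix.ext fun a b => ?_
        rw [Matrix.of_apply, Subgroup.coe_mul, mat_mul, Matrix.mul_apply, Matrix.mul_apply]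
        refine (sum_others c (fun x => mat g.1 a.1 x * mat h.1 x b.1) ?_).symm
        rw [(centTv_entry hq g.2 a.2).2, zero_mul] }
    fun g => by
      refine Matrix.ext fun a b => ?_
      show (mat g.1 b.1 a.1).adjugate = mat (g.1⁻¹) a.1 b.1
      rw [mat_inv, cs_apply]

theorem mat_res (hq : IsQuat i j) (g : ↥(centTv i c : Subgroup (Ug F ι))) (a b : {b // b ≠ c}) :
    mat (res hq c g) a b = mat g.1 a.1 b.1 := rfl

theorem col_res (hq : IsQuat i j) (g : ↥(centTv i c : Subgroup (Ug F ι))) (a b : {b // b ≠ c}) :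
    col (res hq c g) a b = col g.1 a.1 b.1 := by rw [col_apply, col_apply, mat_res]

theorem single_of_res (hq : IsQuat i j) (g : ↥(centTv i c : Subgroup (Ug F ι))) (a : {b // b ≠ c})
    (h : IsSingle (col (res hq c g) a)) : IsSingle (col g.1 a.1) := by
  obtain ⟨b, hb⟩ := h
  refine ⟨b.1, fun d hd => ?_⟩
  by_cases hdc : d = c
  · rw [hdc, col_apply, (centTv_entry hq g.2 a.2).1]
  · rw [← col_res hq g a ⟨d, hdc⟩]
    exact hb _ fun h => hd (congrArg Subtype.val h)

theorem single_col_center (hq : IsQuat i j) {g : Ug F ι} (hg : g ∈ centTv i c) :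
    ∀ b, b ≠ c → col g c b = 0 := fun b hb => by
  rw [col_apply, (centTv_entry hq hg hb).2]

end Restrict

theorem mem_monG_entries {N : Subgroup SL2} {g : Ug F ι} (hg : g ∈ monTop F ι)
    (h : ∀ a b, mat g a b ≠ 0 → ∃ x ∈ N, x.1 = mat g a b) :
    g ∈ monG (⊤ : Subgroup (Equiv.Perm ι)) N := by
  obtain ⟨σ, hσ, v, -, rfl⟩ := hg
  refine ⟨σ, hσ, v, fun b => ?_, rfl⟩
  obtain ⟨x, hx, he⟩ := h (σ b) b (by rw [pm_dg_apply, if_pos rfl]; exact sl_ne_zero _)
  rw [pm_dg_apply, if_pos rfl] at he
  rwa [← Subtype.ext he]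

section Main

variable [Fintype F]

theorem exists_conj_mon (hq : IsQuat i j) (hi : i ∈ (Q : Subgroup SL2)) {C : Subgroup (Ug F ι)}
    (hB : ∀ v : ι → SL2, (∀ a, v a ∈ (Q : Subgroup SL2)) → dg F ι v ∈ C) {s : Ug F ι}
    (hs : s ∈ C) (hs2 : s * s = 1) :
    ∃ h ∈ C, h * s * h⁻¹ ∈ monG (⊤ : Subgroup (Equiv.Perm ι)) (nrm Q) := by
  haveI : Fact (Nat.Prime 2) := ⟨Nat.prime_two⟩
  let B : Subgroup C :=
    ((Subgroup.pi Set.univ fun _ : ι => (Q : Subgroup SL2)).map (dg F ι)).subgroupOf C
  have hBp : IsPGroup 2 B := by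
    refine IsPGroup.comap_of_injective ?_ C.subtype C.subtype_injective
    rintro ⟨x, hx⟩
    obtain ⟨v, hv, he⟩ := Subgroup.mem_map.1 hx
    obtain ⟨l, hl⟩ := IsPGroup.iff_card.1 Q.2
    refine ⟨l, Subtype.ext ?_⟩
    show x ^ 2 ^ l = 1
    rw [← he, ← map_pow, ← map_one (dg F ι)]
    congr 1; funext b
    have := pow_card_eq_one' (x := (⟨v b, hv b (Set.mem_univ b)⟩ : (Q : Subgroup SL2)))
    rw [hl] at this
    exact congrArg Subtype.val this
  obtain ⟨T, hT⟩ := hBp.exists_le_sylow
  have hsp : IsPGroup 2 (Subgroup.zpowers (⟨s, hs⟩ : C)) := by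
    refine fun x => ⟨1, ?_⟩
    obtain ⟨_, k, rfl⟩ := x
    refine Subtype.ext ?_
    show ((⟨s, hs⟩ : C) ^ k) ^ 2 ^ 1 = 1
    rw [pow_one, ← zpow_natCast, ← zpow_mul, mul_comm, zpow_mul, zpow_natCast,
      show (⟨s, hs⟩ : C) ^ 2 = 1 from (sq _).trans (Subtype.ext hs2), one_zpow]
  obtain ⟨T', hT'⟩ := hsp.exists_le_sylow
  obtain ⟨h, hh⟩ := MulAction.exists_smul_eq C T' T
  have hTB : ∀ v : ι → SL2, (∀ a, v a ∈ (Q : Subgroup SL2)) →
      dg F ι v ∈ (T : Subgroup C).map C.subtype := fun v hv => by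
    have hmem : (⟨dg F ι v, hB v hv⟩ : C) ∈ B :=
      Subgroup.mem_subgroupOf.2 (Subgroup.mem_map_of_mem (dg F ι) fun b _ => hv b)
    exact Subgroup.mem_map.2 ⟨_, hT hmem, rfl⟩
  have hmem : h * (⟨s, hs⟩ : C) * h⁻¹ ∈ (T : Subgroup C) := by
    rw [← hh]
    exact ⟨⟨s, hs⟩, hT' (Subgroup.mem_zpowers _), rfl⟩
  have hp : IsPGroup 2 ↥((T : Subgroup C).map C.subtype) := T.2.map _
  exact ⟨h, h.2, two_group_mon hq hi hp hTB (Subgroup.mem_map.2 ⟨_, hmem, rfl⟩)⟩

theorem conj_tv_sq (hq : IsQuat i j) (g : Ug F ι) (a : ι) :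
    g * tv i a * g⁻¹ * (g * tv i a * g⁻¹) = 1 := by
  rw [show g * tv i a * g⁻¹ * (g * tv i a * g⁻¹) = g * (tv i a * tv i a) * g⁻¹ by group,
    tv_mul_self hq.sqi]
  group

theorem tv_mem {K : Subgroup (Ug F ι)} (hK : NoFusion Q i K) (hi : i ∈ (Q : Subgroup SL2)) (a : ι) :
    tv i a ∈ K := hK.base _ (one1_mem (mul_mem hi hi))

/-- A conjugate involution in the normaliser of the frame is a coordinate one. -/
theorem single_of_mon (hq : IsQuat i j) (hi : i ∈ (Q : Subgroup SL2)) {K : Subgroup (Ug F ι)}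
    (hK : NoFusion Q i K) {g : Ug F ι} (hg : g ∈ K) {a : ι}
    (hm : g * tv i a * g⁻¹ ∈ monTop F ι) : IsSingle (col g a) := by
  obtain ⟨h, hh, hmon⟩ := exists_conj_mon hq hi (C := K ⊓ monTop F ι)
    (fun v hv => ⟨hK.base v hv, dg_mem_monG.2 fun _ => Subgroup.mem_top _⟩)
    ⟨K.mul_mem (K.mul_mem hg (tv_mem hK hi a)) (K.inv_mem hg), hm⟩ (conj_tv_sq hq g a)
  have h1 := hK.single (h * g) (K.mul_mem hh.1 hg) a (by
    rw [show h * g * tv i a * (h * g)⁻¹ = h * (g * tv i a * g⁻¹) * h⁻¹ by group]
    exact hmon)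
  have h2 := single_mulVec ((monTop F ι).inv_mem hh.2) h1
  rwa [col_mul, mat_inv_mulVec] at h2

/-- The statement that `K` is monomial. -/
def Mon (K : Subgroup (Ug F ι)) : Prop := K ≤ monTop F ι

set_option maxHeartbeats 1000000 in
/-- A conjugate involution commuting with a coordinate one is a coordinate one. -/
theorem single_of_comm (hq : IsQuat i j) (hi : i ∈ (Q : Subgroup SL2)) {K : Subgroup (Ug F ι)}
    (hK : NoFusion Q i K)
    (IH : ∀ (c : ι) (K' : Subgroup (Ug F {b // b ≠ c})), NoFusion Q i K' → Mon K')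
    {g : Ug F ι} (hg : g ∈ K) {a c : ι}
    (hc : g * tv i a * g⁻¹ * tv i c = tv i c * (g * tv i a * g⁻¹)) : IsSingle (col g a) := by
  set C : Subgroup (Ug F ι) := K ⊓ centTv i c
  have hBC : ∀ v : ι → SL2, (∀ a, v a ∈ (Q : Subgroup SL2)) → dg F ι v ∈ C := fun v hv => by
    refine ⟨hK.base v hv, Subgroup.mem_centralizer_singleton_iff.2
      ((comm_tv_iff hq.two hq.sqi _ c).2 fun b hb => ?_)⟩
    rw [mat_dg, Matrix.diagonal_apply_ne _ hb, Matrix.diagonal_apply_ne _ (Ne.symm hb)]
    exact ⟨rfl, rfl⟩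
  obtain ⟨h, hh, hmon⟩ := exists_conj_mon hq hi (C := C) hBC
    ⟨K.mul_mem (K.mul_mem hg (tv_mem hK hi a)) (K.inv_mem hg),
      Subgroup.mem_centralizer_singleton_iff.2 hc⟩ (conj_tv_sq hq g a)
  have h1 := hK.single (h * g) (K.mul_mem hh.1 hg) a (by
    rw [show h * g * tv i a * (h * g)⁻¹ = h * (g * tv i a * g⁻¹) * h⁻¹ by group]
    exact hmon)
  set K' : Subgroup (Ug F {b // b ≠ c}) := (C.subgroupOf (centTv i c)).map (res hq c)
  have hK' : NoFusion Q i K' := by
    constructor
    · intro v hv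
      let w : ι → SL2 := fun b => if hb : b = c then 1 else v ⟨b, hb⟩
      have hw : ∀ b, w b ∈ (Q : Subgroup SL2) := fun b => by
        by_cases hb : b = c
        · simp [w, hb]
        · simpa [w, hb] using hv _
      refine ⟨⟨dg F ι w, (hBC w hw).2⟩, hBC w hw, mat_ext (Matrix.ext fun x y => ?_)⟩
      rw [mat_res, mat_dg, mat_dg]
      by_cases hxy : x = y
      · subst hxy
        simp [w, x.2]
      · rw [Matrix.diagonal_apply_ne _ hxy, Matrix.diagonal_apply_ne _
          fun h => hxy (Subtype.ext h)]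
    · rintro _ ⟨k, hk, rfl⟩ b hb
      have hkK : (k : Ug F ι) ∈ K := hk.1
      have hcol0 : col k.1 b.1 c = 0 := by rw [col_apply, (centTv_entry hq k.2 b.2).1]
      set τ := (k : Ug F ι) * tv i b.1 * (k : Ug F ι)⁻¹
      have hτc : τ ∈ centTv i c :=
        Subgroup.mem_centralizer_singleton_iff.2 (comm_conj_tv_of_zero hq.two hq.sqi _ hcol0)
      have hres : res hq c k * tv i b * (res hq c k)⁻¹ = res hq c ⟨τ, hτc⟩ := by
        refine mat_ext (Matrix.ext fun x y => ?_)
        rw [mat_res, conj_tv_apply hq.sqi, conj_tv_apply hq.sqi, col_res, col_res]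
        by_cases hxy : x = y
        · rw [if_pos hxy, if_pos (congrArg Subtype.val hxy)]
        · rw [if_neg hxy, if_neg fun h => hxy (Subtype.ext h)]
      rw [hres] at hb
      have hτ : τ ∈ monTop F ι := mem_monG_of_single fun d => by
        by_cases hd : d = c
        · rw [hd]; exact ⟨c, single_col_center hq hτc⟩
        · exact single_of_res hq ⟨τ, hτc⟩ ⟨d, hd⟩
            (mulVec_e_single (monG_mono le_rfl le_top hb) ⟨d, hd⟩)
      have hτN : τ ∈ monG (⊤ : Subgroup (Equiv.Perm ι)) (nrm Q) :=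
        mem_monG_entries hτ fun x y hxy => by
          by_cases hx : x = c
          · subst hx
            have hy : y = x := by
              by_contra hy; exact hxy (centTv_entry hq hτc hy).1
            subst hy
            refine ⟨1, Subgroup.one_mem _, ?_⟩
            rw [conj_tv_apply hq.sqi, hcol0]; simp
          · have hy : y ≠ c := by
              rintro rfl; exact hxy (centTv_entry hq hτc hx).2
            obtain ⟨σ, -, v, hv, he⟩ := hb
            have h' := congrFun (congrFun (congrArg mat he) ⟨x, hx⟩) ⟨y, hy⟩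
            rw [mat_res, pm_dg_apply] at h'
            rw [h'] at hxy ⊢
            by_cases hσ : σ ⟨y, hy⟩ = ⟨x, hx⟩
            · rw [if_pos hσ]; exact ⟨_, hv _, rfl⟩
            · rw [if_neg hσ] at hxy; exact absurd rfl hxy
      obtain ⟨d, hd⟩ := hK.single k hkK b.1 hτN
      have hdc : d ≠ c := fun h => by
        have := IsSingle.det_eq_one hd (ip_col' k.1 b.1)
        rw [h, hcol0] at this
        simp at this
      refine ⟨⟨d, hdc⟩, fun x hx => ?_⟩
      rw [col_res]
      exact hd x.1 fun h => hx (Subtype.ext h)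
  have hres : res hq c ⟨h, hh.2⟩ ∈ monTop F {b // b ≠ c} :=
    IH c K' hK' ⟨⟨h, hh.2⟩, hh, rfl⟩
  have hhm : h ∈ monTop F ι := mem_monG_of_single fun d => by
    by_cases hd : d = c
    · rw [hd]; exact ⟨c, single_col_center hq hh.2⟩
    · exact single_of_res hq ⟨h, hh.2⟩ ⟨d, hd⟩ (mulVec_e_single hres ⟨d, hd⟩)
  have h2 := single_mulVec ((monTop F ι).inv_mem hhm) h1
  rwa [col_mul, mat_inv_mulVec] at h2

theorem normal_odd_map {L : Type*} [Group L] [Finite L] (O : Subgroup L) [O.Normal]
    (hO : Odd (Nat.card O)) {G' : Type*} [Group G'] (f : L →* G') :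
    Odd (Nat.card (O.map f)) ∧ ∀ l : L, f l ∈ Subgroup.normalizer ((O.map f : Subgroup G') : Set G') := by
  refine ⟨hO.of_dvd_nat (Subgroup.card_map_dvd O f), fun l => ?_⟩
  have key : ∀ l : L, ∀ z ∈ O.map f, f l * z * (f l)⁻¹ ∈ O.map f := by
    rintro l _ ⟨o, ho, rfl⟩
    exact ⟨l * o * l⁻¹, Subgroup.Normal.conj_mem ‹_› o ho l, by simp⟩
  refine Subgroup.mem_normalizer_iff.2 fun z => ⟨key l z, fun hz => ?_⟩
  have := key l⁻¹ _ hz
  simpa [mul_assoc] using this

set_option maxHeartbeats 1000000 in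
/-- A conjugate plane is a coordinate one, or its projections to all coordinate planes have
determinant one. -/
theorem det_eq_one_of_not_single (hq : IsQuat i j) (hi : i ∈ (Q : Subgroup SL2))
    (hj : j ∈ (Q : Subgroup SL2)) {K : Subgroup (Ug F ι)} (hK : NoFusion Q i K)
    (IH : ∀ (c : ι) (K' : Subgroup (Ug F {b // b ≠ c})), NoFusion Q i K' → Mon K')
    (h3 : ∀ a b : ι, ∃ d, d ≠ a ∧ d ≠ b)
    {g : Ug F ι} (hg : g ∈ K) {a : ι} (hns : ¬ IsSingle (col g a)) (c : ι) :
    (col g a c).det = 1 := by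
  by_contra hd
  set φ := col g a
  have hφ : ip φ φ = 1 := ip_col' g a
  set δ : F := (1 - (φ c).det)⁻¹
  have hδ0 : 1 - (φ c).det ≠ 0 := sub_ne_zero.2 (Ne.symm hd)
  set η : M2 := !![δ, 0; 0, 1]
  set η' : M2 := (1 - (φ c).det) • η.adjugate
  have hηdet : η.det = δ := by simp [η, Matrix.det_fin_two]
  have hηη : η * η' = 1 := by
    rw [Matrix.mul_smul, mul_adj, hηdet, smul_smul, mul_inv_cancel₀ hδ0, one_smul]
  set φ' : ι → M2 := Function.update φ c 0
  set ψ : ι → M2 := fun b => φ' b * η
  have hsum : ∑ b, (φ' b).det = 1 - (φ c).det := by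
    have h1 := Finset.sum_erase_add Finset.univ (fun b => (φ b).det) (Finset.mem_univ c)
    rw [sum_det_of_ip hφ] at h1
    rw [← Finset.sum_erase Finset.univ (f := fun b => (φ' b).det) (a := c) (by simp [φ'])]
    rw [Finset.sum_congr rfl (g := fun b => (φ b).det) fun b hb => by
      simp [φ', Function.update_of_ne (Finset.ne_of_mem_erase hb)]]
    linear_combination h1
  have hψ : ip ψ ψ = 1 := by
    rw [show ip ψ ψ = η.adjugate * ip φ' φ' * η from ip_mul_right φ' φ' η η, ip_self, hsum,
      Matrix.mul_smul, mul_one, Matrix.smul_mul, adj_mul_self, hηdet, smul_smul,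
      mul_inv_cancel₀ hδ0, one_smul]
  have hψc : ψ c = 0 := by simp [ψ, φ']
  set M : Matrix ι (Fin 2) M2 := Matrix.of fun b k => ![e c b, ψ b] k
  have hM : IsFrame M := by
    refine Matrix.ext fun k l => ?_
    have hkl : (cs M * M) k l = ip (fun b => M b k) (fun b => M b l) := rfl
    have h00 : ip (e c : ι → M2) (e c) = 1 := ip_e c
    have h01 : ip (e c) ψ = 0 := by rw [ip_e_left, hψc]
    have h10 : ip ψ (e c) = 0 := by rw [← adj_ip, h01, adj_zero]
    rw [hkl]
    fin_cases k <;> fin_cases l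
    · exact h00.trans (Matrix.one_apply_eq _).symm
    · exact h01.trans (Matrix.one_apply_ne (by decide)).symm
    · exact h10.trans (Matrix.one_apply_ne (by decide)).symm
    · exact hψ.trans (Matrix.one_apply_eq _).symm
  have hMv : ∀ w : Fin 2 → M2, M *ᵥ w = fun b => e c b * w 0 + ψ b * w 1 := fun w => by
    funext b
    simp [M, Matrix.mulVec, dotProduct, Fin.sum_univ_two]
  have hce : M *ᵥ (e 0 : Fin 2 → M2) = e c := by
    rw [hMv]; funext b
    simp [e]
  have hφM : M *ᵥ ![φ c, η'] = φ := by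
    rw [hMv]; funext b
    by_cases hb : b = c
    · subst hb; simp [e, hψc]
    · simp [e, hb, ψ, φ', Function.update_of_ne hb, mul_assoc, hηη]
  set L := fixGrp K M
  have hpec : perp M *ᵥ (e c : ι → M2) = 0 := by rw [← hce, perp_mulVec_frame hM]
  have hpφ : perp M *ᵥ φ = 0 := by rw [← hφM, perp_mulVec_frame hM]
  have hemb : ∀ x ∈ (Q : Subgroup SL2), dg F ι (one1 c x) ∈ L := fun x hx => by
    have := hK.base _ (one1_mem (a := c) hx)
    rw [dg_one1] at this ⊢
    exact emb_mem_fixGrp hpec this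
  have htL : tv i c ∈ L := hemb _ (mul_mem hi hi)
  have hτL : g * tv i a * g⁻¹ ∈ L := by
    have := K.mul_mem (K.mul_mem hg (tv_mem hK hi a)) (K.inv_mem hg)
    rw [conj_tv] at this ⊢
    exact emb_mem_fixGrp hpφ this
  -- planes in the span commuting with the coordinate one
  have key : ∀ k ∈ K, ∀ b, perp M *ᵥ col k b = 0 →
      k * tv i b * k⁻¹ * tv i c = tv i c * (k * tv i b * k⁻¹) →
      ∀ d, d ≠ c → col k b d = 0 := by
    intro k hk b hp hcm
    obtain ⟨b', hb'⟩ := single_of_comm hq hi hK IH hk hcm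
    by_cases hbc : b' = c
    · subst hbc; exact hb'
    exfalso
    have hw := eq_frame_of_perp hp
    set w := cs M *ᵥ col k b with hwdef
    have hw0 : w 0 = 0 := by
      have h := congrFun hw c
      rw [hb' c (Ne.symm hbc), hMv] at h
      simpa [e, hψc] using h.symm
    have hw1 : (w 1).det = 1 := by
      have h := ip_col' k b
      rw [hw, ip_frame hM, ip, Fin.sum_univ_two, hw0, adj_zero, zero_mul, zero_add,
        adj_mul_self] at h
      simpa using congrFun (congrFun h 0) 0
    have hψs : ∀ d, d ≠ b' → ψ d = 0 := fun d hdb => by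
      have h := hb' d hdb
      rw [hw, hMv] at h
      simp only [hw0, mul_zero, zero_add] at h
      have := congrArg (· * (w 1).adjugate) h
      simpa [mul_assoc, mul_adj, hw1] using this
    obtain ⟨d, hdc, hdb⟩ := h3 c b'
    have hφd : φ d = 0 := by
      rw [← hφM, hMv]
      simp [e, hdc, hψs d hdb]
    exact hns (single_of_comm hq hi hK IH hg (comm_conj_tv_of_zero hq.two hq.sqi g hφd))
  -- the coordinate involution is isolated in the fixed group
  set z : L := ⟨tv i c, htL⟩
  set τ : L := ⟨g * tv i a * g⁻¹, hτL⟩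
  have hzz : z * z = 1 := Subtype.ext (tv_mul_self hq.sqi c)
  have hττ : τ * τ = 1 := Subtype.ext (conj_tv_sq hq g a)
  have hiso : Cfsg.IsIsolatedInvolution z := by
    refine ⟨orderOf_eq_prime (by rw [sq, hzz]) fun h =>
      tv_ne_one hq.two hq.sqi c (congrArg Subtype.val h), fun k hk => ?_⟩
    have hp : perp M *ᵥ col (k : Ug F ι) c = 0 := mulVec_mem_span hM k.2 hpec
    refine Subtype.ext (eq_tv_of_single hq.sqi _ (key _ k.2.1 c hp ?_))
    exact (congrArg Subtype.val hk).symm
  set u : L := z * τ with hu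
  have hO : u * u ∈ Cfsg.oddCore L := by
    have := Cfsg.Agent.Char.zStar_isolated hiso τ
    rwa [inv_eq_of_mul_eq_one_right hzz, inv_eq_of_mul_eq_one_right hττ,
      show z * τ * z * τ = u * u by rw [hu]; group] at this
  have hOodd : Odd (Nat.card (Cfsg.oddCore L)) := Cfsg.Agent.Char.card_oddCore_odd L
  obtain ⟨k, hk⟩ : Odd (orderOf (u * u)) :=
    hOodd.of_dvd_nat (Subgroup.orderOf_dvd_natCard (Cfsg.oddCore L) hO)
  set n := 2 * k + 1
  have hzu : z * u * z⁻¹ = u⁻¹ := by
    rw [hu, mul_inv_rev, inv_eq_of_mul_eq_one_right hzz, inv_eq_of_mul_eq_one_right hττ,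
      ← mul_assoc z z, hzz, one_mul]
  have hun : u ^ n * u ^ n = 1 := by
    rw [← (Commute.refl u).mul_pow]
    rw [show n = orderOf (u * u) from hk.symm, pow_orderOf_eq_one]
  have hτu : τ = z * u := by rw [hu, ← mul_assoc, hzz, one_mul]
  have hzpow : ∀ m : ℕ, u ^ m * z * u ^ m = z := by
    intro m
    induction m with
    | zero => simp
    | succ m ih =>
      have h1 : u * z * u = z := by
        have h := hzu
        rw [mul_inv_eq_iff_eq_mul] at h
        rw [mul_assoc, h, ← mul_assoc, mul_inv_cancel, one_mul]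
      calc u ^ (m + 1) * z * u ^ (m + 1) = u ^ m * (u * z * u) * u ^ m := by
            nth_rewrite 2 [pow_succ' u m]
            rw [pow_succ]
            group
        _ = z := by rw [h1, ih]
  have hconj : (u ^ k)⁻¹ * τ * u ^ k = z * u ^ n := by
    have h1 : (u ^ k)⁻¹ * z = z * u ^ k := by
      conv_lhs => rw [← hzpow k]
      group
    rw [hτu, ← mul_assoc, h1, mul_assoc, mul_assoc]
    congr 1
    rw [← mul_assoc, ← pow_succ, ← pow_add]
    congr 1
    omega
  have hcomm : z * (z * u ^ n) = z * u ^ n * z := by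
    have h := hzpow n
    have hi' : u ^ n = (u ^ n)⁻¹ := (inv_eq_of_mul_eq_one_right hun).symm
    calc z * (z * u ^ n) = u ^ n := by rw [← mul_assoc, hzz, one_mul]
      _ = z * u ^ n * z := by
        symm
        calc z * u ^ n * z = z * (u ^ n * z * u ^ n) * (u ^ n)⁻¹ := by group
          _ = u ^ n := by rw [h, hzz, one_mul, ← hi']
  set y : Ug F ι := ((u ^ k : L) : Ug F ι)
  have hyK : y ∈ K := (u ^ k).2.1
  have hcolχ : ∀ d, d ≠ c → col (y⁻¹ * g) a d = 0 := by
    refine key _ (K.mul_mem (K.inv_mem hyK) hg) a ?_ ?_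
    · rw [col_mul]; exact mulVec_mem_span hM (L.inv_mem (u ^ k).2) hpφ
    · have h := congrArg Subtype.val hcomm
      rw [← hconj] at h
      simp only [Subgroup.coe_mul, Subgroup.coe_inv] at h
      rw [show y⁻¹ * g * tv i a * (y⁻¹ * g)⁻¹ = y⁻¹ * (g * tv i a * g⁻¹) * y by group]
      exact h.symm
  have heq : (u ^ k)⁻¹ * τ * u ^ k = z := by
    refine Subtype.ext ?_
    show y⁻¹ * (g * tv i a * g⁻¹) * y = tv i c
    rw [← eq_tv_of_single hq.sqi (y⁻¹ * g) hcolχ]
    group
  have hun1 : u ^ n = 1 := by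
    rw [hconj] at heq
    exact mul_left_cancel (heq.trans (mul_one z).symm)
  have huO : u ^ k ∈ Cfsg.oddCore L := by
    have : u = (u * u) ^ (k + 1) := by
      rw [← sq, ← pow_mul, show 2 * (k + 1) = n + 1 by omega, pow_succ, hun1, one_mul]
    have hu' : u ∈ Cfsg.oddCore L := this ▸ Subgroup.pow_mem _ hO _
    exact Subgroup.pow_mem _ hu' _
  haveI : (Cfsg.oddCore L).Normal := Cfsg.Agent.Solv.pPrimeCore_normal 2
  obtain ⟨hodd, hnorm⟩ := normal_odd_map (Cfsg.oddCore L) hOodd (toFrame K hM)
  have hblk : ∀ x ∈ (Q : Subgroup SL2), blkHom 0 x ∈ Subgroup.normalizer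
      (((Cfsg.oddCore L).map (toFrame K hM) : Subgroup (Ug F (Fin 2))) : Set (Ug F (Fin 2))) := by
    intro x hx
    have gen : ∀ (w : Ug F ι) (hw : w ∈ L),
        w = emb (M *ᵥ e 0) (by rw [ip_frame hM, ip_e]) x → toFrame K hM ⟨w, hw⟩ = blkHom 0 x := by
      rintro w hw rfl
      rw [toFrame_emb K hM (ip_e 0), blkHom_apply, dg_one1]
    have : toFrame K hM ⟨_, hemb x hx⟩ = blkHom 0 x := gen _ _ (by simp only [hce, dg_one1])
    rw [← this]
    exact hnorm _
  have hlow := (odd_subgroup_col hq hi hj hodd hblk ⟨_, huO, rfl⟩).1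
  -- the plane is the image of the coordinate one
  set x : M2 := col (y⁻¹ * g) a c
  have hφy : φ = mat y *ᵥ fun b => e c b * x := by
    have h1 : mat y⁻¹ *ᵥ φ = fun b => e c b * x := by
      funext b
      rw [← col_mul]
      by_cases hb : b = c
      · subst hb; simp [e, x]
      · rw [hcolχ b hb]; simp [e, hb]
    rw [← h1, Matrix.mulVec_mulVec, ← mat_mul, mul_inv_cancel, mat_one, Matrix.one_mulVec]
  have hη : η' = mat (toFrame K hM (u ^ k)) 1 0 * x := by
    have hx : (fun b => e c b * x) = M *ᵥ (fun b => e (0 : Fin 2) b * x) := by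
      rw [hMv]; funext b; simp [e]
    have h1 : ![φ c, η'] = cs M *ᵥ φ := by
      conv_rhs => rw [← hφM, Matrix.mulVec_mulVec, hM, Matrix.one_mulVec]
    have h2 := congrFun h1 1
    rw [hφy, hx, ← toFrame_apply_single K hM (u ^ k)] at h2
    simpa [Matrix.mulVec, dotProduct, e, Fin.sum_univ_two] using h2
  have hdet := congrArg Matrix.det (show η * (mat (toFrame K hM (u ^ k)) 1 0 * x) = 1 by
    rw [← hη, hηη])
  rw [Matrix.det_mul, Matrix.det_mul, hlow] at hdet
  simp at hdet

set_option maxHeartbeats 1000000 in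
/-- The case of two planes. -/
theorem single_of_two (hq : IsQuat i j) (hi : i ∈ (Q : Subgroup SL2)) (hj : j ∈ (Q : Subgroup SL2))
    {K : Subgroup (Ug F ι)} (hK : NoFusion Q i K)
    (IH : ∀ (c : ι) (K' : Subgroup (Ug F {b // b ≠ c})), NoFusion Q i K' → Mon K')
    {c d : ι} (hcd : c ≠ d) (hall : ∀ x : ι, x = c ∨ x = d) {g : Ug F ι} (hg : g ∈ K) (a : ι) :
    IsSingle (col g a) := by
  by_contra hns
  haveI : Fact (Nat.Prime 2) := ⟨Nat.prime_two⟩
  have hother : ∀ x b : ι, b ≠ x → x = c → b = d := fun x b hb hx =>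
    (hall b).resolve_left (fun h => hb (h.trans hx.symm))
  set M : Matrix ι (Fin 2) M2 := Matrix.of fun b k => ![e c b, e d b] k
  have hM : IsFrame M := by
    refine Matrix.ext fun k l => ?_
    have hkl : (cs M * M) k l = ip (fun b => M b k) (fun b => M b l) := rfl
    have h00 : ip (e c : ι → M2) (e c) = 1 := ip_e c
    have h11 : ip (e d : ι → M2) (e d) = 1 := ip_e d
    have h01 : ip (e c : ι → M2) (e d) = 0 := by rw [ip_e_left, e, Pi.single_eq_of_ne hcd]
    have h10 : ip (e d : ι → M2) (e c) = 0 := by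
      rw [ip_e_left, e, Pi.single_eq_of_ne (Ne.symm hcd)]
    rw [hkl]
    fin_cases k <;> fin_cases l
    · exact h00.trans (Matrix.one_apply_eq _).symm
    · exact h01.trans (Matrix.one_apply_ne (by decide)).symm
    · exact h10.trans (Matrix.one_apply_ne (by decide)).symm
    · exact h11.trans (Matrix.one_apply_eq _).symm
  have hperp : perp M = 0 := by
    refine Matrix.ext fun x y => ?_
    rw [perp, Matrix.sub_apply, Matrix.mul_apply, Fin.sum_univ_two, Matrix.one_apply]
    rcases hall x with rfl | rfl <;> rcases hall y with rfl | rfl <;>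
      simp [M, cs_apply, e, hcd, Ne.symm hcd, adj_zero]
  have hKL : fixGrp K M = K := le_antisymm (fun x hx => hx.1) fun x hx =>
    ⟨hx, by rw [hperp, Matrix.mul_zero]⟩
  have hzc : ∀ x : Ug F ι, x * (tv i c * tv i d) = tv i c * tv i d * x := by
    intro x
    refine mat_ext ?_
    have hneg : mat (tv i c * tv i d : Ug F ι) = -1 := by
      rw [mat_mul, mat_tv hq.sqi, mat_tv hq.sqi, Matrix.diagonal_mul_diagonal]
      refine Matrix.ext fun y z => ?_
      rw [Matrix.neg_apply]
      by_cases hyz : y = z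
      · subst hyz
        rw [Matrix.diagonal_apply_eq, Matrix.one_apply_eq]
        rcases hall y with rfl | rfl <;> simp [hcd, Ne.symm hcd]
      · rw [Matrix.diagonal_apply_ne _ hyz, Matrix.one_apply_ne hyz, neg_zero]
    rw [mat_mul x, mat_mul _ x, hneg, mul_neg_one, neg_one_mul]
  set zz : K := ⟨tv i c * tv i d, K.mul_mem (tv_mem hK hi c) (tv_mem hK hi d)⟩
  have hzzc : ∀ x : K, x * zz = zz * x := fun x => Subtype.ext (hzc _)
  have hdc : tv i d * tv i c = (tv i c * tv i d : Ug F ι) := by
    refine mat_ext ?_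
    rw [mat_mul, mat_mul, mat_tv hq.sqi, mat_tv hq.sqi, Matrix.diagonal_mul_diagonal,
      Matrix.diagonal_mul_diagonal]
    congr 1; funext b
    rcases hall b with rfl | rfl <;> simp [hcd, Ne.symm hcd]
  have hzz2 : zz * zz = 1 := Subtype.ext (by
    show tv i c * tv i d * (tv i c * tv i d) = (1 : Ug F ι)
    rw [show tv i c * tv i d * (tv i c * tv i d) = tv i c * (tv i d * tv i c) * tv i d by group,
      hdc, ← mul_assoc, tv_mul_self hq.sqi, one_mul, tv_mul_self hq.sqi])
  set Z : Subgroup K := Subgroup.zpowers zz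
  haveI hZn : Z.Normal := ⟨fun x hx k => by
    obtain ⟨m, rfl⟩ := hx
    rw [((show Commute k zz from hzzc k).zpow_right m).eq,
      mul_inv_cancel_right]
    exact ⟨m, rfl⟩⟩
  have hZmem : ∀ x ∈ Z, x = 1 ∨ x = zz := by
    rintro _ ⟨m, rfl⟩
    rcases Int.even_or_odd m with ⟨l, rfl⟩ | ⟨l, rfl⟩
    · left
      show zz ^ (l + l) = 1
      rw [← two_mul, zpow_mul, zpow_two, hzz2, one_zpow]
    · right
      show zz ^ (2 * l + 1) = zz
      rw [zpow_add, zpow_one, zpow_mul, zpow_two, hzz2, one_zpow, one_mul]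
  set t : K := ⟨tv i c, tv_mem hK hi c⟩
  have ht2 : t * t = 1 := Subtype.ext (tv_mul_self hq.sqi c)
  set π := QuotientGroup.mk' Z
  have htd : π ⟨tv i d, tv_mem hK hi d⟩ = π t := by
    rw [QuotientGroup.mk'_eq_mk']
    refine ⟨zz, Subgroup.mem_zpowers _, Subtype.ext ?_⟩
    show tv i d * (tv i c * tv i d) = tv i c
    rw [← hdc, ← mul_assoc, tv_mul_self hq.sqi, one_mul]
  -- the coordinate involution is isolated modulo the centre
  have hiso : Cfsg.IsIsolatedInvolution (π t) := by
    refine ⟨orderOf_eq_prime (by rw [sq, ← map_mul, ht2, map_one]) fun h => ?_, fun kb hk => ?_⟩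
    · rcases hZmem t ((QuotientGroup.eq_one_iff _).1 h) with h | h
      · exact tv_ne_one hq.two hq.sqi c (congrArg Subtype.val h)
      · have h' : (tv i c : Ug F ι) = tv i c * tv i d := congrArg Subtype.val h
        exact tv_ne_one hq.two hq.sqi d (mul_left_cancel (h'.symm.trans (mul_one _).symm))
    obtain ⟨k, rfl⟩ := QuotientGroup.mk'_surjective Z kb
    have hk' : π (t * (k * t * k⁻¹)) = π (k * t * k⁻¹ * t) := by
      simp only [map_mul, map_inv]
      exact hk
    rw [← map_inv, ← map_mul, ← map_mul]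
    obtain ⟨w, hw, hwe⟩ := (QuotientGroup.mk'_eq_mk' _).1 hk'
    have hsingle : IsSingle (col (k : Ug F ι) c) := by
      rcases hZmem w hw with rfl | rfl
      · rw [mul_one] at hwe
        exact single_of_comm hq hi hK IH k.2 (congrArg Subtype.val hwe).symm
      · refine single_of_mon hq hi hK k.2 (mem_monG_of_single fun y => ?_)
        set X := (k : Ug F ι) * tv i c * (k : Ug F ι)⁻¹
        have hX : tv i c * X * (tv i c * tv i d) = X * tv i c := congrArg Subtype.val hwe
        clear_value X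
        have hzero : ∀ x, mat X x x = 0 := by
          intro x
          have h := congrFun (congrFun (congrArg mat hX) x) x
          rw [mat_mul, mat_mul, mat_mul, mat_mul, mat_tv hq.sqi, mat_tv hq.sqi,
            Matrix.diagonal_mul_diagonal, Matrix.mul_diagonal, Matrix.diagonal_mul,
            Matrix.mul_diagonal] at h
          refine eq_zero_of_two hq.two ?_
          rcases hall x with rfl | rfl <;> simp [hcd, Ne.symm hcd] at h
          · nth_rewrite 1 [h]; exact neg_add_cancel _
          · nth_rewrite 1 [← h]; exact neg_add_cancel _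
        rcases hall y with rfl | rfl
        · exact ⟨d, fun x hx => by
            rw [mulVec_e, show x = y from (hall x).resolve_right hx, hzero]⟩
        · exact ⟨c, fun x hx => by
            rw [mulVec_e, show x = y from (hall x).resolve_left hx, hzero]⟩
    obtain ⟨b, hb⟩ := hsingle
    have hke := eq_tv_of_single hq.sqi (k : Ug F ι) hb
    rcases hall b with rfl | rfl
    · exact congrArg π (Subtype.ext hke)
    · rw [← htd]; exact congrArg π (Subtype.ext hke)
  set τ : K := ⟨g * tv i a * g⁻¹, K.mul_mem (K.mul_mem hg (tv_mem hK hi a)) (K.inv_mem hg)⟩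
  have hτ2 : τ * τ = 1 := Subtype.ext (conj_tv_sq hq g a)
  set u : K := t * τ with hu
  have huO : π (u * u) ∈ Cfsg.oddCore (K ⧸ Z) := by
    have := Cfsg.Agent.Char.zStar_isolated hiso (π τ)
    rw [← map_inv, ← map_inv, inv_eq_of_mul_eq_one_right ht2, inv_eq_of_mul_eq_one_right hτ2,
      ← map_mul, ← map_mul, ← map_mul] at this
    rwa [show u * u = t * τ * t * τ by rw [hu]; group]
  haveI : (Cfsg.oddCore (K ⧸ Z)).Normal := Cfsg.Agent.Solv.pPrimeCore_normal 2
  set N : Subgroup K := (Cfsg.oddCore (K ⧸ Z)).comap π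
  have hNcard : Nat.card N = Nat.card (Cfsg.oddCore (K ⧸ Z)) * Nat.card Z := by
    have e : (π.ker).relIndex N = Nat.card (Cfsg.oddCore (K ⧸ Z)) := by
      rw [Subgroup.relIndex_ker]
      show Nat.card (Subgroup.map π N) = _
      rw [Subgroup.map_comap_eq_self_of_surjective (QuotientGroup.mk'_surjective Z)]
    have hker : π.ker = Z := QuotientGroup.ker_mk' Z
    have hle : Z ≤ N := fun x hx => by
      show π x ∈ Cfsg.oddCore (K ⧸ Z)
      rw [show π x = 1 from (QuotientGroup.eq_one_iff _).2 hx]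
      exact one_mem _
    rw [← e, hker, Subgroup.relIndex, mul_comm, ← Nat.card_congr (Subgroup.subgroupOfEquivOfLe hle).toEquiv,
      Subgroup.card_mul_index]
  have hZcard : Nat.card Z = 2 := by
    rw [Nat.card_zpowers]
    refine orderOf_eq_prime (by rw [sq, hzz2]) fun h => ?_
    have h' : tv i c * tv i d = (1 : Ug F ι) := congrArg Subtype.val h
    have := congrFun (congrFun (congrArg mat h') c) c
    rw [mat_mul, mat_tv hq.sqi, mat_tv hq.sqi, Matrix.diagonal_mul_diagonal, mat_one,
      Matrix.diagonal_apply_eq, Matrix.one_apply_eq, if_pos rfl, if_neg hcd, mul_one] at this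
    have h00 := congrFun (congrFun this 0) 0
    simp at h00
    exact hq.two (by linear_combination -h00)
  have hNodd := Cfsg.Agent.Char.card_oddCore_odd (K ⧸ Z)
  obtain ⟨P⟩ := (inferInstance : Nonempty (Sylow 2 N))
  have hPcard : Nat.card P = 2 := by
    rw [P.card_eq_multiplicity, hNcard, hZcard, Nat.factorization_mul Nat.card_pos.ne' two_ne_zero,
      Finsupp.add_apply, Nat.factorization_eq_zero_of_not_dvd hNodd.not_two_dvd_nat,
      Nat.prime_two.factorization_self, zero_add, pow_one]
  have hzN : zz ∈ N := by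
    show π zz ∈ Cfsg.oddCore (K ⧸ Z)
    rw [show π zz = 1 from (QuotientGroup.eq_one_iff _).2 (Subgroup.mem_zpowers _)]
    exact one_mem _
  have hPZ : ∀ p ∈ (P : Subgroup N), (p : K) = 1 ∨ (p : K) = zz := by
    intro p hp
    have hle : Z.subgroupOf N ≤ (P : Subgroup N) := by
      have hz : IsPGroup 2 (Z.subgroupOf N) :=
        IsPGroup.of_card (n := 1) (by
          rw [Nat.card_congr (Subgroup.subgroupOfEquivOfLe (Subgroup.zpowers_le.2 hzN)).toEquiv,
            hZcard, pow_one])
      have hsup := P.2.to_sup_of_normal_right hz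
      exact (P.3 hsup le_sup_left).le.trans' le_sup_right
    have he : Z.subgroupOf N = (P : Subgroup N) := Subgroup.eq_of_le_of_card_ge hle (by
      rw [Nat.card_congr (Subgroup.subgroupOfEquivOfLe (Subgroup.zpowers_le.2 hzN)).toEquiv, hZcard,
        hPcard])
    rw [← he] at hp
    exact hZmem _ hp
  obtain ⟨O, hOn, hOodd, hOdec, hOmem⟩ :=
    Cfsg.Agent.Classical.OddPronormal.exists_normal_complement P (fun x _ =>
      Subgroup.mem_centralizer_iff.2 fun p hp => by
        rcases hPZ p hp with h | h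
        · rw [show p = 1 from Subtype.ext h, one_mul, mul_one]
        · exact Subtype.ext (by
            show (p : K) * (x : K) = (x : K) * (p : K)
            rw [h, hzzc]))
  set OK : Subgroup K := O.map N.subtype
  haveI : OK.Normal := ⟨by
    rintro _ ⟨o, ho, rfl⟩ x
    have hmem : x * (o : K) * x⁻¹ ∈ N := Subgroup.Normal.conj_mem inferInstance _ o.2 x
    refine ⟨⟨_, hmem⟩, hOmem _ ?_, rfl⟩
    have e : orderOf (x * (o : K) * x⁻¹) = orderOf (o : K) := (MulAut.conj x).orderOf_eq _
    rw [← Subgroup.orderOf_coe]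
    show Odd (orderOf (x * (o : K) * x⁻¹))
    rw [e, Subgroup.orderOf_coe]
    exact hOodd.of_dvd_nat (Subgroup.orderOf_dvd_natCard O ho)⟩
  have hOKodd : Odd (Nat.card OK) := hOodd.of_dvd_nat (Subgroup.card_map_dvd O N.subtype)
  let f : K →* Ug F (Fin 2) := (toFrame K hM).comp (Subgroup.inclusion hKL.ge)
  obtain ⟨hfodd, hfnorm⟩ := normal_odd_map OK hOKodd f
  have hblk : ∀ (l : Fin 2), ∀ x ∈ (Q : Subgroup SL2), blkHom l x ∈ Subgroup.normalizer
      ((OK.map f : Subgroup (Ug F (Fin 2))) : Set (Ug F (Fin 2))) := by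
    intro l x hx
    have : f ⟨_, hK.base _ (one1_mem (a := ![c, d] l) hx)⟩ = blkHom l x := by
      rw [blkHom_apply]
      refine mat_ext (Matrix.ext fun k m => ?_)
      show (cs M * mat (dg F ι (one1 (![c, d] l) x)) * M) k m = _
      rw [mat_dg, mat_dg, Matrix.mul_apply]
      simp only [Matrix.mul_diagonal, cs_apply]
      have hsum : ∀ φ : ι → M2, ∑ b, φ b = φ c + φ d := fun φ =>
        Finset.sum_eq_add_of_mem c d (Finset.mem_univ _) (Finset.mem_univ _) hcd
          fun b _ hb => absurd (hall b) (by simp [hb.1, hb.2])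
      rw [hsum]
      fin_cases l <;> fin_cases k <;> fin_cases m <;>
        simp [M, e, one1, hcd, Ne.symm hcd, adj_zero, Matrix.diagonal]
    rw [← this]
    exact hfnorm _
  obtain ⟨o, hoO, p, hp, hop⟩ := hOdec ⟨u * u, huO⟩
  have hlow : mat (f (o : K)) 1 0 = 0 :=
    (odd_subgroup_col hq hi hj hfodd (hblk 0) ⟨_, ⟨o, hoO, rfl⟩, rfl⟩).2 (hblk 1)
  have hoc : (o : K) * t = t * (o : K) := by
    have hcol : ∀ b, b ≠ c → col ((o : K) : Ug F ι) c b = 0 := by
      intro b hb
      rw [hother c b hb rfl, col_apply]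
      have h1 : mat (f (o : K)) 1 0 = mat ((o : K) : Ug F ι) d c := by
        show (cs M * mat ((o : K) : Ug F ι) * M) 1 0 = _
        rw [Matrix.mul_assoc, Matrix.mul_apply,
          Finset.sum_eq_add_of_mem c d (Finset.mem_univ _) (Finset.mem_univ _) hcd
            fun b _ hb => absurd (hall b) (by simp [hb.1, hb.2]), Matrix.mul_apply, Matrix.mul_apply,
          Finset.sum_eq_add_of_mem c d (Finset.mem_univ _) (Finset.mem_univ _) hcd
            fun b _ hb => absurd (hall b) (by simp [hb.1, hb.2]),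
          Finset.sum_eq_add_of_mem c d (Finset.mem_univ _) (Finset.mem_univ _) hcd
            fun b _ hb => absurd (hall b) (by simp [hb.1, hb.2])]
        simp [M, cs_apply, e, hcd, Ne.symm hcd, adj_zero]
      rw [← h1, hlow]
    have h := eq_tv_of_single hq.sqi ((o : K) : Ug F ι) hcol
    exact Subtype.ext (mul_inv_eq_iff_eq_mul.1 h)
  have hut : u * u * t = t * (u * u) := by
    have e1 : u * u = (o : K) * (p : K) := (congrArg Subtype.val hop).symm
    rcases hPZ p hp with h | h
    · rw [e1, h, mul_one, hoc]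
    · rw [e1, h, mul_assoc, ← hzzc t, ← mul_assoc, hoc, mul_assoc]
  -- the conjugate commutes with the coordinate involution
  have hτcol : ∀ x, IsSingle (col (τ : Ug F ι) x) := by
    have hτinv : τ⁻¹ = τ := inv_eq_of_mul_eq_one_right hτ2
    have hcm : τ * t * τ⁻¹ * t = t * (τ * t * τ⁻¹) := by
      rw [hτinv]
      calc τ * t * τ * t = t * t * (τ * t * τ) * t := by rw [ht2, one_mul]
        _ = t * ((u * u) * t) := by rw [hu]; group
        _ = t * t * (u * u) := by rw [hut]; group
        _ = u * u := by rw [ht2, one_mul]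
        _ = t * (τ * t * τ) := by rw [hu]; group
    obtain ⟨b, hb⟩ := single_of_comm hq hi hK IH τ.2 (congrArg Subtype.val hcm)
    intro x
    rcases hall x with rfl | rfl
    · exact ⟨b, hb⟩
    · have hb1 : (col (τ : Ug F ι) c b).det = 1 := IsSingle.det_eq_one hb (ip_col' _ _)
      have h0 : ip (col (τ : Ug F ι) c) (col (τ : Ug F ι) x) = 0 := by
        rw [col, col, ip_act, ip_e_left, e, Pi.single_eq_of_ne hcd]
      rw [ip, Finset.sum_eq_single b (fun y _ hy => by rw [hb y hy, adj_zero, zero_mul])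
        (by simp)] at h0
      have h1 : col (τ : Ug F ι) x b = 0 := by
        have := congrArg (col (τ : Ug F ι) c b * ·) h0
        simpa [← mul_assoc, mul_adj, hb1] using this
      rcases hall b with rfl | rfl
      · exact ⟨x, fun y hy => by rw [(hall y).resolve_right hy]; exact h1⟩
      · exact ⟨c, fun y hy => by rw [(hall y).resolve_left hy]; exact h1⟩
  exact hns (single_of_mon hq hi hK hg (mem_monG_of_single hτcol))

set_option maxHeartbeats 1000000 in
/-- Without fusion, the planes are permuted. -/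
theorem frames_aux (hq : IsQuat i j) (hi : i ∈ (Q : Subgroup SL2)) (hj : j ∈ (Q : Subgroup SL2)) :
    ∀ (n : ℕ) (ι : Type v) [Fintype ι] [DecidableEq ι] (K : Subgroup (Ug F ι)),
      Fintype.card ι = n → NoFusion Q i K → Mon K := by
  intro n
  induction n using Nat.strong_induction_on with
  | _ n ih =>
    intro ι _ _ K hn hK
    have IH : ∀ (c : ι) (K' : Subgroup (Ug F {b // b ≠ c})), NoFusion Q i K' → Mon K' :=
      fun c K' hK' => ih _ (hn ▸ Fintype.card_subtype_lt (x := c) (fun h => h rfl)) _ K' rfl hK'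
    intro g hg
    refine mem_monG_of_single fun a => ?_
    show IsSingle (col g a)
    by_cases h3 : ∀ x y : ι, ∃ d, d ≠ x ∧ d ≠ y
    · by_contra hns
      obtain ⟨c, hca, -⟩ := h3 a a
      have hdet : ∀ {g : Ug F ι}, g ∈ K → ∀ {a : ι}, ¬ IsSingle (col g a) → ∀ c,
          (col g a c).det = 1 := fun hg _ hns c =>
        det_eq_one_of_not_single hq hi hj hK IH h3 hg hns c
      set φ := col g a with hφdef
      have hdφ : ∀ b, (φ b).det = 1 := hdet hg hns
      set q : Ug F ι := dg F ι (one1 a i * one1 c (i * i))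
      have hqK : q ∈ K := hK.base _ fun b =>
        mul_mem (one1_mem hi b) (one1_mem (mul_mem hi hi) b)
      set k := g⁻¹ * q * g
      have hkK : k ∈ K := K.mul_mem (K.mul_mem (K.inv_mem hg) hqK) hg
      have hS : col k a a = ip φ (mat q *ᵥ φ) := by
        rw [← ip_e_left a (col k a), ← ip_act g, col, mat_mul, mat_mul]
        simp only [Matrix.mulVec_mulVec, φ, col]
        rw [← Matrix.mul_assoc (mat g) (mat g⁻¹ * mat q) (mat g), ← Matrix.mul_assoc (mat g),
          ← mat_mul g g⁻¹, mul_inv_cancel, mat_one, Matrix.one_mul]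
      have hor : col k a a = 0 ∨ (col k a a).det = 1 := by
        by_cases hs : IsSingle (col k a)
        · obtain ⟨b, hb⟩ := hs
          by_cases hba : b = a
          · subst hba; exact Or.inr (IsSingle.det_eq_one hb (ip_col' k b))
          · exact Or.inl (hb a (Ne.symm hba))
        · exact Or.inr (hdet hkK hs a)
      set η : M2 := (φ a).adjugate * i.1 * φ a
      have hS' : col k a a = η - (2 : F) • (1 : M2) := by
        rw [hS, ip]
        have hb : ∀ b, (φ b).adjugate * (mat q *ᵥ φ) b = (φ b).adjugate * φ b +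
            ((if b = a then η - 1 else 0) + (if b = c then -((2 : F) • (1 : M2)) else 0)) := by
          intro b
          rw [mat_dg, Matrix.mulVec_diagonal]
          by_cases hba : b = a
          · subst hba
            rw [if_pos rfl, if_neg (Ne.symm hca), adj_mul_self, hdφ b, one_smul]
            simp [one1, Pi.mulSingle_eq_of_ne (Ne.symm hca), η, mul_assoc]
          · by_cases hbc : b = c
            · subst hbc
              rw [if_neg hba, if_pos rfl, adj_mul_self, hdφ b, one_smul]
              simp [one1, Pi.mulSingle_eq_of_ne hba, Matrix.SpecialLinearGroup.coe_mul, hq.sqi,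
                adj_mul_self, hdφ b, two_smul]
            · simp [one1, Pi.mulSingle_eq_of_ne hba, Pi.mulSingle_eq_of_ne hbc, hba, hbc]
        rw [Finset.sum_congr rfl fun b _ => hb b, Finset.sum_add_distrib, Finset.sum_add_distrib,
          Finset.sum_ite_eq' Finset.univ a, Finset.sum_ite_eq' Finset.univ c,
          if_pos (Finset.mem_univ _), if_pos (Finset.mem_univ _), ← ip, show ip φ φ = 1 from ip_col' g a]
        abel
      have hηadj : η.adjugate = -η := by
        simp only [η, adj_mul, adj_adj, IsQuat.adj_eq hq.sqi, mul_neg, neg_mul, mul_assoc]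
      have hηη : η * η = -1 := by
        have e : η * η = (φ a).adjugate * i.1 * (φ a * (φ a).adjugate) * i.1 * φ a := by
          simp only [η, mul_assoc]
        rw [e, mul_adj, hdφ a, one_smul, mul_one, mul_assoc (φ a).adjugate, hq.sqi,
          mul_neg_one, neg_mul, adj_mul_self, hdφ a, one_smul]
      have h4 : (4 : F) = 0 := by
        rcases hor with h | h
        · rw [hS', sub_eq_zero] at h
          rw [h, adj_smul, Matrix.adjugate_one, ← neg_smul] at hηadj
          have := congrFun (congrFun hηadj 0) 0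
          simp at this
          linear_combination this
        · have h1 := mul_adj (col k a a)
          rw [h, hS', adj_sub, hηadj, adj_smul, Matrix.adjugate_one, one_smul] at h1
          have h2 : (4 : F) • (1 : M2) + 1 = 1 := by
            conv_rhs => rw [← h1]
            rw [sub_mul, mul_sub, mul_sub, mul_neg, hηη, Matrix.smul_mul, one_mul, Matrix.mul_smul,
              mul_one, Matrix.smul_mul, one_mul, smul_smul, smul_neg]
            rw [show (2 : F) * 2 = 4 by norm_num]
            abel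
          have := congrFun (congrFun h2 0) 0
          simp at this
          exact this
      exact hq.two (mul_self_eq_zero.1 (by linear_combination h4))
    · push Not at h3
      obtain ⟨x, y, hxy⟩ := h3
      have hall : ∀ z : ι, z = x ∨ z = y := fun z => by
        by_cases hz : z = x
        · exact Or.inl hz
        · exact Or.inr (hxy z hz)
      by_cases he : x = y
      · exact ⟨x, fun z hz => absurd ((hall z).elim id (fun h => h.trans he.symm)) hz⟩
      · exact single_of_two hq hi hj hK IH he hall hg a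

/-- Without fusion, the planes are permuted. -/
theorem frames (hq : IsQuat i j) (hi : i ∈ (Q : Subgroup SL2)) (hj : j ∈ (Q : Subgroup SL2))
    {K : Subgroup (Ug F ι)} (hK : NoFusion Q i K) : K ≤ monTop F ι :=
  frames_aux hq hi hj _ ι K rfl hK

end Main

end Cfsg.Agent.Classical.SpPro
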