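import Cfsg.Agent.Lib.Classical.Pronormal.SpUnitary

/-!
The quaternionic model is isomorphic to `Matrix.symplecticGroup`.
-/

set_option autoImplicit false
set_option linter.unusedSectionVars false

open Matrix

namespace Cfsg.Agent.Classical.SpPro

universe u

variable {F : Type u} [Field F] {n : ℕ}

local notation "M2" => Matrix (Fin 2) (Fin 2) F
local notation "Mn" => Matrix (Fin n) (Fin n) M2
local notation "Mnn" => Matrix (Fin n ⊕ Fin n) (Fin n ⊕ Fin n) F

/-- Flattening of the block matrix. -/
def flat (g : Mn) : Mnn :=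
  Matrix.fromBlocks (Matrix.of fun a b => g a b 0 0) (Matrix.of fun a b => g a b 0 1)
    (Matrix.of fun a b => g a b 1 0) (Matrix.of fun a b => g a b 1 1)

/-- Inverse of the flattening. -/
def unflat (A : Mnn) : Mn :=
  Matrix.of fun a b => !![A.toBlocks₁₁ a b, A.toBlocks₁₂ a b; A.toBlocks₂₁ a b, A.toBlocks₂₂ a b]

theorem flat_unflat (A : Mnn) : flat (unflat A) = A := by
  refine Matrix.ext fun a b => ?_
  rcases a with a | a <;> rcases b with b | b <;>
    simp [flat, unflat, Matrix.toBlocks₁₁, Matrix.toBlocks₁₂, Matrix.toBlocks₂₁, Matrix.toBlocks₂₂]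

theorem flat_injective : Function.Injective (flat : Mn → Mnn) := fun g h e => by
  obtain ⟨e1, e2, e3, e4⟩ := Matrix.fromBlocks_inj.1 e
  refine Matrix.ext fun a b => ?_
  have f1 := congrFun (congrFun e1 a) b
  have f2 := congrFun (congrFun e2 a) b
  have f3 := congrFun (congrFun e3 a) b
  have f4 := congrFun (congrFun e4 a) b
  simp only [Matrix.of_apply] at f1 f2 f3 f4
  refine Matrix.ext fun i j => ?_
  fin_cases i <;> fin_cases j <;> assumption

theorem flat_one : flat (1 : Mn) = 1 := by
  refine Matrix.ext fun a b => ?_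
  rcases a with a | a <;> rcases b with b | b <;>
    by_cases h : a = b <;> simp [flat, h, Matrix.one_apply]

theorem flat_mul (g h : Mn) : flat (g * h) = flat g * flat h := by
  rw [flat, flat, flat, Matrix.fromBlocks_multiply, Matrix.fromBlocks_inj]
  refine ⟨?_, ?_, ?_, ?_⟩ <;> refine Matrix.ext fun a b => ?_ <;>
    simp [Matrix.mul_apply, Matrix.sum_apply, Fin.sum_univ_two, Finset.sum_add_distrib]

theorem flat_cs (g : Mn) : flat (cs g) = -(Matrix.J (Fin n) F) * (flat g)ᵀ * Matrix.J (Fin n) F := by
  rw [flat, flat, Matrix.fromBlocks_transpose, Matrix.J, Matrix.fromBlocks_neg,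
    Matrix.fromBlocks_multiply, Matrix.fromBlocks_multiply, Matrix.fromBlocks_inj]
  refine ⟨?_, ?_, ?_, ?_⟩ <;> refine Matrix.ext fun a b => ?_ <;>
    simp [cs_apply, Matrix.adjugate_fin_two]

theorem flat_mem {g : Ug F (Fin n)} : flat (mat g) ∈ Matrix.symplecticGroup (Fin n) F := by
  rw [SymplecticGroup.mem_iff]
  have h := congrArg flat (mat_mul_cs g)
  rw [flat_mul, flat_cs, flat_one] at h
  have h' := congrArg (· * Matrix.J (Fin n) F) h
  simp only [one_mul, mul_assoc, Matrix.J_squared, mul_neg, mul_one, neg_mul, neg_neg] at h'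
  simpa [mul_assoc] using h'

variable (F n) in
/-- The model as the symplectic group. -/
def toSp : Ug F (Fin n) →* Matrix.symplecticGroup (Fin n) F where
  toFun g := ⟨flat (mat g), flat_mem⟩
  map_one' := Subtype.ext flat_one
  map_mul' g h := Subtype.ext (flat_mul (mat g) (mat h))

theorem toSp_injective : Function.Injective (toSp F n) := fun _ _ e =>
  mat_ext (flat_injective (congrArg Subtype.val e))

theorem toSp_surjective : Function.Surjective (toSp F n) := fun A => by
  have hA : (A⁻¹ : Matrix.symplecticGroup (Fin n) F).1 * A.1 = 1 := by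
    rw [← Submonoid.coe_mul, inv_mul_cancel]; rfl
  have hA' : A.1 * (A⁻¹ : Matrix.symplecticGroup (Fin n) F).1 = 1 := by
    rw [← Submonoid.coe_mul, mul_inv_cancel]; rfl
  have hc : flat (cs (unflat A.1)) = (A⁻¹ : Matrix.symplecticGroup (Fin n) F).1 := by
    rw [flat_cs, flat_unflat, SymplecticGroup.coe_inv]
  let g : Mnˣ := ⟨unflat A.1, cs (unflat A.1),
    flat_injective (by rw [flat_mul, flat_unflat, hc, hA', flat_one]),
    flat_injective (by rw [flat_mul, flat_unflat, hc, hA, flat_one])⟩
  exact ⟨⟨g, g.inv_mul⟩, Subtype.ext (flat_unflat A.1)⟩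

end Cfsg.Agent.Classical.SpPro
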