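import Cfsg.Agent.Lib.Classical.Pronormal.SpFour

/-!
Planes, their involutions, and the restriction to the span of two planes.
-/

set_option autoImplicit false
set_option linter.unusedSectionVars false

open scoped Matrix

namespace Cfsg.Agent.Classical.SpPro

universe u v w

variable {F : Type u} [Field F] {ι : Type v} [Fintype ι] [DecidableEq ι]

local notation "M2" => Matrix (Fin 2) (Fin 2) F
local notation "SL2" => Matrix.SpecialLinearGroup (Fin 2) F

/-- The involution of a coordinate plane. -/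
def tv (i : SL2) (a : ι) : Ug F ι := dg F ι (one1 a (i * i))

/-- A column. -/
def col (g : Ug F ι) (a : ι) : ι → M2 := mat g *ᵥ e a

theorem ip_col' (g : Ug F ι) (a : ι) : ip (col g a) (col g a) = 1 := ip_col g a

theorem ip_mul_right (φ ψ : ι → M2) (x y : M2) :
    ip (fun b => φ b * x) (fun b => ψ b * y) = x.adjugate * ip φ ψ * y := by
  simp only [ip, adj_mul, Finset.mul_sum, Finset.sum_mul, mul_assoc]

theorem col_apply (g : Ug F ι) (a b : ι) : col g a b = mat g b a := mulVec_e _ _ _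

theorem col_mul (g h : Ug F ι) (a : ι) : col (g * h) a = mat g *ᵥ col h a := by
  rw [col, col, mat_mul, Matrix.mulVec_mulVec]

theorem mat_inv_mulVec (g : Ug F ι) (φ : ι → M2) : mat g⁻¹ *ᵥ (mat g *ᵥ φ) = φ := by
  rw [Matrix.mulVec_mulVec, ← mat_mul, inv_mul_cancel, mat_one, Matrix.one_mulVec]

theorem conj_tv (i : SL2) (g : Ug F ι) (a : ι) :
    g * tv i a * g⁻¹ = emb (col g a) (ip_col' g a) (i * i) := by
  rw [tv, dg_one1, conj_emb]
  rfl

section Involution

variable {i : Matrix.SpecialLinearGroup (Fin 2) F}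

theorem mat_tv (hi : i.1 * i.1 = -1) (a : ι) :
    mat (tv i a : Ug F ι) = Matrix.diagonal fun b => if b = a then (-1 : M2) else 1 := by
  rw [tv, mat_dg]
  congr 1
  funext b
  by_cases h : b = a
  · subst h
    rw [one1, Pi.mulSingle_eq_same, Matrix.SpecialLinearGroup.coe_mul, hi, if_pos rfl]
  · rw [one1, Pi.mulSingle_eq_of_ne h, if_neg h, Matrix.SpecialLinearGroup.coe_one]

theorem tv_mul_self (hi : i.1 * i.1 = -1) (a : ι) : (tv i a : Ug F ι) * tv i a = 1 := by
  refine mat_ext ?_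
  rw [mat_mul, mat_tv hi, Matrix.diagonal_mul_diagonal, mat_one, ← Matrix.diagonal_one]
  congr 1
  funext b
  split_ifs <;> simp

theorem tv_inv (hi : i.1 * i.1 = -1) (a : ι) : (tv i a : Ug F ι)⁻¹ = tv i a :=
  inv_eq_of_mul_eq_one_right (tv_mul_self hi a)

theorem eq_zero_of_two (h2 : (2 : F) ≠ 0) {x : M2} (h : x + x = 0) : x = 0 := by
  rw [← two_smul F] at h
  exact (smul_eq_zero.1 h).resolve_left h2

theorem comm_tv_iff (h2 : (2 : F) ≠ 0) (hi : i.1 * i.1 = -1) (g : Ug F ι) (c : ι) :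
    g * tv i c = tv i c * g ↔ ∀ b, b ≠ c → mat g c b = 0 ∧ mat g b c = 0 := by
  constructor
  · intro h b hb
    have h' := congrArg mat h
    rw [mat_mul, mat_mul, mat_tv hi] at h'
    have h1 := congrFun (congrFun h' c) b
    have h3 := congrFun (congrFun h' b) c
    rw [Matrix.mul_diagonal, Matrix.diagonal_mul, if_neg hb, if_pos rfl, mul_one, neg_one_mul]
      at h1
    rw [Matrix.mul_diagonal, Matrix.diagonal_mul, if_neg hb, if_pos rfl, one_mul, mul_neg_one]
      at h3
    exact ⟨eq_zero_of_two h2 (by nth_rewrite 1 [h1]; exact neg_add_cancel _),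
      eq_zero_of_two h2 (by nth_rewrite 1 [← h3]; exact neg_add_cancel _)⟩
  · intro h
    refine mat_ext ?_
    rw [mat_mul, mat_mul, mat_tv hi]
    refine Matrix.ext fun a b => ?_
    rw [Matrix.mul_diagonal, Matrix.diagonal_mul]
    by_cases ha : a = c <;> by_cases hb : b = c
    · simp [ha, hb]
    · simp [ha, (h b hb).1]
    · simp [hb, (h a ha).2]
    · simp [ha, hb]

theorem conj_tv_apply (hi : i.1 * i.1 = -1) (g : Ug F ι) (a b b' : ι) :
    mat (g * tv i a * g⁻¹) b b' =
      (if b = b' then 1 else 0) - (2 : F) • (col g a b * (col g a b').adjugate) := by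
  rw [conj_tv, mat_emb, embM, Matrix.add_apply, rk_apply, Matrix.one_apply,
    Matrix.SpecialLinearGroup.coe_mul, hi, sub_eq_add_neg, mul_assoc]
  congr 1
  rw [show (-1 + -1 : M2) = -((2 : F) • (1 : M2)) by rw [two_smul]; abel, neg_mul, Matrix.smul_mul,
    one_mul, mul_neg, Matrix.mul_smul, sub_eq_add_neg]

theorem comm_conj_tv_of_zero (h2 : (2 : F) ≠ 0) (hi : i.1 * i.1 = -1) (g : Ug F ι) {a c : ι}
    (h : col g a c = 0) : g * tv i a * g⁻¹ * tv i c = tv i c * (g * tv i a * g⁻¹) := by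
  rw [comm_tv_iff h2 hi]
  intro b hb
  rw [conj_tv_apply hi, conj_tv_apply hi, if_neg (Ne.symm hb), if_neg hb, h]
  simp

theorem eq_tv_of_single (hi : i.1 * i.1 = -1) (g : Ug F ι) {a b : ι}
    (h : ∀ c, c ≠ b → col g a c = 0) : g * tv i a * g⁻¹ = tv i b := by
  refine mat_ext (Matrix.ext fun x y => ?_)
  rw [conj_tv_apply hi, mat_tv hi]
  by_cases hx : x = b
  · by_cases hy : y = b
    · rw [hx, hy]
      have hd : (col g a b).det = 1 := IsSingle.det_eq_one h (ip_col' g a)
      rw [Matrix.diagonal_apply_eq, mul_adj, hd, one_smul, if_pos rfl, if_pos rfl, two_smul]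
      abel
    · subst hx
      rw [Matrix.diagonal_apply_ne _ (Ne.symm hy), h y hy, if_neg (Ne.symm hy)]
      simp
  · rw [h x hx]
    by_cases hxy : x = y
    · subst hxy; rw [Matrix.diagonal_apply_eq, if_neg hx]; simp
    · rw [Matrix.diagonal_apply_ne _ hxy, if_neg hxy]; simp

theorem tv_ne_one (h2 : (2 : F) ≠ 0) (hi : i.1 * i.1 = -1) (a : ι) : (tv i a : Ug F ι) ≠ 1 := by
  intro h
  have h' := congrFun (congrFun (congrArg mat h) a) a
  rw [mat_tv hi, Matrix.diagonal_apply_eq, if_pos rfl, mat_one, Matrix.one_apply_eq] at h'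
  have := congrFun (congrFun h' 0) 0
  simp at this
  exact h2 (by linear_combination -this)

end Involution

/-! ### Frames of several orthonormal vectors -/

variable {κ : Type w} [Fintype κ] [DecidableEq κ]

/-- Orthonormal vectors as columns. -/
def IsFrame (M : Matrix ι κ M2) : Prop := cs M * M = 1

variable {M : Matrix ι κ (Matrix (Fin 2) (Fin 2) F)}

/-- The projection to the orthogonal complement of the frame. -/
def perp (M : Matrix ι κ M2) : Matrix ι ι M2 := 1 - M * cs M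

theorem perp_mul_frame (hM : IsFrame M) : perp M * M = 0 := by
  rw [perp, Matrix.sub_mul, Matrix.one_mul, Matrix.mul_assoc, hM, Matrix.mul_one, sub_self]

theorem frame_mul_perp (hM : IsFrame M) : cs M * perp M = 0 := by
  rw [perp, Matrix.mul_sub, Matrix.mul_one, ← Matrix.mul_assoc, hM, Matrix.one_mul, sub_self]

theorem cs_perp (M : Matrix ι κ M2) : cs (perp M) = perp M := by
  rw [perp, cs_sub, cs_one, cs_mul, cs_cs]

theorem perp_mulVec_frame (hM : IsFrame M) (w : κ → M2) : perp M *ᵥ (M *ᵥ w) = 0 := by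
  rw [Matrix.mulVec_mulVec, perp_mul_frame hM, Matrix.zero_mulVec]

theorem eq_frame_of_perp {χ : ι → M2} (h : perp M *ᵥ χ = 0) : χ = M *ᵥ (cs M *ᵥ χ) := by
  rw [perp, Matrix.sub_mulVec, Matrix.one_mulVec, sub_eq_zero] at h
  rwa [Matrix.mulVec_mulVec]

theorem ip_frame (hM : IsFrame M) (v w : κ → M2) : ip (M *ᵥ v) (M *ᵥ w) = ip v w := by
  rw [ip_mulVec, Matrix.mulVec_mulVec, hM, Matrix.one_mulVec]

/-- Elements of `K` fixing the orthogonal complement of the frame. -/
def fixGrp (K : Subgroup (Ug F ι)) (M : Matrix ι κ M2) : Subgroup (Ug F ι) where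
  carrier := {g | g ∈ K ∧ mat g * perp M = perp M}
  one_mem' := ⟨K.one_mem, by rw [mat_one, Matrix.one_mul]⟩
  mul_mem' {g h} hg hh := ⟨K.mul_mem hg.1 hh.1, by rw [mat_mul, Matrix.mul_assoc, hh.2, hg.2]⟩
  inv_mem' {g} hg := ⟨K.inv_mem hg.1, by
    conv_lhs => rw [← hg.2, ← Matrix.mul_assoc, ← mat_mul, inv_mul_cancel, mat_one, Matrix.one_mul]⟩

theorem perp_mul_mat {K : Subgroup (Ug F ι)} {g : Ug F ι} (hg : g ∈ fixGrp K M) :
    perp M * mat g = perp M := by
  have h := congrArg cs hg.2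
  rw [cs_mul, cs_perp] at h
  conv_lhs => rw [← h, Matrix.mul_assoc, cs_mat_mul, Matrix.mul_one]

theorem emb_mem_fixGrp {K : Subgroup (Ug F ι)} {χ : ι → M2} {hχ : ip χ χ = 1} {x : SL2}
    (h : perp M *ᵥ χ = 0) (hK : emb χ hχ x ∈ K) : emb χ hχ x ∈ fixGrp K M := by
  refine ⟨hK, ?_⟩
  have h0 : rk (fun b => χ b * (x.1 - 1)) χ * perp M = 0 := by
    rw [← cs_perp M, rk_mul_cs, h]
    refine Matrix.ext fun a b => ?_
    simp [rk_apply]
  rw [mat_emb, embM, Matrix.add_mul, Matrix.one_mul, h0, add_zero]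

theorem mulVec_mem_span (hM : IsFrame M) {K : Subgroup (Ug F ι)} {g : Ug F ι}
    (hg : g ∈ fixGrp K M) {χ : ι → M2} (h : perp M *ᵥ χ = 0) :
    perp M *ᵥ (mat g *ᵥ χ) = 0 := by
  rw [Matrix.mulVec_mulVec, perp_mul_mat hg, h]

variable (K : Subgroup (Ug F ι))

/-- The restriction to the span of the frame. -/
def toFrame (hM : IsFrame M) : ↥(fixGrp K M) →* Ug F κ :=
  lift
    { toFun := fun g => cs M * mat g.1 * M
      map_one' := by
        show cs M * mat (1 : Ug F ι) * M = 1
        rw [mat_one, Matrix.mul_one, hM]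
      map_mul' := fun g h => by
        have hh : M * cs M = 1 - perp M := by rw [perp, sub_sub_cancel]
        show cs M * mat (g.1 * h.1) * M = cs M * mat g.1 * M * (cs M * mat h.1 * M)
        have : cs M * mat g.1 * M * (cs M * mat h.1 * M) =
            cs M * mat g.1 * (M * cs M) * (mat h.1 * M) := by simp only [Matrix.mul_assoc]
        rw [this, hh, Matrix.mul_sub, Matrix.mul_one, Matrix.mul_assoc (cs M) _ (perp M), g.2.2,
          frame_mul_perp hM, sub_zero, mat_mul]
        simp only [Matrix.mul_assoc] }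
    fun g => by
      show cs (cs M * mat g.1 * M) = cs M * mat (g.1⁻¹) * M
      rw [cs_mul, cs_mul, cs_cs, mat_inv, Matrix.mul_assoc]

theorem mat_toFrame (hM : IsFrame M) (g : ↥(fixGrp K M)) :
    mat (toFrame K hM g) = cs M * mat g.1 * M := rfl

theorem toFrame_apply_single (hM : IsFrame M) (g : ↥(fixGrp K M)) (w : κ → M2) :
    mat (toFrame K hM g) *ᵥ w = cs M *ᵥ (mat g.1 *ᵥ (M *ᵥ w)) := by
  simp only [mat_toFrame, Matrix.mulVec_mulVec, Matrix.mul_assoc]

theorem toFrame_emb (hM : IsFrame M) {w : κ → M2} (hw : ip w w = 1) {x : SL2}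
    (h : emb (M *ᵥ w) (by rw [ip_frame hM, hw]) x ∈ fixGrp K M) :
    toFrame K hM ⟨_, h⟩ = emb w hw x := by
  refine mat_ext ?_
  rw [mat_toFrame, mat_emb, mat_emb, embM, Matrix.mul_add, Matrix.add_mul, Matrix.mul_one, hM,
    embM]
  congr 1
  have e1 : (fun b => (M *ᵥ w) b * (x.1 - 1)) = M *ᵥ fun b => w b * (x.1 - 1) := by
    funext b
    simp only [Matrix.mulVec, dotProduct, Finset.sum_mul, mul_assoc]
  have e2 : ∀ χ : κ → M2, cs M *ᵥ (M *ᵥ χ) = χ := fun χ => by
    rw [Matrix.mulVec_mulVec, hM, Matrix.one_mulVec]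
  rw [e1, mul_rk, e2]
  have h' := rk_mul_cs (fun b => w b * (x.1 - 1)) (M *ᵥ w) (cs M)
  rw [cs_cs, e2] at h'
  exact h'

end Cfsg.Agent.Classical.SpPro
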