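import Cfsg.Agent.Lib.Classical.Pronormal.Basic

/-!
Pronormality of the overgroups of a Sylow subgroup of a direct product, from a criterion on the
factors.
-/

set_option autoImplicit false
set_option linter.unusedSectionVars false

open scoped Pointwise

namespace Cfsg.Agent.Classical.SpPro

open Cfsg.Agent.Perm.Pronormal

universe u v

variable {α : Type v} [Fintype α] [DecidableEq α] {X : α → Type u} [∀ a, Group (X a)]
  [∀ a, Finite (X a)]

/-- The product of the Sylow subgroups of the factors is a Sylow subgroup. -/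
theorem exists_sylow_pi (p : ℕ) [Fact p.Prime] (S : ∀ a, Sylow p (X a)) :
    ∃ T : Sylow p (∀ a, X a),
      (T : Subgroup (∀ a, X a)) = Subgroup.pi Set.univ (fun a => (S a : Subgroup (X a))) := by
  set P := Subgroup.pi Set.univ (fun a => (S a : Subgroup (X a)))
  have hP : IsPGroup p P := by
    intro x
    choose k hk using fun a => (S a).2 ⟨x.1 a, x.2 a (Set.mem_univ a)⟩
    refine ⟨∑ a, k a, Subtype.ext (funext fun a => ?_)⟩
    show x.1 a ^ p ^ (∑ b, k b) = 1
    have h1 : x.1 a ^ p ^ k a = 1 := congrArg Subtype.val (hk a)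
    rw [← Finset.add_sum_erase Finset.univ k (Finset.mem_univ a), pow_add, pow_mul, h1, one_pow]
  obtain ⟨T, hT⟩ := hP.exists_le_sylow
  refine ⟨T, le_antisymm (fun x hx a _ => ?_) hT⟩
  have hle : (S a : Subgroup (X a)) ≤ (T : Subgroup (∀ a, X a)).map (Pi.evalMonoidHom X a) :=
    fun s hs => ⟨Pi.mulSingle a s, hT fun b _ => by
      by_cases hb : b = a
      · subst hb; simpa using hs
      · simp [Pi.mulSingle_eq_of_ne hb], by simp⟩
  show x a ∈ (S a : Subgroup (X a))
  rw [← (S a).3 (T.2.map _) hle]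
  exact ⟨x, hx, rfl⟩

/-- A criterion for an overgroup of the product Sylow subgroup to be pronormal. -/
theorem pi_pronormal (p : ℕ) [Fact p.Prime] (S : ∀ a, Sylow p (X a))
    (hab : ∀ a, ∀ g ∈ Subgroup.normalizer ((S a : Subgroup (X a)) : Set (X a)),
      ∀ g' ∈ Subgroup.normalizer ((S a : Subgroup (X a)) : Set (X a)),
        g * g' * g⁻¹ * g'⁻¹ ∈ (S a : Subgroup (X a)))
    (hL : ∀ a (R : Subgroup (X a)), (S a : Subgroup (X a)) ≤ R →
      ∀ g ∈ Subgroup.normalizer ((S a : Subgroup (X a)) : Set (X a)),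
        g ∈ Subgroup.normalizer (R : Set (X a)) ∨ g ∈ R ⊔ cj g R)
    {T : Sylow p (∀ a, X a)}
    (hTS : (T : Subgroup (∀ a, X a)) = Subgroup.pi Set.univ (fun a => (S a : Subgroup (X a))))
    {K : Subgroup (∀ a, X a)} (hTK : (T : Subgroup (∀ a, X a)) ≤ K) : Cfsg.IsPronormal K := by
  classical
  rw [isPronormal_iff]
  intro g
  set T₀ : Subgroup (∀ a, X a) := (T : Subgroup (∀ a, X a)) with hT₀
  obtain ⟨k, hk, hke⟩ := sylow_conj_in (p := p) T₀ (A := ⊤) (K := K ⊔ cj g K)
    (hTK.trans le_sup_left) le_top T.2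
    (by rw [Subgroup.relIndex_top_right]; exact T.not_dvd_index)
    (g := g) ((cj_le hTK).trans le_sup_right)
  set g' := k⁻¹ * g with hg'
  have hgN : g' ∈ Subgroup.normalizer (T₀ : Set (∀ a, X a)) :=
    cj_eq_self_iff.1 (by rw [hg', ← cj_cj, hke, cj_cj, inv_mul_cancel, cj_one])
  suffices h : ∃ x ∈ K ⊔ cj g' K, cj g' K = cj x K by
    obtain ⟨x, hx, he⟩ := h
    refine ⟨k * x, mul_mem hk (sup_le (a := K) (b := cj g' K) le_sup_left ?_ hx), ?_⟩
    · rw [hg', ← cj_cj]
      exact cj_le_of_mem (inv_mem hk) le_sup_right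
    · rw [← cj_cj k x K, ← he, cj_cj, hg', mul_inv_cancel_left]
  clear_value g'
  clear hg' hke hk
  -- the subgroup generated by the conjugates of the Sylow subgroup
  set R : Subgroup (∀ a, X a) :=
    Subgroup.closure {y | ∃ c ∈ K, ∃ s ∈ T₀, y = c * s * c⁻¹} with hR
  have hRK : R ≤ K := (Subgroup.closure_le _).2 (by
    rintro _ ⟨c, hc, s, hs, rfl⟩
    exact K.mul_mem (K.mul_mem hc (hTK hs)) (K.inv_mem hc))
  have hTR : T₀ ≤ R := fun s hs => Subgroup.subset_closure ⟨1, K.one_mem, s, hs, by simp⟩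
  let Rc : ∀ a, Subgroup (X a) := fun a => R.comap (MonoidHom.mulSingle X a)
  have hsingle : ∀ a, ∀ s ∈ (S a : Subgroup (X a)), Pi.mulSingle a s ∈ T₀ := by
    intro a s hs
    rw [hTS]
    intro b _
    by_cases hb : b = a
    · subst hb; simpa using hs
    · simp [Pi.mulSingle_eq_of_ne hb]
  have hSR : ∀ a, (S a : Subgroup (X a)) ≤ Rc a := fun a s hs => hTR (hsingle a s hs)
  have hcomp : ∀ r ∈ R, ∀ a, r a ∈ Rc a := by
    intro r hr a
    induction hr using Subgroup.closure_induction with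
    | mem y hy =>
      obtain ⟨c, hc, s, hs, rfl⟩ := hy
      have hsa : s a ∈ (S a : Subgroup (X a)) := by
        rw [hTS] at hs; exact hs a (Set.mem_univ a)
      refine Subgroup.subset_closure ⟨c, hc, Pi.mulSingle a (s a), hsingle a _ hsa, ?_⟩
      funext b
      by_cases hb : b = a
      · subst hb; simp
      · simp [Pi.mulSingle_eq_of_ne hb]
    | one => exact one_mem _
    | mul y z _ _ hy hz => exact (Rc a).mul_mem hy hz
    | inv y _ hy => exact (Rc a).inv_mem hy
  have hRmem : ∀ r : ∀ a, X a, (∀ a, r a ∈ Rc a) → r ∈ R := fun r hr =>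
    Subgroup.pi_mem_of_mulSingle_mem r hr
  have hgS : ∀ a, g' a ∈ Subgroup.normalizer ((S a : Subgroup (X a)) : Set (X a)) := by
    intro a
    refine Subgroup.mem_normalizer_fintype fun s hs => ?_
    have h := (Subgroup.mem_normalizer_iff.1 hgN _).1 (hsingle a s hs)
    rw [hTS] at h
    have h1 : (g' * Pi.mulSingle a s * g'⁻¹) a ∈ (S a : Subgroup (X a)) := h a (Set.mem_univ a)
    simp only [Pi.mul_apply, Pi.inv_apply, Pi.mulSingle_eq_same] at h1
    exact h1
  set x : ∀ a, X a :=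
    fun a => if g' a ∈ Subgroup.normalizer (Rc a : Set (X a)) then 1 else g' a with hx
  have hxJ : x ∈ K ⊔ cj g' K := Subgroup.pi_mem_of_mulSingle_mem x fun a => by
    rw [hx]
    dsimp only
    split_ifs with hN
    · rw [Pi.mulSingle_one]; exact one_mem _
    · have hsub : (Rc a ⊔ cj (g' a) (Rc a)).map (MonoidHom.mulSingle X a) ≤ K ⊔ cj g' K := by
        rw [Subgroup.map_sup]
        refine sup_le (le_trans ?_ (le_sup_left (b := cj g' K)))
          (le_trans ?_ (le_sup_right (a := K)))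
        · rintro _ ⟨r, hr, rfl⟩; exact hRK hr
        · rintro _ ⟨_, ⟨r, hr, rfl⟩, rfl⟩
          refine ⟨Pi.mulSingle a r, hRK hr, ?_⟩
          funext b
          by_cases hb : b = a
          · subst hb; simp
          · simp [Pi.mulSingle_eq_of_ne hb]
      exact hsub (Subgroup.mem_map_of_mem _ ((hL a (Rc a) (hSR a) _ (hgS a)).resolve_left hN))
  refine ⟨x, hxJ, ?_⟩
  set y := x⁻¹ * g' with hy
  have hyc : ∀ a, y a ∈ Subgroup.normalizer ((S a : Subgroup (X a)) : Set (X a)) ∧
      y a ∈ Subgroup.normalizer (Rc a : Set (X a)) := by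
    intro a
    show (x a)⁻¹ * g' a ∈ _ ∧ (x a)⁻¹ * g' a ∈ _
    rw [hx]
    dsimp only
    split_ifs with hN
    · rw [inv_one, one_mul]; exact ⟨hgS a, hN⟩
    · rw [inv_mul_cancel]; exact ⟨one_mem _, one_mem _⟩
  have hyK : y ∈ Subgroup.normalizer (K : Set (∀ a, X a)) := by
    refine Subgroup.mem_normalizer_fintype fun c hc => ?_
    obtain ⟨r, hr, hre⟩ := sylow_conj_in (p := p) T₀ (A := ⊤) (K := R) hTR le_top T.2
      (by rw [Subgroup.relIndex_top_right]; exact T.not_dvd_index)
      (g := c) (by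
        rintro _ ⟨s, hs, rfl⟩
        exact Subgroup.subset_closure ⟨c, hc, s, hs, rfl⟩)
    set n := r⁻¹ * c with hn
    have hnN : n ∈ Subgroup.normalizer (T₀ : Set (∀ a, X a)) :=
      cj_eq_self_iff.1 (by rw [hn, ← cj_cj, hre, cj_cj, inv_mul_cancel, cj_one])
    have hnK : n ∈ K := K.mul_mem (K.inv_mem (hRK hr)) hc
    have h1 : y * r * y⁻¹ ∈ K := hRK (hRmem _ fun a =>
      (Subgroup.mem_normalizer_iff.1 (hyc a).2 (r a)).1 (hcomp r hr a))
    have h2 : y * n * y⁻¹ * n⁻¹ ∈ T₀ := by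
      rw [hTS]
      intro a _
      refine hab a _ (hyc a).1 _ ?_
      refine Subgroup.mem_normalizer_fintype fun s hs => ?_
      have h := (Subgroup.mem_normalizer_iff.1 hnN _).1 (hsingle a s hs)
      rw [hTS] at h
      have h1 : (n * Pi.mulSingle a s * n⁻¹) a ∈ (S a : Subgroup (X a)) := h a (Set.mem_univ a)
      simp only [Pi.mul_apply, Pi.inv_apply, Pi.mulSingle_eq_same] at h1
      exact h1
    have h3 : y * n * y⁻¹ ∈ K := by
      have := K.mul_mem (hTK h2) hnK
      simpa [mul_assoc] using this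
    have := K.mul_mem h1 h3
    rw [show y * c * y⁻¹ = y * r * y⁻¹ * (y * n * y⁻¹) by rw [hn]; group]
    exact this
  calc cj g' K = cj x (cj y K) := by rw [cj_cj, hy, mul_inv_cancel_left]
    _ = cj x K := by rw [cj_eq_self_iff.2 hyK]

end Cfsg.Agent.Classical.SpPro
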