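import Cfsg.Agent.Lib.Classical.Pronormal.SpUnitary

/-!
Monomial elements and the Sylow 2-subgroup `Q wr W` of the symplectic group.
-/

set_option autoImplicit false
set_option linter.unusedSectionVars false

open scoped Matrix

namespace Cfsg.Agent.Classical.SpPro

universe u v

variable {F : Type u} [Field F] {ι : Type v} [Fintype ι] [DecidableEq ι]

local notation "M2" => Matrix (Fin 2) (Fin 2) F
local notation "SL2" => Matrix.SpecialLinearGroup (Fin 2) F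

/-- A quaternion pair. -/
structure IsQuat (i j : SL2) : Prop where
  two : (2 : F) ≠ 0
  sqi : i.1 * i.1 = -1
  sqj : j.1 * j.1 = -1
  anti : i.1 * j.1 = -(j.1 * i.1)

namespace IsQuat

variable {i j : Matrix.SpecialLinearGroup (Fin 2) F}

theorem adj_eq {x : SL2} (h : x.1 * x.1 = -1) : x.1.adjugate = -x.1 := by
  have h1 : x.1 * (-x.1) = 1 := by rw [mul_neg, h, neg_neg]
  calc x.1.adjugate = x.1.adjugate * (x.1 * -x.1) := by rw [h1, mul_one]
    _ = -x.1 := by rw [← mul_assoc, sl_adj_mul, one_mul]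

theorem det_sub_one {x : SL2} (h : x.1 * x.1 = -1) : (x.1 - 1).det = 2 := by
  have h1 : (x.1 - 1) * (x.1 - 1).adjugate = (2 : F) • (1 : M2) := by
    rw [adj_sub, adj_eq h, Matrix.adjugate_one]
    rw [show (x.1 - 1) * (-x.1 - 1) = -(x.1 * x.1) + 1 by noncomm_ring, h, neg_neg,
      two_smul]
  rw [mul_adj] at h1
  simpa using congrFun (congrFun h1 0) 0

end IsQuat

/-- A vector supported at one coordinate. -/
def IsSingle (φ : ι → M2) : Prop := ∃ b, ∀ c, c ≠ b → φ c = 0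

theorem IsSingle.det_eq_one {φ : ι → M2} {b : ι} (h : ∀ c, c ≠ b → φ c = 0) (hφ : ip φ φ = 1) :
    (φ b).det = 1 := by
  have := sum_det_of_ip hφ
  rwa [Finset.sum_eq_single b (fun c _ hc => by rw [h c hc]; simp) (by simp)] at this

/-- Monomial elements with prescribed permutations and components. -/
def monG (P : Subgroup (Equiv.Perm ι)) (N : Subgroup SL2) : Subgroup (Ug F ι) where
  carrier := {g | ∃ σ ∈ P, ∃ v : ι → SL2, (∀ a, v a ∈ N) ∧ g = pm F ι σ * dg F ι v}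
  one_mem' := ⟨1, P.one_mem, 1, fun _ => N.one_mem, by simp⟩
  mul_mem' := by
    rintro _ _ ⟨σ, hσ, v, hv, rfl⟩ ⟨τ, hτ, w, hw, rfl⟩
    refine ⟨σ * τ, P.mul_mem hσ hτ, (v ∘ τ) * w, fun a => N.mul_mem (hv _) (hw a), ?_⟩
    have h := pm_dg (F := F) τ (v ∘ τ)
    rw [show ((v ∘ ⇑τ) ∘ ⇑τ.symm) = v by funext a; simp [Equiv.Perm.inv_def]] at h
    rw [map_mul, map_mul, mul_assoc, ← mul_assoc (dg F ι v), ← h]
    simp only [mul_assoc]
  inv_mem' := by
    rintro _ ⟨σ, hσ, v, hv, rfl⟩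
    refine ⟨σ⁻¹, P.inv_mem hσ, v⁻¹ ∘ σ.symm, fun a => N.inv_mem (hv _), ?_⟩
    have h := pm_dg (F := F) σ⁻¹ (v⁻¹ ∘ ⇑σ.symm)
    rw [show ((v⁻¹ ∘ ⇑σ.symm) ∘ ⇑(σ⁻¹ : Equiv.Perm ι).symm) = v⁻¹ by funext a; simp [Equiv.Perm.inv_def]] at h
    rw [mul_inv_rev, ← map_inv, ← map_inv, h]

theorem mem_monG {P : Subgroup (Equiv.Perm ι)} {N : Subgroup SL2} {g : Ug F ι} :
    g ∈ monG P N ↔ ∃ σ ∈ P, ∃ v : ι → SL2, (∀ a, v a ∈ N) ∧ g = pm F ι σ * dg F ι v := Iff.rfl

theorem monG_mono {P P' : Subgroup (Equiv.Perm ι)} {N N' : Subgroup SL2} (hP : P ≤ P')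
    (hN : N ≤ N') : (monG P N : Subgroup (Ug F ι)) ≤ monG P' N' :=
  fun _ ⟨σ, hσ, v, hv, he⟩ => ⟨σ, hP hσ, v, fun a => hN (hv a), he⟩

theorem sl_ne_zero (x : SL2) : x.1 ≠ 0 := fun h => by
  have := x.2
  rw [h] at this
  simp at this

theorem mon_unique {σ τ : Equiv.Perm ι} {v w : ι → SL2}
    (h : pm F ι σ * dg F ι v = pm F ι τ * dg F ι w) : σ = τ ∧ v = w := by
  have key : σ = τ := by
    refine Equiv.ext fun b => ?_
    by_contra hne
    have h1 := congrFun (congrFun (congrArg mat h) (σ b)) b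
    rw [pm_dg_apply, pm_dg_apply, if_pos rfl, if_neg (Ne.symm hne)] at h1
    exact sl_ne_zero _ h1
  subst key
  exact ⟨rfl, dg_injective (mul_left_cancel h)⟩

theorem dg_mem_monG {P : Subgroup (Equiv.Perm ι)} {N : Subgroup SL2} {v : ι → SL2} :
    dg F ι v ∈ monG P N ↔ ∀ a, v a ∈ N := by
  refine ⟨?_, fun h => ⟨1, P.one_mem, v, h, by simp⟩⟩
  rintro ⟨σ, -, w, hw, he⟩
  have := mon_unique (σ := 1) (v := v) (τ := σ) (w := w) (by rw [map_one, one_mul]; exact he)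
  rw [this.2]
  exact hw

theorem pm_mem_monG {P : Subgroup (Equiv.Perm ι)} {N : Subgroup SL2} {σ : Equiv.Perm ι}
    (h : σ ∈ P) : pm F ι σ ∈ monG P N :=
  ⟨σ, h, 1, fun _ => N.one_mem, by simp⟩

/-- An element all whose columns are supported at one coordinate is monomial. -/
theorem mem_monG_of_single {g : Ug F ι} (h : ∀ a, IsSingle (mat g *ᵥ e a)) :
    g ∈ monG (⊤ : Subgroup (Equiv.Perm ι)) (⊤ : Subgroup SL2) := by
  choose f hf using h
  have hd : ∀ a, (mat g (f a) a).det = 1 := fun a => by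
    rw [← mulVec_e (mat g) a (f a)]
    exact IsSingle.det_eq_one (hf a) (ip_col g a)
  have hinj : Function.Injective f := by
    intro a b hab
    by_contra hne
    have h0 : ip (mat g *ᵥ e a) (mat g *ᵥ e b) = 0 := by
      rw [ip_act, ip_e_left, e, Pi.single_eq_of_ne hne]
    rw [ip, Finset.sum_eq_single (f a)
      (fun c _ hc => by rw [hf a c hc, adj_zero, zero_mul]) (by simp), mulVec_e, mulVec_e] at h0
    have := congrArg Matrix.det h0
    rw [Matrix.det_mul, Matrix.det_adjugate, hd a, hab, hd b] at this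
    simp at this
  refine ⟨Equiv.ofBijective f (Finite.injective_iff_bijective.1 hinj), Subgroup.mem_top _,
    fun a => ⟨mat g (f a) a, hd a⟩, fun _ => Subgroup.mem_top _, mat_ext ?_⟩
  refine Matrix.ext fun c a => ?_
  by_cases hc : f a = c
  · refine Eq.trans ?_ (pm_dg_apply _ _ _ _).symm
    rw [if_pos (by simpa using hc), ← hc]
  · refine Eq.trans ?_ (pm_dg_apply _ _ _ _).symm
    rw [if_neg (by simpa using hc), ← mulVec_e (mat g) a c, hf a c (Ne.symm hc)]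

theorem monG_apply {g : Ug F ι}
    (hg : g ∈ monG (⊤ : Subgroup (Equiv.Perm ι)) (⊤ : Subgroup SL2)) {b c c' : ι}
    (hc : mat g b c ≠ 0) (hc' : mat g b c' ≠ 0) : c = c' := by
  obtain ⟨σ, -, v, -, rfl⟩ := hg
  rw [pm_dg_apply] at hc hc'
  by_contra hne
  by_cases h : σ c = b
  · exact hc' (if_neg fun h' => hne (σ.injective (h.trans h'.symm)))
  · exact hc (if_neg h)

theorem mulVec_e_single {g : Ug F ι}
    (hg : g ∈ monG (⊤ : Subgroup (Equiv.Perm ι)) (⊤ : Subgroup SL2)) (a : ι) :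
    IsSingle (mat g *ᵥ e a) := by
  obtain ⟨σ, -, v, -, rfl⟩ := hg
  exact ⟨σ a, fun c hc => by rw [mulVec_e, pm_dg_apply, if_neg (Ne.symm hc)]⟩

theorem single_mulVec {g : Ug F ι}
    (hg : g ∈ monG (⊤ : Subgroup (Equiv.Perm ι)) (⊤ : Subgroup SL2)) {φ : ι → M2}
    (hφ : IsSingle φ) : IsSingle (mat g *ᵥ φ) := by
  obtain ⟨b, hb⟩ := hφ
  obtain ⟨d, hd⟩ := mulVec_e_single hg b
  refine ⟨d, fun c hc => ?_⟩
  have : mat g c b = 0 := by rw [← mulVec_e (mat g) b c]; exact hd c hc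
  show ∑ x, mat g c x * φ x = 0
  exact Finset.sum_eq_zero fun x _ => by
    by_cases hx : x = b
    · rw [hx, this, zero_mul]
    · rw [hb x hx, mul_zero]

/-- A plane whose quaternion group acts monomially is a coordinate plane. -/
theorem single_of_emb_mon {x : SL2} (h2 : (2 : F) ≠ 0) (hx : x.1 * x.1 = -1) {φ : ι → M2}
    (hφ : ip φ φ = 1)
    (hm : emb φ hφ x ∈ monG (⊤ : Subgroup (Equiv.Perm ι)) (⊤ : Subgroup SL2)) :
    IsSingle φ := by
  have hs := sum_det_of_ip hφ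
  obtain ⟨b, hb⟩ : ∃ b, (φ b).det ≠ 0 := by
    by_contra h
    push Not at h
    simp [h] at hs
  refine ⟨b, fun c hc => ?_⟩
  by_contra hne
  have hoff : mat (emb φ hφ x) b c ≠ 0 := by
    rw [mat_emb, embM, Matrix.add_apply, Matrix.one_apply_ne (Ne.symm hc), zero_add, rk_apply]
    intro h0
    refine hne ?_
    have hdet : (φ b * (x.1 - 1)).det ≠ 0 := by
      rw [Matrix.det_mul, IsQuat.det_sub_one hx]; exact mul_ne_zero hb h2
    have := congrArg (fun y => (φ b * (x.1 - 1)).adjugate * y) h0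
    simp only [mul_zero] at this
    rw [← mul_assoc, adj_mul_self, Matrix.smul_mul, one_mul, smul_eq_zero] at this
    rw [← adj_adj (φ c), this.resolve_left hdet, adj_zero]
  have hon : mat (emb φ hφ x) b b ≠ 0 := by
    rw [mat_emb, embM, Matrix.add_apply, Matrix.one_apply_eq, rk_apply]
    intro h0
    have h1 := congrArg Matrix.adjugate h0
    rw [adj_add, adj_mul, adj_adj, adj_mul, adj_sub, Matrix.adjugate_one, IsQuat.adj_eq hx,
      adj_zero] at h1
    have h3 : (1 + 1 : M2) - (φ b * (φ b).adjugate + φ b * (φ b).adjugate) = 0 := by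
      calc _ = (1 + φ b * (x.1 - 1) * (φ b).adjugate) +
            (1 + φ b * ((-x.1 - 1) * (φ b).adjugate)) := by noncomm_ring
        _ = 0 := by rw [h0, h1, add_zero]
    rw [mul_adj] at h3
    have hd : (φ b).det = 1 := by
      have := congrFun (congrFun h3 0) 0
      simp [Matrix.sub_apply, Matrix.add_apply] at this
      exact mul_left_cancel₀ h2 (by linear_combination -this)
    have hm' := congrArg Matrix.det (eq_neg_of_add_eq_zero_right h0)
    rw [Matrix.det_mul, Matrix.det_mul, Matrix.det_adjugate, hd, IsQuat.det_sub_one hx,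
      Matrix.det_neg] at hm'
    simp at hm'
    exact one_ne_zero (by linear_combination hm' : (1 : F) = 0)
  exact hc (monG_apply hm hon hoff).symm

/-- The diagonal vector with one nontrivial entry. -/
def one1 (a : ι) (x : SL2) : ι → SL2 := Pi.mulSingle a x

theorem dg_one1 (a : ι) (x : SL2) : dg F ι (one1 a x) = emb (e a) (ip_e a) x := by
  refine mat_ext (Matrix.ext fun b c => ?_)
  rw [mat_dg, mat_emb, embM, Matrix.add_apply, rk_apply]
  by_cases hb : b = a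
  · subst hb
    by_cases hc : c = b
    · subst hc
      simp [one1, e, Matrix.adjugate_one]
    · simp [one1, e, Ne.symm hc, Pi.single_eq_of_ne hc, adj_zero]
  · by_cases hc : c = b
    · subst hc
      simp [one1, e, Pi.single_eq_of_ne hb, Pi.mulSingle_eq_of_ne hb]
    · simp [one1, e, Ne.symm hc, Pi.single_eq_of_ne hb]

theorem conj_dg_one1 (σ : Equiv.Perm ι) (v : ι → SL2) (a : ι) (x : SL2) :
    (pm F ι σ * dg F ι v) * dg F ι (one1 a x) * (pm F ι σ * dg F ι v)⁻¹ =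
      dg F ι (one1 (σ a) (v a * x * (v a)⁻¹)) := by
  rw [mul_inv_rev, ← mul_assoc, mul_assoc (pm F ι σ), mul_assoc (pm F ι σ), ← map_inv, ← map_mul,
    ← map_mul, pm_dg, mul_inv_cancel_right]
  congr 1
  funext b
  by_cases hb : b = σ a
  · subst hb
    simp [one1]
  · have : σ.symm b ≠ a := fun h => hb (by simp [← h])
    simp [one1, Pi.mulSingle_eq_of_ne hb, Pi.mulSingle_eq_of_ne this]

/-- A group element whose conjugates of the coordinate quaternion groups are monomial, is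
monomial. -/
theorem mem_monG_of_conj {x : SL2} (h2 : (2 : F) ≠ 0) (hx : x.1 * x.1 = -1) {g : Ug F ι}
    (h : ∀ a, g * dg F ι (one1 a x) * g⁻¹ ∈
      monG (⊤ : Subgroup (Equiv.Perm ι)) (⊤ : Subgroup SL2)) :
    g ∈ monG (⊤ : Subgroup (Equiv.Perm ι)) (⊤ : Subgroup SL2) := by
  refine mem_monG_of_single fun a => ?_
  have h1 := h a
  rw [dg_one1, conj_emb] at h1
  exact single_of_emb_mon h2 hx _ h1

/-- The normaliser of `Q`. -/
abbrev nrm (Q : Sylow 2 SL2) : Subgroup SL2 :=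
  Subgroup.normalizer ((Q : Subgroup SL2) : Set SL2)

section Finite

variable [Fintype F] {Q : Sylow 2 (Matrix.SpecialLinearGroup (Fin 2) F)}

theorem mem_sylow_of_normalizer {x : SL2}
    (hx : x ∈ Subgroup.normalizer ((Q : Subgroup SL2) : Set SL2)) {k : ℕ}
    (hk : x ^ (2 ^ k) = 1) : x ∈ Q := by
  haveI : Fact (Nat.Prime 2) := ⟨Nat.prime_two⟩
  obtain ⟨l, -, hl⟩ := (Nat.dvd_prime_pow Nat.prime_two).1 (orderOf_dvd_of_pow_eq_one hk)
  have hp : IsPGroup 2 (Subgroup.zpowers x) :=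
    IsPGroup.of_card (n := l) (by rw [Nat.card_zpowers, hl])
  have hsup : IsPGroup 2 ↥(Subgroup.zpowers x ⊔ (Q : Subgroup SL2)) :=
    hp.to_sup_of_normal_right' Q.2 (Subgroup.zpowers_le.mpr hx)
  have := Q.3 hsup le_sup_right
  exact this.le (le_sup_left (a := Subgroup.zpowers x) (Subgroup.mem_zpowers x))


theorem comp_mem_normalizer {g : Ug F ι} {T : Subgroup (Ug F ι)} (hT : IsPGroup 2 T)
    (hTB : ∀ v : ι → SL2, (∀ a, v a ∈ (Q : Subgroup SL2)) → dg F ι v ∈ T)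
    {σ : Equiv.Perm ι} {v : ι → SL2} (hg : g = pm F ι σ * dg F ι v)
    (hconj : ∀ a, ∀ x ∈ (Q : Subgroup SL2),
      g * dg F ι (one1 a x) * g⁻¹ ∈ T ⊓ monG (⊤ : Subgroup (Equiv.Perm ι)) (nrm Q)) (a : ι) :
    v a ∈ (nrm Q) := by
  have key : ∀ x ∈ (Q : Subgroup SL2), v a * x * (v a)⁻¹ ∈ (Q : Subgroup SL2) := by
    intro x hx
    have h := hconj a x hx
    rw [hg, conj_dg_one1] at h
    have hN := dg_mem_monG.1 h.2 (σ a)
    rw [one1, Pi.mulSingle_eq_same] at hN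
    obtain ⟨k, hk⟩ := hT ⟨_, h.1⟩
    have hk' := congrArg Subtype.val hk
    simp only [Subgroup.coe_pow, Subgroup.coe_one, ← map_pow] at hk'
    have := congrFun (dg_injective (hk'.trans (map_one _).symm)) (σ a)
    rw [Pi.pow_apply, one1, Pi.mulSingle_eq_same, Pi.one_apply] at this
    exact mem_sylow_of_normalizer hN this
  exact Subgroup.mem_normalizer_fintype key

theorem one1_mem {a : ι} {x : SL2} (hx : x ∈ (Q : Subgroup SL2)) (b : ι) :
    one1 a x b ∈ (Q : Subgroup SL2) := by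
  by_cases h : b = a
  · subst h; simpa [one1] using hx
  · simp [one1, Pi.mulSingle_eq_of_ne h]

variable {i j : Matrix.SpecialLinearGroup (Fin 2) F}

/-- A 2-subgroup containing `Q^n` normalises it. -/
theorem two_group_mon (hq : IsQuat i j) (hi : i ∈ (Q : Subgroup SL2)) {T : Subgroup (Ug F ι)}
    (hT : IsPGroup 2 T)
    (hTB : ∀ v : ι → SL2, (∀ a, v a ∈ (Q : Subgroup SL2)) → dg F ι v ∈ T) :
    T ≤ monG (⊤ : Subgroup (Equiv.Perm ι)) (nrm Q) := by
  haveI : Fact (Nat.Prime 2) := ⟨Nat.prime_two⟩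
  haveI : Group.IsNilpotent T := hT.isNilpotent
  set M := T ⊓ monG (⊤ : Subgroup (Equiv.Perm ι)) (nrm Q) with hM
  by_contra hle
  have hlt : M.subgroupOf T < ⊤ := by
    refine lt_top_iff_ne_top.2 fun he => hle ?_
    exact (Subgroup.subgroupOf_eq_top.1 he).trans inf_le_right
  obtain ⟨g, hg, hgM⟩ := SetLike.exists_of_lt
    (normalizerCondition_of_isNilpotent (M.subgroupOf T) hlt)
  have hconj : ∀ a, ∀ x ∈ (Q : Subgroup SL2), (g : Ug F ι) * dg F ι (one1 a x) * (g : Ug F ι)⁻¹ ∈ M := by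
    intro a x hx
    have hB : dg F ι (one1 a x) ∈ M := ⟨hTB _ (one1_mem hx),
      dg_mem_monG.2 fun b => Subgroup.le_normalizer (one1_mem hx b)⟩
    exact (Subgroup.mem_normalizer_iff.1 hg ⟨_, hB.1⟩).1 (Subgroup.mem_subgroupOf.2 hB)
  have hmon := mem_monG_of_conj hq.two hq.sqi (g := (g : Ug F ι)) fun a =>
    monG_mono le_rfl le_top (hconj a i hi).2
  obtain ⟨σ, -, v, -, hv⟩ := hmon
  exact hgM (Subgroup.mem_subgroupOf.2 ⟨g.2, σ, Subgroup.mem_top _, v,
    fun a => comp_mem_normalizer hT hTB hv hconj a, hv⟩)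

variable {W : Sylow 2 (Equiv.Perm ι)}

theorem pow_mon {σ : Equiv.Perm ι} {v : ι → SL2} {N : Subgroup SL2} (hv : ∀ a, v a ∈ N) (k : ℕ) :
    ∃ w : ι → SL2, (∀ a, w a ∈ N) ∧
      (pm F ι σ * dg F ι v) ^ k = pm F ι (σ ^ k) * dg F ι w := by
  induction k with
  | zero => exact ⟨1, fun _ => N.one_mem, by simp⟩
  | succ l ih =>
    obtain ⟨w', hw', he'⟩ := ih
    refine ⟨(w' ∘ σ) * v, fun a => N.mul_mem (hw' _) (hv a), ?_⟩
    rw [pow_succ, he', pow_succ, map_mul, map_mul, mul_assoc, ← mul_assoc (dg F ι w')]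
    have h := pm_dg (F := F) σ (w' ∘ σ)
    rw [show ((w' ∘ ⇑σ) ∘ ⇑σ.symm) = w' by funext a; simp [Equiv.Perm.inv_def]] at h
    rw [← h]
    simp only [mul_assoc]

theorem isPGroup_sylWr : IsPGroup 2
    ↥(monG (W : Subgroup (Equiv.Perm ι)) (Q : Subgroup SL2) : Subgroup (Ug F ι)) := by
  haveI : Fact (Nat.Prime 2) := ⟨Nat.prime_two⟩
  rintro ⟨g, σ, hσ, v, hv, rfl⟩
  obtain ⟨k, hk⟩ := W.2 ⟨σ, hσ⟩
  obtain ⟨w, hw, he⟩ := pow_mon (σ := σ) hv (2 ^ k)
  have hk' : σ ^ 2 ^ k = 1 := congrArg Subtype.val hk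
  rw [hk', map_one, one_mul] at he
  obtain ⟨l, hl⟩ := IsPGroup.iff_card.1 Q.2
  refine ⟨k + l, Subtype.ext ?_⟩
  show (pm F ι σ * dg F ι v) ^ 2 ^ (k + l) = 1
  rw [pow_add, pow_mul, he, ← map_pow, ← map_one (dg F ι)]
  congr 1
  funext a
  have := pow_card_eq_one' (x := (⟨w a, hw a⟩ : (Q : Subgroup SL2)))
  rw [hl] at this
  exact congrArg Subtype.val this

theorem dg_mem_sylWr {v : ι → SL2} (hv : ∀ a, v a ∈ (Q : Subgroup SL2)) :
    dg F ι v ∈ monG (W : Subgroup (Equiv.Perm ι)) (Q : Subgroup SL2) := dg_mem_monG.2 hv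

/-- The wreath product is a Sylow 2-subgroup. -/
theorem exists_sylow_wr (hq : IsQuat i j) (hi : i ∈ (Q : Subgroup SL2))
    (W : Sylow 2 (Equiv.Perm ι)) :
    ∃ S : Sylow 2 (Ug F ι),
      (S : Subgroup (Ug F ι)) = monG (W : Subgroup (Equiv.Perm ι)) (Q : Subgroup SL2) := by
  haveI : Fact (Nat.Prime 2) := ⟨Nat.prime_two⟩
  obtain ⟨S, hS⟩ := (isPGroup_sylWr (W := W) (Q := Q)).exists_le_sylow
  refine ⟨S, le_antisymm ?_ hS⟩
  have hmon := two_group_mon hq hi S.2 fun v hv => hS (dg_mem_sylWr hv)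
  let W' : Subgroup (Equiv.Perm ι) :=
    { carrier := {σ | ∃ v : ι → SL2, pm F ι σ * dg F ι v ∈ (S : Subgroup (Ug F ι))}
      one_mem' := ⟨1, by simp⟩
      mul_mem' := by
        rintro σ τ ⟨v, hv⟩ ⟨w, hw⟩
        refine ⟨(v ∘ τ) * w, ?_⟩
        have h := pm_dg (F := F) τ (v ∘ τ)
        rw [show ((v ∘ ⇑τ) ∘ ⇑τ.symm) = v by funext a; simp [Equiv.Perm.inv_def]] at h
        have := S.mul_mem hv hw
        rw [mul_assoc, ← mul_assoc (dg F ι v), ← h] at this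
        simpa only [map_mul, mul_assoc] using this
      inv_mem' := by
        rintro σ ⟨v, hv⟩
        refine ⟨v⁻¹ ∘ σ.symm, ?_⟩
        have h := pm_dg (F := F) σ⁻¹ (v⁻¹ ∘ ⇑σ.symm)
        rw [show ((v⁻¹ ∘ ⇑σ.symm) ∘ ⇑(σ⁻¹ : Equiv.Perm ι).symm) = v⁻¹ by funext a; simp [Equiv.Perm.inv_def]] at h
        have := S.inv_mem hv
        rw [mul_inv_rev, ← map_inv, ← map_inv, ← h] at this
        exact this }
  have hW' : W' = W := W.3 (fun ⟨σ, v, hv⟩ => by
    obtain ⟨k, hk⟩ := S.2 ⟨_, hv⟩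
    obtain ⟨w, -, he⟩ := pow_mon (σ := σ) (N := ⊤) (v := v) (fun _ => Subgroup.mem_top _) (2 ^ k)
    refine ⟨k, Subtype.ext ?_⟩
    have hk' := congrArg Subtype.val hk
    simp only [Subgroup.coe_pow, Subgroup.coe_one] at hk' ⊢
    rw [he] at hk'
    exact (mon_unique (τ := 1) (w := 1) (by simpa using hk')).1)
    fun σ hσ => ⟨1, by simpa using hS (pm_mem_monG (N := (Q : Subgroup SL2)) hσ)⟩
  intro g hg
  obtain ⟨σ, -, v, hv, rfl⟩ := hmon hg
  have hσ : σ ∈ (W : Subgroup (Equiv.Perm ι)) := hW' ▸ (⟨v, hg⟩ : σ ∈ W')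
  refine ⟨σ, hσ, v, fun a => ?_, rfl⟩
  have hd : dg F ι v ∈ (S : Subgroup (Ug F ι)) := by
    have := S.mul_mem (S.inv_mem (hS (pm_mem_monG (N := (Q : Subgroup SL2)) hσ))) hg
    rwa [inv_mul_cancel_left] at this
  obtain ⟨k, hk⟩ := S.2 ⟨_, hd⟩
  have hk' := congrArg Subtype.val hk
  simp only [Subgroup.coe_pow, Subgroup.coe_one, ← map_pow] at hk'
  exact mem_sylow_of_normalizer (hv a)
    (congrFun (dg_injective (hk'.trans (map_one _).symm)) a)

/-- The normaliser of the Sylow 2-subgroup. -/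
theorem normalizer_wr (hq : IsQuat i j) (hi : i ∈ (Q : Subgroup SL2))
    (htr : ∀ a b : ι, ∃ σ ∈ (W : Subgroup (Equiv.Perm ι)), σ a = b)
    (hsn : ∀ σ : Equiv.Perm ι, (∀ τ ∈ (W : Subgroup (Equiv.Perm ι)),
      σ * τ * σ⁻¹ ∈ (W : Subgroup (Equiv.Perm ι))) → σ ∈ (W : Subgroup (Equiv.Perm ι)))
    [Nonempty ι] {g : Ug F ι}
    (hg : g ∈ Subgroup.normalizer
      ((monG (W : Subgroup (Equiv.Perm ι)) (Q : Subgroup SL2) : Subgroup (Ug F ι)) : Set (Ug F ι))) :
    ∃ s ∈ monG (W : Subgroup (Equiv.Perm ι)) (Q : Subgroup SL2), ∃ c ∈ (nrm Q),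
      g = s * dg F ι (fun _ => c) := by
  set S : Subgroup (Ug F ι) := monG (W : Subgroup (Equiv.Perm ι)) (Q : Subgroup SL2) with hS
  have hgS : ∀ x ∈ S, g * x * g⁻¹ ∈ S := fun x hx => (Subgroup.mem_normalizer_iff.1 hg x).1 hx
  have hTB : ∀ v : ι → SL2, (∀ a, v a ∈ (Q : Subgroup SL2)) → dg F ι v ∈ S :=
    fun v hv => dg_mem_sylWr hv
  obtain ⟨σ, -, v, -, hv⟩ := mem_monG_of_conj hq.two hq.sqi (g := g) fun a =>
    monG_mono le_top le_top (hgS _ (hTB _ (one1_mem hi)))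
  have hvN : ∀ a, v a ∈ (nrm Q) := comp_mem_normalizer (isPGroup_sylWr (W := W) (Q := Q)) hTB hv
    fun a x hx => ⟨hgS _ (hTB _ (one1_mem hx)),
      monG_mono le_top Subgroup.le_normalizer (hgS _ (hTB _ (one1_mem hx)))⟩
  have hcalc : ∀ τ : Equiv.Perm ι, g * pm F ι τ * g⁻¹ =
      pm F ι (σ * τ * σ⁻¹) * dg F ι (((v ∘ τ) * v⁻¹) ∘ σ.symm) := by
    intro τ
    have h1 := pm_dg (F := F) τ (v ∘ τ)
    rw [show ((v ∘ ⇑τ) ∘ ⇑τ.symm) = v by funext a; simp [Equiv.Perm.inv_def]] at h1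
    rw [hv, mul_inv_rev, mul_assoc (pm F ι σ), ← h1]
    simp only [mul_assoc, ← map_inv]
    rw [← mul_assoc (dg F ι (v ∘ τ)), ← map_mul]
    have h2 := pm_dg (F := F) σ⁻¹ (((v ∘ τ) * v⁻¹) ∘ σ.symm)
    rw [show ((((v ∘ ⇑τ) * v⁻¹) ∘ ⇑σ.symm) ∘ ⇑(σ⁻¹ : Equiv.Perm ι).symm) = (v ∘ ⇑τ) * v⁻¹ by
      funext a; simp [Equiv.Perm.inv_def]] at h2
    rw [← h2]
    simp only [map_mul, mul_assoc]
  have hW : σ ∈ (W : Subgroup (Equiv.Perm ι)) := by
    refine hsn σ fun τ hτ => ?_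
    obtain ⟨ρ, hρ, w, -, he⟩ := hgS _ (pm_mem_monG (N := (Q : Subgroup SL2)) hτ)
    rw [hcalc] at he
    rw [(mon_unique he).1]
    exact hρ
  have hdiff : ∀ τ ∈ (W : Subgroup (Equiv.Perm ι)), ∀ a, v (τ a) * (v a)⁻¹ ∈ (Q : Subgroup SL2) := by
    intro τ hτ a
    obtain ⟨ρ, -, w, hw, he⟩ := hgS _ (pm_mem_monG (N := (Q : Subgroup SL2)) hτ)
    rw [hcalc] at he
    have := congrFun (mon_unique he).2 (σ a)
    simp at this
    rw [this]
    exact hw _
  obtain ⟨a₀⟩ := ‹Nonempty ι›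
  refine ⟨pm F ι σ * dg F ι (v * (fun _ => (v a₀)⁻¹)), ⟨σ, hW, _, fun a => ?_, rfl⟩, v a₀,
    hvN a₀, ?_⟩
  · obtain ⟨τ, hτ, rfl⟩ := htr a₀ a
    exact hdiff τ hτ a₀
  · rw [mul_assoc, ← map_mul, hv]
    congr 2
    funext a
    simp

end Finite

/-- Finite fields of odd order have quaternion pairs in a Sylow 2-subgroup. -/
theorem exists_quat (F : Type u) [Field F] [Fintype F] (hodd : Fintype.card F % 2 = 1) :
    ∃ (Q : Sylow 2 (Matrix.SpecialLinearGroup (Fin 2) F))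
      (i j : Matrix.SpecialLinearGroup (Fin 2) F), IsQuat i j ∧
        i ∈ (Q : Subgroup (Matrix.SpecialLinearGroup (Fin 2) F)) ∧
        j ∈ (Q : Subgroup (Matrix.SpecialLinearGroup (Fin 2) F)) := by
  classical
  haveI : Fact (Nat.Prime 2) := ⟨Nat.prime_two⟩
  have h2 : (2 : F) ≠ 0 := Ring.two_ne_zero fun hc => by
    haveI := hc ▸ ringChar.charP F
    have := FiniteField.even_card_of_char_two hc
    omega
  obtain ⟨x, y, hxy⟩ := FiniteField.exists_root_sum_quadratic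
    (f := (Polynomial.X : Polynomial F) ^ 2) (g := Polynomial.X ^ 2 + Polynomial.C 1)
    (Polynomial.degree_X_pow 2) (Polynomial.degree_X_pow_add_C (by norm_num) 1) hodd
  simp at hxy
  let i : Matrix.SpecialLinearGroup (Fin 2) F := ⟨!![0, 1; -1, 0], by simp [Matrix.det_fin_two]⟩
  let j : Matrix.SpecialLinearGroup (Fin 2) F := ⟨!![x, y; y, -x], by
    simp [Matrix.det_fin_two]; linear_combination -hxy⟩
  have hi : i.1 * i.1 = -1 := by
    show !![(0 : F), 1; -1, 0] * !![0, 1; -1, 0] = -1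
    refine Matrix.ext fun a b => ?_
    fin_cases a <;> fin_cases b <;> simp [Matrix.mul_apply, Fin.sum_univ_two]
  have hj : j.1 * j.1 = -1 := by
    show !![x, y; y, -x] * !![x, y; y, -x] = -1
    refine Matrix.ext fun a b => ?_
    fin_cases a <;> fin_cases b <;> simp [Matrix.mul_apply, Fin.sum_univ_two] <;>
      (first | ring1 | linear_combination hxy | linear_combination -hxy)
  have hij : i.1 * j.1 = -(j.1 * i.1) := by
    show !![(0 : F), 1; -1, 0] * !![x, y; y, -x] = -(!![x, y; y, -x] * !![0, 1; -1, 0])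
    refine Matrix.ext fun a b => ?_
    fin_cases a <;> fin_cases b <;> simp [Matrix.mul_apply, Fin.sum_univ_two]
  have hconj : j * i * j⁻¹ = i⁻¹ := Subtype.ext (by
    rw [Matrix.SpecialLinearGroup.coe_mul, Matrix.SpecialLinearGroup.coe_mul,
      Matrix.SpecialLinearGroup.coe_inv, Matrix.SpecialLinearGroup.coe_inv, IsQuat.adj_eq hi,
      IsQuat.adj_eq hj, mul_neg, ← neg_neg (j.1 * i.1), ← hij, neg_mul, mul_assoc, hj]
    simp)
  have four : ∀ z : Matrix.SpecialLinearGroup (Fin 2) F, z.1 * z.1 = -1 →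
      IsPGroup 2 (Subgroup.zpowers z) := fun z hz => by
    have h4 : z ^ (2 ^ 2) = 1 := Subtype.ext (by
      rw [Matrix.SpecialLinearGroup.coe_pow, show (2 : ℕ) ^ 2 = 2 * 2 from rfl, pow_mul, sq z.1, hz]
      simp)
    obtain ⟨l, -, hl⟩ := (Nat.dvd_prime_pow Nat.prime_two).1 (orderOf_dvd_of_pow_eq_one h4)
    exact IsPGroup.of_card (n := l) (by rw [Nat.card_zpowers, hl])
  have hjn : j ∈ Subgroup.normalizer
      ((Subgroup.zpowers i : Subgroup _) : Set (Matrix.SpecialLinearGroup (Fin 2) F)) := by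
    refine Subgroup.mem_normalizer_fintype ?_
    rintro _ ⟨k, rfl⟩
    refine ⟨-k, ?_⟩
    show i ^ (-k) = j * i ^ k * j⁻¹
    rw [← conj_zpow, hconj, inv_zpow']
  obtain ⟨Q, hQ⟩ := ((four j hj).to_sup_of_normal_right' (four i hi)
    (Subgroup.zpowers_le.mpr hjn)).exists_le_sylow
  exact ⟨Q, i, j, ⟨h2, hi, hj, hij⟩,
    hQ (le_sup_right (a := Subgroup.zpowers j) (Subgroup.mem_zpowers i)),
    hQ (le_sup_left (a := Subgroup.zpowers j) (Subgroup.mem_zpowers j))⟩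

end Cfsg.Agent.Classical.SpPro
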