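import Cfsg.Agent.Lib.Classical.Pronormal.Klein
import Cfsg.Agent.Lib.Classical.Pronormal.SpSylow
import Cfsg.Agent.Lib.Classical.Pronormal.Linear

/-!
The normaliser of a Sylow 2-subgroup of `SL₂(q)` and its overgroups.
-/

set_option autoImplicit false
set_option linter.unusedSectionVars false

open scoped Pointwise

namespace Cfsg.Agent.Classical.SpPro

open Cfsg.Agent.Small Cfsg.Agent.Small.SL2C Cfsg.Agent.Classical.SL2Four
open Cfsg.Agent.Perm.Pronormal Cfsg.Agent.Classical.OddPronormal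

universe u

variable {F : Type u} [Field F] [Fintype F]

local notation "SL2" => Matrix.SpecialLinearGroup (Fin 2) F
local notation "P2" => Matrix.ProjectiveSpecialLinearGroup (Fin 2) F

theorem false_of_unfused (h2 : (2 : F) ≠ 0) (T : Sylow 2 P2) (S : Subgroup P2)
    (hS : S = (T : Subgroup P2)) [IsKleinFour S] {H : Subgroup P2} (hT : S ≤ H) {g : P2}
    (hgS : g ∈ Subgroup.normalizer (S : Set P2)) (hgS' : g ∉ S)
    (hN : ∀ h ∈ H ⊔ cj g H, h ∈ Subgroup.normalizer (S : Set P2) → h ∈ S) (hHS : ¬ H ≤ S) :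
    False := by
  classical
  haveI : Fact (Nat.Prime 2) := ⟨Nat.prime_two⟩
  haveI : Finite P2 := Finite.of_surjective _ PSL2.pr_surjective
  subst hS
  set S := (T : Subgroup P2)
  have hsq := klein_sq S
  have hcomm := klein_comm S
  have hmove := @klein_move _ _ _ h2 T S rfl _
  have hnorm : ∀ {h : P2}, h ∈ Subgroup.normalizer (S : Set P2) → ∀ s ∈ S, h * s * h⁻¹ ∈ S :=
    fun hh s hs => (Subgroup.mem_normalizer_iff.1 hh s).1 hs
  haveI : Fintype S := Fintype.ofFinite S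
  have hcard : Fintype.card S = 4 := by rw [← Nat.card_eq_fintype_card]; exact IsKleinFour.card_four
  haveI : Nontrivial S :=
    Finite.one_lt_card_iff_nontrivial.1 (by rw [IsKleinFour.card_four]; norm_num)
  obtain ⟨⟨a, ha⟩, ha1⟩ := exists_ne (1 : S)
  replace ha1 : a ≠ 1 := fun e => ha1 (Subtype.ext e)
  set J := H ⊔ cj g H with hJ
  have hSJ : S ≤ J := hT.trans le_sup_left
  set T' : Sylow 2 J := T.subtype hSJ with hT'
  have hT'mem : ∀ x : J, x ∈ (T' : Subgroup J) ↔ (x : P2) ∈ S := fun x => Iff.rfl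
  have hP : Subgroup.normalizer ((T' : Subgroup J) : Set J) ≤
      Subgroup.centralizer ((T' : Subgroup J) : Set J) := by
    intro x hx
    have hxS : (x : P2) ∈ S := by
      refine hN x x.2 (Subgroup.mem_normalizer_iff.2 fun s => ?_)
      constructor
      · intro hs
        exact (hT'mem _).1 ((Subgroup.mem_normalizer_iff.1 hx ⟨s, hSJ hs⟩).1 ((hT'mem _).2 hs))
      · intro hs
        have h1 : s ∈ J := by
          have h' := mul_mem (mul_mem (inv_mem x.2) (hSJ hs)) x.2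
          simpa [mul_assoc] using h'
        exact (hT'mem ⟨s, h1⟩).1 ((Subgroup.mem_normalizer_iff.1 hx ⟨s, h1⟩).2 ((hT'mem _).2 hs))
    rw [Subgroup.mem_centralizer_iff]
    intro y hy
    exact Subtype.ext (hcomm _ ((hT'mem y).1 hy) _ hxS)
  obtain ⟨N, hNn, hNodd, hNS, hNmem⟩ := exists_normal_complement T' hP
  set O := N.map J.subtype with hOdef
  have hOodd : Odd (Nat.card O) := by
    rw [hOdef, Subgroup.card_map_of_injective J.subtype_injective]
    exact hNodd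
  have hSO : ∀ s ∈ S, s ∈ Subgroup.normalizer (O : Set P2) := by
    intro s hs
    rw [Subgroup.mem_normalizer_iff]
    intro x
    constructor
    · rintro ⟨y, hy, rfl⟩
      exact ⟨⟨s, hSJ hs⟩ * y * ⟨s, hSJ hs⟩⁻¹,
        hNn.conj_mem y hy ⟨s, hSJ hs⟩, rfl⟩
    · rintro ⟨y, hy, hye⟩
      refine ⟨(⟨s, hSJ hs⟩ : J)⁻¹ * y * ⟨s, hSJ hs⟩, ?_, ?_⟩
      · have := hNn.conj_mem y hy (⟨s, hSJ hs⟩ : J)⁻¹
        rwa [inv_inv] at this
      · show s⁻¹ * (y : P2) * s = x
        rw [show (y : P2) = s * x * s⁻¹ from hye]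
        group
  obtain ⟨h, hhH, hhS⟩ := Set.not_subset.1 hHS
  obtain ⟨o, hoN, s, hsT, hos⟩ := hNS ⟨h, le_sup_left (α := Subgroup P2) hhH⟩
  have hoH : (o : P2) ∈ H := by
    have e : (o : P2) * (s : P2) = h := congrArg Subtype.val hos
    rw [← eq_mul_inv_iff_mul_eq] at e
    rw [e]
    exact mul_mem hhH (inv_mem (hT ((hT'mem _).1 hsT)))
  have ho1 : (o : P2) ≠ 1 := by
    intro e1
    have e : (o : P2) * (s : P2) = h := congrArg Subtype.val hos
    rw [e1, one_mul] at e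
    exact hhS (e ▸ (hT'mem _).1 hsT)
  have hoO : (o : P2) ∈ O := ⟨o, hoN, rfl⟩
  -- some involution of `S` has a fixed point on `H ⊓ O`
  obtain ⟨z, hz, hz1, x, hx, hx1, hxz⟩ : ∃ z ∈ S, z ≠ 1 ∧ ∃ x ∈ H ⊓ O, x ≠ 1 ∧ z * x = x * z := by
    by_contra hh
    push Not at hh
    have hinv : ∀ z ∈ S, z ≠ 1 → ∀ x ∈ H ⊓ O, z * x * z⁻¹ = x⁻¹ := by
      intro z hz hz1 x hx
      have hmem : ∀ y ∈ H ⊓ O, z * y * z⁻¹ ∈ H ⊓ O := fun y hy =>
        ⟨H.mul_mem (H.mul_mem (hT hz) hy.1) (H.inv_mem (hT hz)),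
          (Subgroup.mem_normalizer_iff.1 (hSO z hz) y).1 hy.2⟩
      let φ : ↥(H ⊓ O) →* ↥(H ⊓ O) :=
        { toFun := fun y => ⟨z * y.1 * z⁻¹, hmem y.1 y.2⟩
          map_one' := Subtype.ext (by simp)
          map_mul' := fun a b => Subtype.ext (by simp [mul_assoc]) }
      have hfpf : MonoidHom.FixedPointFree φ := by
        intro y hy
        by_contra hy1
        refine hh z hz hz1 y.1 y.2 (fun e => hy1 (Subtype.ext e)) ?_
        have e : z * y.1 * z⁻¹ = y.1 := congrArg Subtype.val hy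
        rwa [mul_inv_eq_iff_eq_mul] at e
      have hinvol : Function.Involutive φ := fun y => Subtype.ext (by
        show z * (z * y.1 * z⁻¹) * z⁻¹ = y.1
        rw [show z * (z * y.1 * z⁻¹) * z⁻¹ = (z * z) * y.1 * (z * z)⁻¹ by group, hsq z hz]
        group)
      exact congrArg Subtype.val
        (congrFun (hfpf.coe_eq_inv_of_involutive hinvol) ⟨x, hx⟩)
    obtain ⟨b, hb, hb1, hba⟩ : ∃ b ∈ S, b ≠ 1 ∧ b ≠ a := by
      by_contra hh'
      push Not at hh'
      have hsub : (Finset.univ : Finset S) ⊆ {1, ⟨a, ha⟩} := fun s _ => by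
        simp only [Finset.mem_insert, Finset.mem_singleton]
        by_cases h : (s : P2) = 1
        · exact Or.inl (Subtype.ext h)
        · exact Or.inr (Subtype.ext (hh' s s.2 h))
      have := (Finset.card_le_card hsub).trans Finset.card_le_two
      rw [Finset.card_univ] at this
      omega
    have hab1 : a * b ≠ 1 := fun e => hba (by
      calc b = (a * a) * b := by rw [hsq a ha, one_mul]
        _ = a := by rw [mul_assoc, e, mul_one])
    have hm : (o : P2) ∈ H ⊓ O := ⟨hoH, hoO⟩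
    refine hh (a * b) (S.mul_mem ha hb) hab1 _ hm ho1 ?_
    rw [← mul_inv_eq_iff_eq_mul, show a * b * (o : P2) * (a * b)⁻¹ =
      a * (b * (o : P2) * b⁻¹) * a⁻¹ by group, hinv b hb hb1 _ hm,
      hinv a ha ha1 _ (inv_mem hm), inv_inv]
  have hmv := hmove hgS hgS' z hz hz1
  have hx' : g * x * g⁻¹ ∈ O := by
    have hxJ : g * x * g⁻¹ ∈ J := le_sup_right (α := Subgroup P2) (mem_cj.2 (by
      simpa [mul_assoc] using hx.1))
    have hqodd : Odd (orderOf (g * x * g⁻¹)) := by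
      rw [show g * x * g⁻¹ = MulAut.conj g x from rfl, MulEquiv.orderOf_eq]
      exact hOodd.of_dvd_nat (Subgroup.orderOf_dvd_natCard (s := O) hx.2)
    exact ⟨⟨_, hxJ⟩, hNmem _ (by rwa [Subgroup.orderOf_mk]), rfl⟩
  refine no_two_fixed h2 hOodd (z := z) (z' := g * z * g⁻¹) (hsq z hz) hz1
    (hsq _ (hnorm hgS z hz)) (fun e => hz1 (conj_eq_one_iff.1 e)) hmv.symm
    (hcomm z hz _ (hnorm hgS z hz)) (hSO z hz) (hSO _ (hnorm hgS z hz)) hx.2 hx1 hx'
    (fun e => hx1 (conj_eq_one_iff.1 e)) hxz ?_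
  calc g * z * g⁻¹ * (g * x * g⁻¹) = g * (z * x) * g⁻¹ := by group
    _ = g * (x * z) * g⁻¹ := by rw [hxz]
    _ = _ := by group


/-- The Sylow subgroup inside its normaliser. -/
abbrev qIn (Q : Sylow 2 SL2) : Subgroup (nrm Q) := (Q : Subgroup SL2).subgroupOf (nrm Q)

theorem qIn_normal (Q : Sylow 2 SL2) : (qIn Q).Normal := by
  refine ⟨fun x hx g => ?_⟩
  exact (Subgroup.mem_normalizer_iff.1 g.2 x).1 hx

theorem normalizer_eq_of_ne (hodd : Fintype.card F % 2 = 1)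
    (h8 : ¬ (Fintype.card F % 8 = 3 ∨ Fintype.card F % 8 = 5)) (Q : Sylow 2 SL2) :
    ∀ g ∈ nrm Q, g ∈ (Q : Subgroup SL2) := by
  haveI : Fact (Nat.Prime 2) := ⟨Nat.prime_two⟩
  have aux : ∀ d : ℕ, 2 ^ 1 = d → ∃ T : Sylow 2 (Matrix.SpecialLinearGroup (Fin d) F),
      ∀ g, (∀ x ∈ (T : Subgroup (Matrix.SpecialLinearGroup (Fin d) F)),
        g * x * g⁻¹ ∈ (T : Subgroup (Matrix.SpecialLinearGroup (Fin d) F))) →
          g ∈ (T : Subgroup (Matrix.SpecialLinearGroup (Fin d) F)) := by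
    rintro d rfl
    exact exists_self_normalizing_sylow F 1 le_rfl hodd (fun _ => by omega)
  obtain ⟨T, hT⟩ := aux 2 (pow_one 2)
  obtain ⟨k, hk⟩ := MulAction.exists_smul_eq SL2 T Q
  subst hk
  intro g hg
  have hm : ∀ y : SL2, y ∈ ((k • T : Sylow 2 SL2) : Subgroup SL2) ↔
      k⁻¹ * y * k ∈ (T : Subgroup SL2) := fun y => by
    rw [Sylow.coe_subgroup_smul, Subgroup.mem_pointwise_smul_iff_inv_smul_mem, ← map_inv,
      MulAut.smul_def, MulAut.conj_apply, inv_inv]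
  rw [hm]
  refine hT _ fun x hx => ?_
  have h1 : k * x * k⁻¹ ∈ ((k • T : Sylow 2 SL2) : Subgroup SL2) :=
    (hm _).2 (by simpa [mul_assoc] using hx)
  have h2 := (hm _).1 ((Subgroup.mem_normalizer_iff.1 hg _).1 h1)
  simpa [mul_assoc] using h2

theorem two_ne_zero_of_card_odd (hodd : Fintype.card F % 2 = 1) : (2 : F) ≠ 0 :=
  Ring.two_ne_zero fun hc => by
    haveI := hc ▸ ringChar.charP F
    have := FiniteField.even_card_of_char_two hc
    omega

/-- The image in the projective group. -/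
theorem exists_klein (h8 : Fintype.card F % 8 = 3 ∨ Fintype.card F % 8 = 5)
    (h2 : (2 : F) ≠ 0) {i : SL2} (hi : i.1 * i.1 = -1) (Q : Sylow 2 SL2)
    (hQi : i ∈ (Q : Subgroup SL2)) :
    ∃ T : Sylow 2 P2, IsKleinFour (T : Subgroup P2) ∧
      ∀ x, PSL2.pr x ∈ (T : Subgroup P2) ↔ x ∈ (Q : Subgroup SL2) := by
  haveI : Fact (Nat.Prime 2) := ⟨Nat.prime_two⟩
  refine ⟨Q.mapSurjective PSL2.pr_surjective, sylow_psl_klein h2 h8 _, fun x => ?_⟩
  rw [Sylow.coe_mapSurjective]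
  refine ⟨?_, Subgroup.mem_map_of_mem _⟩
  rintro ⟨y, hy, hxy⟩
  obtain ⟨ε, hε, hxy⟩ := (PSL2.pr_eq_iff x y).1 hxy.symm
  rcases mul_self_eq_one_iff.1 hε with rfl | rfl
  · rwa [show x = y from Subtype.ext (by rw [hxy, one_smul])]
  · have : x = i * i * y := Subtype.ext (by
      rw [Matrix.SpecialLinearGroup.coe_mul, Matrix.SpecialLinearGroup.coe_mul, hi, hxy,
        neg_smul, one_smul, neg_mul, Matrix.one_mul])
    rw [this]
    exact mul_mem (mul_mem hQi hQi) hy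

theorem index_qIn_dvd (hodd : Fintype.card F % 2 = 1) {i : SL2} (hi : i.1 * i.1 = -1)
    (Q : Sylow 2 SL2) (hQi : i ∈ (Q : Subgroup SL2)) : (qIn Q).index ∣ 3 := by
  haveI : Fact (Nat.Prime 2) := ⟨Nat.prime_two⟩
  have h2 := two_ne_zero_of_card_odd hodd
  by_cases h8 : Fintype.card F % 8 = 3 ∨ Fintype.card F % 8 = 5
  swap
  · have : qIn Q = ⊤ := Subgroup.subgroupOf_eq_top.2 (normalizer_eq_of_ne hodd h8 Q)
    rw [this, Subgroup.index_top]
    exact one_dvd _
  obtain ⟨T, hK, hT⟩ := exists_klein h8 h2 hi Q hQi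
  haveI := hK
  haveI : Finite P2 := Finite.of_surjective _ PSL2.pr_surjective
  have hmem : ∀ x : nrm Q, PSL2.pr x.1 ∈ Subgroup.normalizer ((T : Subgroup P2) : Set P2) := by
    intro x
    refine Subgroup.mem_normalizer_fintype fun y hy => ?_
    obtain ⟨y, rfl⟩ := PSL2.pr_surjective y
    rw [← map_inv, ← map_mul, ← map_mul]
    exact (hT _).2 ((Subgroup.mem_normalizer_iff.1 x.2 y).1 ((hT y).1 hy))
  let ψ : nrm Q →* Subgroup.normalizer ((T : Subgroup P2) : Set P2) :=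
    (PSL2.pr.comp (nrm Q).subtype).codRestrict _ hmem
  let toP : MulAut (T : Subgroup P2) →* Equiv.Perm (T : Subgroup P2) :=
    { toFun := fun e => e.toEquiv, map_one' := rfl, map_mul' := fun _ _ => rfl }
  let φ : nrm Q →* Equiv.Perm (T : Subgroup P2) :=
    toP.comp ((Subgroup.normalizerMonoidHom (T : Subgroup P2)).comp ψ)
  have hker : φ.ker ≤ qIn Q := by
    intro x hx
    rw [Subgroup.mem_subgroupOf, ← hT]
    refine centralizer_klein_le h2 (T : Subgroup P2) fun s hs => ?_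
    rw [← mul_inv_eq_iff_eq_mul]
    exact congrArg Subtype.val (Equiv.ext_iff.1 hx ⟨s, hs⟩)
  have h24 : φ.ker.index ∣ 24 := by
    rw [Subgroup.index_ker]
    refine (Subgroup.card_subgroup_dvd_card φ.range).trans ?_
    classical
    haveI := Fintype.ofFinite (T : Subgroup P2)
    rw [Nat.card_eq_fintype_card, Fintype.card_perm, ← Nat.card_eq_fintype_card,
      IsKleinFour.card_four]
    rfl
  have hd : (qIn Q).index ∣ 24 := (Subgroup.index_dvd_of_le hker).trans h24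
  have ho : ¬ 2 ∣ (qIn Q).index := by
    intro h
    have h' : 2 ∣ (Q : Subgroup SL2).relIndex (nrm Q) := h
    exact Q.not_dvd_index (h'.trans (Dvd.intro _
      (Subgroup.relIndex_mul_index (Subgroup.le_normalizer (H := (Q : Subgroup SL2))))))
  have hco : Nat.Coprime (qIn Q).index (2 ^ 3) :=
    Nat.Coprime.pow_right 3 ((Nat.Prime.coprime_iff_not_dvd Nat.prime_two).2 ho).symm
  exact hco.dvd_of_dvd_mul_left (by simpa using hd)

/-- An overgroup of `Q` not normalising it, with its conjugate by `c`, fuses the elements of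
order four. -/
theorem exists_fused (hodd : Fintype.card F % 2 = 1) {i : SL2} (hi : i.1 * i.1 = -1)
    (Q : Sylow 2 SL2) (hQi : i ∈ (Q : Subgroup SL2)) {E : Subgroup SL2}
    (hQE : (Q : Subgroup SL2) ≤ E) {c : SL2} (hc : c ∈ nrm Q) (hcQ : c ∉ (Q : Subgroup SL2))
    {d : SL2} (hd : d ∉ nrm Q) (hdE : ∀ x ∈ (Q : Subgroup SL2), d * x * d⁻¹ ∈ E)
    (hcdE : ∀ x ∈ (Q : Subgroup SL2), c * (d * x * d⁻¹) * c⁻¹ ∈ E) :
    ∃ y ∈ E, y ∈ nrm Q ∧ y ∉ (Q : Subgroup SL2) := by
  haveI : Fact (Nat.Prime 2) := ⟨Nat.prime_two⟩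
  have h2 := two_ne_zero_of_card_odd hodd
  have h8 : Fintype.card F % 8 = 3 ∨ Fintype.card F % 8 = 5 := by
    by_contra h
    exact hcQ (normalizer_eq_of_ne hodd h Q c hc)
  obtain ⟨T, hK, hT⟩ := exists_klein h8 h2 hi Q hQi
  haveI := hK
  haveI : Finite P2 := Finite.of_surjective _ PSL2.pr_surjective
  by_contra hno
  push Not at hno
  set H0 : Subgroup SL2 := (Q : Subgroup SL2) ⊔ (Q : Subgroup SL2).map (MulAut.conj d).toMonoidHom
  have hH0 : H0 ≤ E := sup_le hQE (by rintro _ ⟨x, hx, rfl⟩; exact hdE x hx)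
  have hcH0 : H0.map (MulAut.conj c).toMonoidHom ≤ E := by
    rw [Subgroup.map_sup]
    refine sup_le ?_ ?_
    · rintro _ ⟨x, hx, rfl⟩
      exact hQE ((Subgroup.mem_normalizer_iff.1 hc x).1 hx)
    · rintro _ ⟨_, ⟨x, hx, rfl⟩, rfl⟩
      exact hcdE x hx
  have hprT : ∀ {z : SL2}, z ∈ nrm Q → PSL2.pr z ∈ Subgroup.normalizer
      ((T : Subgroup P2) : Set P2) := fun {z} hz => by
    refine Subgroup.mem_normalizer_fintype fun y hy => ?_
    obtain ⟨y, rfl⟩ := PSL2.pr_surjective y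
    rw [← map_inv, ← map_mul, ← map_mul]
    exact (hT _).2 ((Subgroup.mem_normalizer_iff.1 hz y).1 ((hT y).1 hy))
  refine false_of_unfused h2 T (T : Subgroup P2) rfl (H := H0.map PSL2.pr) ?_ (g := PSL2.pr c)
    (hprT hc) (fun h => hcQ ((hT c).1 h)) ?_ ?_
  · intro y hy
    obtain ⟨x, rfl⟩ := PSL2.pr_surjective y
    exact Subgroup.mem_map_of_mem _ (le_sup_left (a := (Q : Subgroup SL2)) ((hT x).1 hy))
  · intro h hh hhN
    rw [← map_cj, ← Subgroup.map_sup] at hh
    obtain ⟨y, hy, rfl⟩ := hh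
    refine (hT y).2 (hno y (sup_le hH0 hcH0 hy) ?_)
    refine Subgroup.mem_normalizer_fintype fun x hx => (hT _).1 ?_
    rw [map_mul, map_mul, map_inv]
    exact (Subgroup.mem_normalizer_iff.1 hhN _).1 ((hT x).2 hx)
  · intro hle
    refine hd (Subgroup.mem_normalizer_fintype fun x hx => (hT _).1 ?_)
    exact hle (Subgroup.mem_map_of_mem _
      (le_sup_right (a := (Q : Subgroup SL2)) (Subgroup.mem_map_of_mem _ hx)))

end Cfsg.Agent.Classical.SpPro
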