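import Cfsg.Agent.Lib.Classical.Pronormal.SpSylow

/-!
A word in the quaternion groups of two planes and of a plane meeting both diagonally, equal to a
diagonal element of order three.
-/

set_option autoImplicit false
set_option linter.unusedSectionVars false

open scoped Matrix

namespace Cfsg.Agent.Classical.SpPro

universe u v

variable {F : Type u} [Field F] {ι : Type v} [Fintype ι] [DecidableEq ι]

local notation "M2" => Matrix (Fin 2) (Fin 2) F
local notation "SL2" => Matrix.SpecialLinearGroup (Fin 2) F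

section Ids

variable {i j : Matrix.SpecialLinearGroup (Fin 2) F}

theorem word_ids (hq : IsQuat i j) {h : F} (hh : h * 2 = 1) :
    (h • (i.1 - 1) + h • (j.1 - 1) + h • (i.1 - 1) * (i.1 * j.1 + 1) * (h • (j.1 - 1)) +
        h • (i.1 - 1) * (i.1 * j.1 - 1) = 0) ∧
    (h • (i.1 - 1) + h • (j.1 - 1) + h • (i.1 - 1) * (i.1 * j.1 + 1) * (h • (j.1 - 1)) +
        (i.1 * j.1 - 1) * (h • (j.1 - 1)) = 0) ∧
    i.1 * j.1 + (i.1 * j.1 - 1) * (h • (j.1 - 1)) = h • (1 - i.1 - j.1 + i.1 * j.1) ∧
    1 - h • (i.1 - 1) * (i.1 * j.1 - 1) = h • (1 + i.1 + j.1 + i.1 * j.1) := by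
  have hjj : ∀ x : M2, x * j.1 * j.1 = -x := fun x => by
    rw [mul_assoc, hq.sqj, mul_neg_one]
  have P3 : (i.1 - 1) * (i.1 * j.1 + 1) * (j.1 - 1) = (2 : F) • (1 + i.1 * j.1) := by
    simp only [mul_add, add_mul, mul_sub, sub_mul, mul_one, one_mul, ← mul_assoc, hq.sqi,
      neg_mul, hq.sqj, hjj]
    module
  have e : h • (i.1 - 1) * (i.1 * j.1 + 1) * (h • (j.1 - 1)) = h • (1 + i.1 * j.1) := by
    rw [Matrix.smul_mul, Matrix.smul_mul, Matrix.mul_smul, smul_smul, P3, smul_smul,
      mul_assoc, hh, mul_one]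
  have one_eq : ∀ x : M2, x = (h * 2) • x := fun x => by rw [hh, one_smul]
  refine ⟨?_, ?_, ?_, ?_⟩
  · rw [e]
    simp only [Matrix.smul_mul, mul_sub, sub_mul, mul_one, one_mul, ← mul_assoc, hq.sqi, neg_mul]
    module
  · rw [e]
    simp only [Matrix.mul_smul, mul_sub, sub_mul, mul_one, one_mul, hjj]
    module
  · conv_lhs => enter [1]; rw [one_eq (i.1 * j.1)]
    simp only [Matrix.mul_smul, mul_sub, sub_mul, mul_one, one_mul, hjj]
    module
  · conv_lhs => enter [1]; rw [one_eq (1 : M2)]
    simp only [Matrix.smul_mul, mul_sub, sub_mul, mul_one, one_mul, ← mul_assoc, hq.sqi, neg_mul]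
    module

theorem word_rel (hq : IsQuat i j) {h : F} (hh : h * 2 = 1) :
    h • (1 - i.1 - j.1 + i.1 * j.1) = h • (1 + i.1 + j.1 + i.1 * j.1) * -i.1 ∧
    h • (1 - i.1 - j.1 + i.1 * j.1) * (h • (1 - i.1 - j.1 + i.1 * j.1)) =
      h • (1 - i.1 - j.1 + i.1 * j.1) - 1 ∧
    h • (1 - i.1 - j.1 + i.1 * j.1) * i.1 ≠ i.1 * (h • (1 - i.1 - j.1 + i.1 * j.1)) := by
  have hji0 : j.1 * i.1 = -(i.1 * j.1) := by rw [hq.anti, neg_neg]
  have hji : ∀ x : M2, x * j.1 * i.1 = -(x * i.1 * j.1) := fun x => by
    rw [mul_assoc, hji0, mul_neg, ← mul_assoc]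
  have hjj : ∀ x : M2, x * j.1 * j.1 = -x := fun x => by
    rw [mul_assoc, hq.sqj, mul_neg_one]
  refine ⟨?_, ?_, ?_⟩
  · simp only [Matrix.smul_mul, mul_neg, add_mul, one_mul, hji, hq.sqi, hji0, neg_mul, neg_neg]
    module
  · have U2 : (1 - i.1 - j.1 + i.1 * j.1) * (1 - i.1 - j.1 + i.1 * j.1) =
        (2 : F) • (1 - i.1 - j.1 + i.1 * j.1) - (4 : F) • (1 : M2) := by
      simp only [mul_add, add_mul, mul_sub, sub_mul, mul_one, one_mul, ← mul_assoc, hq.sqi,
        hq.sqj, hji, hji0, hjj, neg_mul, neg_neg]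
      module
    rw [Matrix.smul_mul, Matrix.mul_smul, smul_smul, U2, smul_sub, smul_smul, smul_smul,
      mul_assoc, hh, mul_one, show h * h * 4 = (h * 2) * (h * 2) by ring, hh, one_mul, one_smul]
  · intro hc
    have hd : (1 - i.1 - j.1 + i.1 * j.1) * i.1 - i.1 * (1 - i.1 - j.1 + i.1 * j.1) =
        (2 : F) • (i.1 * j.1 + j.1) := by
      simp only [mul_add, add_mul, mul_sub, sub_mul, mul_one, one_mul, ← mul_assoc, hq.sqi,
        hji, hji0, neg_mul, neg_neg]
      module
    have hh0 : h ≠ 0 := fun h0 => by rw [h0, zero_mul] at hh; exact zero_ne_one hh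
    rw [Matrix.smul_mul, Matrix.mul_smul] at hc
    rw [smul_right_injective M2 hh0 hc, sub_self] at hd
    have h1 := congrArg (· * j.1) ((smul_eq_zero.1 hd.symm).resolve_left hq.two)
    simp only [add_mul, zero_mul, hjj, hq.sqj] at h1
    have h2 : i.1 = -1 := by
      have : i.1 + 1 = 0 := by
        rw [← neg_eq_zero, neg_add]
        exact h1
      exact eq_neg_of_add_eq_zero_left this
    have h3 := hq.sqi
    rw [h2, neg_mul_neg, one_mul] at h3
    have h4 := congrFun (congrFun h3 0) 0
    simp at h4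
    exact hq.two (by linear_combination h4)

end Ids

/-- The rank-one perturbation of the identity along `L`. -/
def psiM (L : ι → M2) (X : M2) : Matrix ι ι M2 := 1 + rk (fun y => L y * X) L

theorem word_eq {L : ι → M2} {b c : ι} (hbc : b ≠ c) (Lb : L b = 1)
    (Lo : ∀ y, y ≠ b → y ≠ c → L y = 0) (hLc : (L c).adjugate * L c = 1) (Xi Xj κ : M2)
    (h1 : Xi + Xj + Xi * (κ + 2) * Xj + Xi * κ = 0)
    (h2 : Xi + Xj + Xi * (κ + 2) * Xj + κ * Xj = 0) :
    psiM L Xi * embM (e b) (1 + κ) * psiM L Xj =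
      Matrix.diagonal fun y =>
        if y = b then 1 + κ + κ * Xj else if y = c then L c * (1 - Xi * κ) * (L c).adjugate else 1 := by
  set α := Xi + Xj + Xi * (κ + 2) * Xj
  have hcb : c ≠ b := Ne.symm hbc
  have hsum : ∀ f : ι → M2, (∀ y, y ≠ b → y ≠ c → f y = 0) → ∑ y, f y = f b + f c := fun f hf =>
    Finset.sum_eq_add_of_mem b c (Finset.mem_univ _) (Finset.mem_univ _) hbc
      fun y _ hy => hf y hy.1 hy.2
  have ipr : ∀ (φ χ : ι → M2) (X : M2), ip φ (fun y => χ y * X) = ip φ χ * X := fun φ χ X => by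
    simp only [ip, Finset.sum_mul, mul_assoc]
  have ip1 : ip L (e b) = 1 := by
    rw [ip, Finset.sum_eq_single b (fun y _ hy => by simp [e, hy]) (by simp)]
    simp [e, Lb]
  have ip2 : ip (e b) L = 1 := by rw [ip_e_left, Lb]
  have ip3 : ip L L = 2 := by
    rw [ip, hsum _ (fun y h1 h2 => by rw [Lo y h1 h2, mul_zero]), Lb, hLc,
      Matrix.adjugate_one, mul_one, one_add_one_eq_two]
  simp only [psiM, embM, add_sub_cancel_left, add_mul, mul_add, one_mul, mul_one, rk_mul, ipr, ip1,
    ip2, ip3]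
  refine Matrix.ext fun y z => ?_
  simp only [Matrix.add_apply, rk_apply, Matrix.one_apply]
  have key : (if y = z then (1 : M2) else 0) + L y * α * (L z).adjugate +
      L y * (Xi * κ) * (e b z).adjugate + e b y * (κ * Xj) * (L z).adjugate +
      e b y * κ * (e b z).adjugate =
      Matrix.diagonal (fun y =>
        if y = b then 1 + κ + κ * Xj else if y = c then L c * (1 - Xi * κ) * (L c).adjugate
        else 1) y z := by
    have a1 : α = -(Xi * κ) := eq_neg_of_add_eq_zero_left h1
    have a2 : α = -(κ * Xj) := eq_neg_of_add_eq_zero_left h2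
    have eb : (e b : ι → M2) b = 1 := by simp [e]
    have eo : ∀ w, w ≠ b → (e b : ι → M2) w = 0 := fun w hw => by simp [e, hw]
    by_cases hy : y = b
    · subst hy
      by_cases hz : z = y
      · subst hz
        rw [Matrix.diagonal_apply_eq, if_pos rfl, if_pos rfl, Lb, eb, a1, Matrix.adjugate_one]
        noncomm_ring
      · rw [Matrix.diagonal_apply_ne _ (Ne.symm hz), if_neg (Ne.symm hz), eo z hz, eb, Lb,
          adj_zero, a2]
        noncomm_ring
    · by_cases hz : z = b
      · subst hz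
        rw [Matrix.diagonal_apply_ne _ hy, if_neg hy, eo y hy, eb, Lb, Matrix.adjugate_one, a1]
        noncomm_ring
      · rw [eo y hy, eo z hz, adj_zero]
        by_cases hyc : y = c
        · subst hyc
          by_cases hzc : z = y
          · subst hzc
            rw [Matrix.diagonal_apply_eq, if_pos rfl, if_neg hy, if_pos rfl, a1, mul_sub, sub_mul,
              mul_one, show L z * (L z).adjugate = 1 by
                have hd := congrFun (congrFun hLc 0) 0
                rw [adj_mul_self] at hd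
                rw [mul_adj, show (L z).det = 1 by simpa using hd, one_smul]]
            noncomm_ring
          · rw [Matrix.diagonal_apply_ne _ (Ne.symm hzc), if_neg (Ne.symm hzc), Lo z hz hzc,
              adj_zero]
            noncomm_ring
        · rw [Lo y hy hyc]
          by_cases hyz : y = z
          · subst hyz
            rw [Matrix.diagonal_apply_eq, if_pos rfl, if_neg hy, if_neg hyc]
            noncomm_ring
          · rw [Matrix.diagonal_apply_ne _ hyz, if_neg hyz]
            noncomm_ring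
  rw [← key]
  simp only [α]
  noncomm_ring

end Cfsg.Agent.Classical.SpPro
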