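import Cfsg.Agent.Lib.Classical.Pronormal.SpFrames
import Cfsg.Agent.Lib.Classical.Pronormal.SpQuot
import Cfsg.Agent.Lib.Classical.Pronormal.SpWord

/-!
Overgroups of a Sylow 2-subgroup of the symplectic group and the diagonal element of order three.
-/

set_option autoImplicit false
set_option linter.unusedSectionVars false

open scoped Matrix

namespace Cfsg.Agent.Classical.SpPro

open Cfsg.Agent.Perm.Pronormal

universe u v

variable {F : Type u} [Field F] [Fintype F] {ι : Type v} [Fintype ι] [DecidableEq ι]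
  {Q : Sylow 2 (Matrix.SpecialLinearGroup (Fin 2) F)}
  {i j : Matrix.SpecialLinearGroup (Fin 2) F} {W : Sylow 2 (Equiv.Perm ι)}

local notation "M2" => Matrix (Fin 2) (Fin 2) F
local notation "SL2" => Matrix.SpecialLinearGroup (Fin 2) F

/-- Diagonal elements with entries in the normaliser. -/
def dgN (Q : Sylow 2 (Matrix.SpecialLinearGroup (Fin 2) F)) (ι : Type v) [Fintype ι]
    [DecidableEq ι] : (ι → nrm Q) →* Ug F ι :=
  (dg F ι).comp ((nrm Q).subtype.compLeft ι)

theorem dgN_apply (v : ι → nrm Q) : dgN Q ι v = dg F ι (fun b => (v b).1) := rfl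

/-- The classes modulo `Q`, with the sum over the coordinates. -/
theorem const_mem (hidx : (qIn Q).index ∣ 3)
    (htr : ∀ a b : ι, ∃ σ ∈ (W : Subgroup (Equiv.Perm ι)), σ a = b) [Nonempty ι]
    {Y : Subgroup (Ug F ι)}
    (hS : monG (W : Subgroup (Equiv.Perm ι)) (Q : Subgroup SL2) ≤ Y) {v : ι → nrm Q}
    (hv : dgN Q ι v ∈ Y)
    (hne : ∀ (_ : (qIn Q).Normal) (h : ∀ x y : nrm Q ⧸ qIn Q, x * y = y * x),
      letI : CommMonoid (nrm Q ⧸ qIn Q) := { mul_comm := h }
      ∏ b, ((v b : nrm Q) : nrm Q ⧸ qIn Q) ≠ 1) :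
    ∀ c ∈ nrm Q, dg F ι (fun _ => c) ∈ Y := by
  classical
  haveI := qIn_normal Q
  haveI : Fact (Nat.Prime 2) := ⟨Nat.prime_two⟩
  haveI : Fact (Nat.Prime 3) := ⟨Nat.prime_three⟩
  have hcard : Nat.card (nrm Q ⧸ qIn Q) ∣ 3 := hidx
  haveI : IsCyclic (nrm Q ⧸ qIn Q) := by
    rcases (Nat.dvd_prime Nat.prime_three).1 hcard with h | h
    · haveI : Subsingleton (nrm Q ⧸ qIn Q) := (Nat.card_eq_one_iff_unique.1 h).1
      exact isCyclic_of_subsingleton
    · exact isCyclic_of_prime_card h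
  have hcomm : ∀ x y : nrm Q ⧸ qIn Q, x * y = y * x := fun x y =>
    (IsCyclic.commGroup).mul_comm x y
  letI : CommMonoid (nrm Q ⧸ qIn Q) := { mul_comm := hcomm }
  replace hne : ∏ b, ((v b : nrm Q) : nrm Q ⧸ qIn Q) ≠ 1 := hne inferInstance hcomm
  set π := QuotientGroup.mk' (qIn Q)
  set A : Subgroup (ι → nrm Q ⧸ qIn Q) := (Y.comap (dgN Q ι)).map (π.compLeft ι)
  have hinv : ∀ τ : (W : Subgroup (Equiv.Perm ι)), (fun a => π (v ((τ : Equiv.Perm ι) a))) ∈ A := by
    intro τ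
    refine ⟨fun a => v ((τ : Equiv.Perm ι) a), ?_, rfl⟩
    show dg F ι (fun a => (v ((τ : Equiv.Perm ι) a)).1) ∈ Y
    have h := pm_dg (F := F) (τ : Equiv.Perm ι) (fun a => (v ((τ : Equiv.Perm ι) a)).1)
    rw [show ((fun a => (v ((τ : Equiv.Perm ι) a)).1) ∘ ⇑(τ : Equiv.Perm ι).symm) =
      fun a => (v a).1 by funext a; simp] at h
    have hp : pm F ι (τ : Equiv.Perm ι) ∈ Y := hS (pm_mem_monG τ.2)
    have := Y.mul_mem hv hp
    rw [dgN_apply, ← h] at this
    exact (Y.mul_mem_cancel_left hp).1 this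
  set D : ι → nrm Q ⧸ qIn Q :=
    ∏ τ : (W : Subgroup (Equiv.Perm ι)), fun a => π (v ((τ : Equiv.Perm ι) a))
  have hDA : D ∈ A := prod_mem fun τ _ => hinv τ
  obtain ⟨a₀⟩ := ‹Nonempty ι›
  have hconst : ∀ a, D a = D a₀ := by
    intro a
    obtain ⟨ρ, hρ, rfl⟩ := htr a₀ a
    simp only [D, Finset.prod_apply]
    exact Fintype.prod_equiv (Equiv.mulRight (⟨ρ, hρ⟩ : (W : Subgroup (Equiv.Perm ι))))
      _ _ fun τ => rfl
  set p := ∏ b, ((v b : nrm Q) : nrm Q ⧸ qIn Q)
  have hD0 : D a₀ ≠ 1 := by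
    intro h
    have h1 : ∏ a, D a = 1 := Finset.prod_eq_one fun a _ => (hconst a).trans h
    have h2 : ∏ a, D a = p ^ Nat.card (W : Subgroup (Equiv.Perm ι)) := by
      simp only [D, Finset.prod_apply]
      rw [Finset.prod_comm]
      refine (Finset.prod_congr (s₁ := Finset.univ) (s₂ := Finset.univ) rfl
        (g := fun _ : (W : Subgroup (Equiv.Perm ι)) => p) fun τ _ =>
        Equiv.prod_comp (τ : Equiv.Perm ι) fun b => π (v b)).trans ?_
      rw [Finset.prod_const, Finset.card_univ, Nat.card_eq_fintype_card]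
    obtain ⟨k, hk⟩ := IsPGroup.iff_card.1 W.2
    rw [h1, hk] at h2
    refine hne (orderOf_eq_one_iff.1 (Nat.eq_one_of_dvd_coprimes
      (Nat.Coprime.pow_left k (by norm_num : Nat.Coprime 2 3))
      (orderOf_dvd_of_pow_eq_one h2.symm) ((orderOf_dvd_natCard p).trans hcard)))
  have h3 : Nat.card (nrm Q ⧸ qIn Q) = 3 := by
    rcases (Nat.dvd_prime Nat.prime_three).1 hcard with h | h
    · exact absurd ((Nat.card_eq_one_iff_unique.1 h).1.elim (D a₀) 1) hD0
    · exact h
  intro c hc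
  obtain ⟨z, hz⟩ := Subgroup.mem_zpowers_iff.1
    (mem_zpowers_of_prime_card (g' := π ⟨c, hc⟩) h3 hD0)
  obtain ⟨w, hw, hwe⟩ := A.zpow_mem hDA z
  have hwa : ∀ a, (w a).1⁻¹ * c ∈ (Q : Subgroup SL2) := fun a => by
    have : π (w a) = π ⟨c, hc⟩ := by
      rw [← hz, ← hconst a]
      exact congrFun hwe a
    exact Subgroup.mem_subgroupOf.1 (QuotientGroup.eq.1
      (show ((w a : nrm Q) : nrm Q ⧸ qIn Q) = ((⟨c, hc⟩ : nrm Q) : nrm Q ⧸ qIn Q) from this))
  have hY := Y.mul_mem (show dg F ι (fun a => (w a).1) ∈ Y from hw)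
    (hS (dg_mem_monG.2 hwa : dg F ι (fun a => (w a).1⁻¹ * c) ∈ _))
  rw [← map_mul] at hY
  convert hY using 2
  funext a
  simp

theorem monG_entry {P : Subgroup (Equiv.Perm ι)} {N : Subgroup SL2} {g : Ug F ι}
    (hg : g ∈ monG P N) {a b : ι} (h : mat g a b ≠ 0) : ∃ x ∈ N, x.1 = mat g a b := by
  obtain ⟨σ, -, v, hv, rfl⟩ := hg
  rw [pm_dg_apply] at h ⊢
  split_ifs at h ⊢ with hσ
  · exact ⟨v b, hv b, rfl⟩
  · exact absurd rfl h

theorem mulVec_mul_right {κ : Type*} (M : Matrix κ ι M2) (φ : ι → M2) (z : M2) :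
    (M *ᵥ fun b => φ b * z) = fun a => (M *ᵥ φ) a * z := by
  funext a
  simp only [Matrix.mulVec, dotProduct, Finset.sum_mul, mul_assoc]

theorem conj_one1_single {g : Ug F ι} {a b : ι} {D : SL2}
    (hcol : ∀ y, y ≠ b → col g a y = 0) (hD : D.1 = col g a b) (x : SL2) :
    g * dg F ι (one1 a x) * g⁻¹ = dg F ι (one1 b (D * x * D⁻¹)) := by
  rw [dg_one1, conj_emb, dg_one1]
  refine mat_ext (Matrix.ext fun y y' => ?_)
  rw [mat_emb, mat_emb, embM, embM, Matrix.add_apply, Matrix.add_apply, rk_apply, rk_apply]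
  congr 1
  show col g a y * (x.1 - 1) * (col g a y').adjugate = _
  by_cases hy : y = b
  · by_cases hy' : y' = b
    · rw [hy, hy', ← hD, e, Pi.single_eq_same, one_mul, Matrix.adjugate_one, mul_one,
        Matrix.SpecialLinearGroup.coe_mul, Matrix.SpecialLinearGroup.coe_mul,
        Matrix.SpecialLinearGroup.coe_inv, mul_sub, sub_mul, mul_one, sl_mul_adj]
    · rw [hcol y' hy', e, Pi.single_eq_of_ne hy']
      simp [adj_zero]
  · rw [hcol y hy, e, Pi.single_eq_of_ne hy]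
    simp

/-- All centralised coordinates have entries in the normaliser. -/
def ProjLe (Q : Sylow 2 (Matrix.SpecialLinearGroup (Fin 2) F))
    (i : Matrix.SpecialLinearGroup (Fin 2) F) (R : Subgroup (Ug F ι)) : Prop :=
  ∀ r ∈ R, ∀ a : ι, r * tv i a = tv i a * r →
    ∀ D : Matrix.SpecialLinearGroup (Fin 2) F, D.1 = mat r a a → D ∈ nrm Q

theorem projLe_or_mem (hodd : Fintype.card F % 2 = 1) (hq : IsQuat i j)
    (hi : i ∈ (Q : Subgroup SL2))
    (htr : ∀ a b : ι, ∃ σ ∈ (W : Subgroup (Equiv.Perm ι)), σ a = b) [Nonempty ι]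
    {R : Subgroup (Ug F ι)}
    (hS : monG (W : Subgroup (Equiv.Perm ι)) (Q : Subgroup SL2) ≤ R) {c : SL2} (hc : c ∈ nrm Q) :
    ProjLe Q i R ∨ dg F ι (fun _ => c) ∈ R ⊔ cj (dg F ι (fun _ => c)) R := by
  classical
  set C := dg F ι (fun _ : ι => c)
  by_cases hcQ : c ∈ (Q : Subgroup SL2)
  · exact Or.inr (le_sup_left (α := Subgroup (Ug F ι))
      (hS (dg_mem_monG.2 fun _ => hcQ)))
  rw [or_iff_not_imp_left]
  intro hproj
  rw [ProjLe] at hproj
  push Not at hproj
  obtain ⟨r, hr, a, hcm, d, hd, hdN⟩ := hproj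
  have hz := (comm_tv_iff hq.two hq.sqi r a).1 hcm
  have hcol : ∀ y, y ≠ a → col r a y = 0 := fun y hy => by rw [col_apply, (hz y hy).2]
  set Y := R ⊔ cj C R
  let ε : SL2 →* Ug F ι := (dg F ι).comp (MonoidHom.mulSingle (fun _ => SL2) a)
  have hε : ∀ x, ε x = dg F ι (one1 a x) := fun x => rfl
  have hB : ∀ x ∈ (Q : Subgroup SL2), dg F ι (one1 a x) ∈ R :=
    fun x hx => hS (dg_mem_monG.2 (one1_mem hx))
  have hdR : ∀ x ∈ (Q : Subgroup SL2), dg F ι (one1 a (d * x * d⁻¹)) ∈ R := fun x hx => by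
    rw [← conj_one1_single hcol (by rw [hd, col_apply]) x]
    exact R.mul_mem (R.mul_mem hr (hB x hx)) (R.inv_mem hr)
  obtain ⟨y, hyE, hyN, hyQ⟩ := exists_fused hodd hq.sqi Q hi (E := Y.comap ε)
    (fun x hx => le_sup_left (α := Subgroup (Ug F ι)) (hB x hx)) hc hcQ hdN
    (fun x hx => le_sup_left (α := Subgroup (Ug F ι)) (hdR x hx))
    (fun x hx => le_sup_right (α := Subgroup (Ug F ι)) (by
      refine ⟨dg F ι (one1 a (d * x * d⁻¹)), hdR x hx, ?_⟩
      show C * dg F ι (one1 a (d * x * d⁻¹)) * C⁻¹ = ε (c * (d * x * d⁻¹) * c⁻¹)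
      rw [hε, ← map_inv, ← map_mul, ← map_mul]
      congr 1
      funext b
      by_cases hb : b = a
      · subst hb; simp [one1]
      · simp [one1, Pi.mulSingle_eq_of_ne hb]))
  refine const_mem (index_qIn_dvd hodd hq.sqi Q hi) htr (Y := Y) (hS.trans le_sup_left)
    (v := Pi.mulSingle a ⟨y, hyN⟩) ?_ (fun hn hcomm => ?_) c hc
  · have : (fun b => ((Pi.mulSingle a (⟨y, hyN⟩ : nrm Q) : ι → nrm Q) b).1) = one1 a y := by
      funext b
      by_cases hb : b = a
      · subst hb; simp [one1]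
      · simp [one1, Pi.mulSingle_eq_of_ne hb]
    rw [dgN_apply, this]
    exact hyE
  · letI : CommMonoid (nrm Q ⧸ qIn Q) := { mul_comm := hcomm }
    rw [Finset.prod_eq_single a (fun b _ hb => by
      rw [Pi.mulSingle_eq_of_ne hb]; rfl) (by simp), Pi.mulSingle_eq_same]
    intro h
    exact hyQ (Subgroup.mem_subgroupOf.1 ((QuotientGroup.eq_one_iff (N := qIn Q) _).1 h))

/-- A conjugate coordinate involution monomial but not coordinate yields the diagonal element. -/
theorem mem_of_fusion (hodd : Fintype.card F % 2 = 1) (hq : IsQuat i j)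
    (hi : i ∈ (Q : Subgroup SL2)) (hj : j ∈ (Q : Subgroup SL2))
    (htr : ∀ a b : ι, ∃ σ ∈ (W : Subgroup (Equiv.Perm ι)), σ a = b) [Nonempty ι]
    {R : Subgroup (Ug F ι)}
    (hS : monG (W : Subgroup (Equiv.Perm ι)) (Q : Subgroup SL2) ≤ R)
    (hproj : ProjLe Q i R) {g : Ug F ι} (hg : g ∈ R) {a : ι}
    (hτ : g * tv i a * g⁻¹ ∈ monG (⊤ : Subgroup (Equiv.Perm ι)) (nrm Q))
    (hns : ¬ IsSingle (col g a)) : ∀ c₀ ∈ nrm Q, dg F ι (fun _ => c₀) ∈ R := by
  classical
  haveI : Fact (Nat.Prime 2) := ⟨Nat.prime_two⟩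
  set τ := g * tv i a * g⁻¹
  set φ := col g a
  have hφ : ip φ φ = 1 := ip_col' g a
  have hτm := monG_mono le_rfl le_top hτ
  obtain ⟨b, hb⟩ : ∃ b, (φ b).det ≠ 0 := by
    by_contra h
    push Not at h
    have hs := sum_det_of_ip hφ
    simp [h] at hs
  have hoff : ∀ y, y ≠ b → φ y ≠ 0 → mat τ b y ≠ 0 ∧ mat τ y b ≠ 0 := by
    intro y hy hne
    have h1 : φ b * (φ y).adjugate ≠ 0 := fun h0 => by
      have := congrArg ((φ b).adjugate * ·) h0
      simp only [← mul_assoc, adj_mul_self, Matrix.smul_mul, one_mul, mul_zero, smul_eq_zero] at this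
      exact hne (by rw [← adj_adj (φ y), this.resolve_left hb, adj_zero])
    have h2 : φ y * (φ b).adjugate ≠ 0 := fun h0 => h1 (by
      have := congrArg Matrix.adjugate h0
      rwa [adj_mul, adj_adj, adj_zero] at this)
    constructor
    · rw [conj_tv_apply hq.sqi, if_neg (Ne.symm hy), zero_sub, neg_ne_zero]
      exact smul_ne_zero hq.two h1
    · rw [conj_tv_apply hq.sqi, if_neg hy, zero_sub, neg_ne_zero]
      exact smul_ne_zero hq.two h2
  obtain ⟨c, hcb, hφc⟩ : ∃ c, c ≠ b ∧ φ c ≠ 0 := by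
    by_contra h
    push Not at h
    exact hns ⟨b, h⟩
  have hrest : ∀ y, y ≠ b → y ≠ c → φ y = 0 := fun y hyb hyc => by
    by_contra h
    exact hyc (monG_apply hτm (hoff y hyb h).1 (hoff c hcb hφc).1)
  have hbhalf : (2 : F) * (φ b).det = 1 := by
    by_contra h
    have hbb : mat τ b b ≠ 0 := by
      rw [conj_tv_apply hq.sqi, if_pos rfl, mul_adj, smul_smul]
      intro h0
      have := congrFun (congrFun h0 0) 0
      simp at this
      exact h (by linear_combination -this)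
    exact hcb (monG_apply hτm (hoff c hcb hφc).1 hbb)
  have hsum2 : (φ b).det + (φ c).det = 1 := by
    rw [← sum_det_of_ip hφ]
    exact (Finset.sum_eq_add_of_mem (f := fun y => (φ y).det) b c (Finset.mem_univ _)
      (Finset.mem_univ _) (Ne.symm hcb) fun y _ hy => by rw [hrest y hy.1 hy.2]; simp).symm
  obtain ⟨E, hEN, hE⟩ := monG_entry hτ (hoff c hcb hφc).2
  rw [conj_tv_apply hq.sqi, if_neg hcb, zero_sub] at hE
  set F0 : SL2 := E * (i * i)
  have hF0N : F0 ∈ nrm Q := mul_mem hEN (Subgroup.le_normalizer (mul_mem hi hi))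
  have hF0 : F0.1 = (2 : F) • (φ c * (φ b).adjugate) := by
    rw [Matrix.SpecialLinearGroup.coe_mul, Matrix.SpecialLinearGroup.coe_mul, hq.sqi, hE,
      mul_neg_one, neg_neg]
  set P := φ b
  have hφc' : φ c = F0.1 * P := by
    rw [hF0, Matrix.smul_mul, mul_assoc, adj_mul_self, Matrix.mul_smul, mul_one, smul_smul, hbhalf,
      one_smul]
  set h : F := (2 : F)⁻¹
  have hh : h * 2 = 1 := inv_mul_cancel₀ hq.two
  have hPd : P.det = h := (inv_eq_of_mul_eq_one_right hbhalf).symm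
  let zc : SL2 →* SL2 :=
    { toFun := fun x => ⟨(2 : F) • (P.adjugate * x.1 * P), by
        rw [Matrix.det_smul, Matrix.det_mul, Matrix.det_mul, Matrix.det_adjugate, x.2,
          Fintype.card_fin, show 2 - 1 = 1 from rfl, pow_one, mul_one]
        linear_combination ((2 : F) * P.det + 1) * hbhalf⟩
      map_one' := Subtype.ext (by
        show (2 : F) • (P.adjugate * 1 * P) = 1
        rw [mul_one, adj_mul_self, smul_smul, hbhalf, one_smul])
      map_mul' := fun x y => Subtype.ext (by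
        show (2 : F) • (P.adjugate * (x.1 * y.1) * P) =
          ((2 : F) • (P.adjugate * x.1 * P)) * ((2 : F) • (P.adjugate * y.1 * P))
        rw [Matrix.smul_mul, Matrix.mul_smul, smul_smul,
          show P.adjugate * x.1 * P * (P.adjugate * y.1 * P) =
            P.adjugate * x.1 * (P * P.adjugate) * y.1 * P by simp only [mul_assoc],
          mul_adj, Matrix.mul_smul, mul_one, Matrix.smul_mul, Matrix.smul_mul, smul_smul,
          mul_assoc (2 : F), hbhalf, mul_one, mul_assoc P.adjugate]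
        simp only [mul_assoc]) }
  have hPz : ∀ x : SL2, P * (zc x).1 = x.1 * P := fun x => by
    show P * ((2 : F) • (P.adjugate * x.1 * P)) = _
    rw [Matrix.mul_smul, ← mul_assoc, ← mul_assoc, mul_adj, Matrix.smul_mul, Matrix.smul_mul,
      one_mul, smul_smul, hbhalf, one_smul]
  have hTB : ∀ v : ι → SL2, (∀ y, v y ∈ (Q : Subgroup SL2)) → dg F ι v ∈ R :=
    fun v hv => hS (dg_mem_monG.2 hv)
  have hzQ : ∀ x ∈ (Q : Subgroup SL2), zc x ∈ (Q : Subgroup SL2) := by
    intro x hx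
    have hxc : F0 * x * F0⁻¹ ∈ (Q : Subgroup SL2) := (Subgroup.mem_normalizer_iff.1 hF0N x).1 hx
    set u := dg F ι (one1 b x * one1 c (F0 * x * F0⁻¹))
    have hu : u ∈ R := hTB _ fun y => mul_mem (one1_mem hx y) (one1_mem hxc y)
    have huφ : mat u *ᵥ φ = fun y => φ y * (zc x).1 := by
      funext y
      rw [mat_dg, Matrix.mulVec_diagonal]
      by_cases hy : y = b
      · rw [hy]
        simp [one1, Ne.symm hcb]
        exact (hPz x).symm
      · by_cases hy' : y = c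
        · rw [hy']
          simp [one1, hcb, Matrix.SpecialLinearGroup.coe_inv]
          rw [hφc', mul_assoc F0.1 P, hPz, show F0.1 * x.1 * F0.1.adjugate * (F0.1 * P) =
            F0.1 * x.1 * (F0.1.adjugate * F0.1) * P by simp only [mul_assoc], sl_adj_mul, mul_one,
            mul_assoc]
        · rw [hrest y hy hy', mul_zero, zero_mul]
    set k := g⁻¹ * u * g
    have hk : col k a = fun y => e a y * (zc x).1 := by
      rw [show k = g⁻¹ * (u * g) by simp [k, mul_assoc], col_mul, col_mul]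
      show mat g⁻¹ *ᵥ (mat u *ᵥ φ) = _
      rw [huφ, mulVec_mul_right]
      funext y
      show (mat g⁻¹ *ᵥ φ) y * _ = _
      rw [show mat g⁻¹ *ᵥ φ = e a from mat_inv_mulVec g (e a)]
    have hka : ∀ y, y ≠ a → col k a y = 0 := fun y hy => by
      rw [hk]; simp [e, hy]
    have hzN : zc x ∈ nrm Q := by
      refine hproj k (R.mul_mem (R.mul_mem (R.inv_mem hg) hu) hg) a
        (mul_inv_eq_iff_eq_mul.1 (eq_tv_of_single hq.sqi k hka)) (zc x) ?_
      rw [← col_apply, hk]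
      simp [e]
    obtain ⟨l, hl⟩ := Q.2 ⟨x, hx⟩
    exact mem_sylow_of_normalizer hzN (k := l) (by
      rw [← map_pow, show x ^ 2 ^ l = 1 from congrArg Subtype.val hl, map_one])
  -- the two elements of order four on the mixed plane
  set L : ι → M2 := fun y => if y = b then 1 else if y = c then F0.1 else 0
  have hφL : ∀ y, φ y = L y * P := by
    intro y
    by_cases hy : y = b
    · rw [hy]; simp [L, P]
    · by_cases hy' : y = c
      · rw [hy']; simp [L, hcb, hφc']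
      · simp [L, hy, hy', hrest y hy hy']
  have hemb : ∀ x ∈ (Q : Subgroup SL2), ∃ w ∈ R, mat w = psiM L (h • (x.1 - 1)) := by
    intro x hx
    refine ⟨emb φ hφ (zc x), ?_, ?_⟩
    · rw [show emb φ hφ (zc x) = g * dg F ι (one1 a (zc x)) * g⁻¹ by
        rw [dg_one1, conj_emb]; rfl]
      exact R.mul_mem (R.mul_mem hg (hTB _ (one1_mem (hzQ x hx)))) (R.inv_mem hg)
    · rw [mat_emb, embM, psiM]
      refine congrArg (1 + ·) (Matrix.ext fun y y' => ?_)
      have hP : P * ((zc x).1 - 1) * P.adjugate = h • (x.1 - 1) := by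
        rw [mul_sub, mul_one, hPz, sub_mul, mul_assoc, mul_adj, hPd, Matrix.mul_smul, mul_one,
          smul_sub]
      rw [rk_apply, rk_apply, hφL y, hφL y', adj_mul, ← hP]
      simp only [mul_assoc]
  obtain ⟨wi, hwiR, hwi⟩ := hemb i hi
  obtain ⟨wj, hwjR, hwj⟩ := hemb j hj
  obtain ⟨i1, i2, i3, i4⟩ := word_ids hq hh
  have hκ : (i.1 * j.1 - 1) + 2 = i.1 * j.1 + 1 := by
    have h2' : (2 : M2) = 1 + 1 := one_add_one_eq_two.symm
    rw [h2']; abel
  have hmat : mat (wi * dg F ι (one1 b (i * j)) * wj) = Matrix.diagonal (fun y =>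
      if y = b then h • (1 - i.1 - j.1 + i.1 * j.1)
      else if y = c then F0.1 * (h • (1 + i.1 + j.1 + i.1 * j.1)) * F0.1.adjugate else 1) := by
    rw [mat_mul, mat_mul, hwi, hwj, dg_one1, mat_emb,
      show (i * j : SL2).1 = 1 + (i.1 * j.1 - 1) by
        rw [Matrix.SpecialLinearGroup.coe_mul, add_sub_cancel],
      word_eq (L := L) (Ne.symm hcb) (by simp [L]) (fun y h1 h2 => by simp [L, h1, h2])
        (by rw [show L c = F0.1 by simp [L, hcb]]; exact sl_adj_mul F0) _ _ _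
        (by rw [hκ]; exact i1) (by rw [hκ]; exact i2)]
    congr 1
    funext y
    rw [show (1 : M2) + (i.1 * j.1 - 1) + (i.1 * j.1 - 1) * (h • (j.1 - 1)) =
      h • (1 - i.1 - j.1 + i.1 * j.1) by rw [add_sub_cancel]; exact i3, i4,
      show L c = F0.1 by simp [L, hcb]]
  set r := wi * dg F ι (one1 b (i * j)) * wj
  have hrR : r ∈ R := R.mul_mem (R.mul_mem hwiR (hTB _ (one1_mem (mul_mem hi hj)))) hwjR
  have hrd : ∀ y z, z ≠ y → mat r y z = 0 ∧ mat r z y = 0 := fun y z hyz => by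
    rw [hmat, Matrix.diagonal_apply_ne _ (Ne.symm hyz), Matrix.diagonal_apply_ne _ hyz]
    exact ⟨rfl, rfl⟩
  set Am : M2 := h • (1 - i.1 - j.1 + i.1 * j.1)
  set Dm : M2 := h • (1 + i.1 + j.1 + i.1 * j.1)
  have hAdet : Am.det = 1 := by
    have hcol := sum_det_of_ip (ip_col' r b)
    rw [Finset.sum_eq_single b (fun z _ hz => by rw [col_apply, (hrd b z hz).2]; simp) (by simp),
      col_apply, hmat, Matrix.diagonal_apply_eq, if_pos rfl] at hcol
    exact hcol
  set As : SL2 := ⟨Am, hAdet⟩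
  have hAN : As ∈ nrm Q := hproj r hrR b
    ((comm_tv_iff hq.two hq.sqi r b).2 fun z hz => hrd b z hz) As
    (by rw [hmat, Matrix.diagonal_apply_eq, if_pos rfl])
  obtain ⟨r1, r2, r3⟩ := word_rel hq hh
  have hDs : Dm = (As * i).1 := by
    rw [Matrix.SpecialLinearGroup.coe_mul, show As.1 = Dm * -i.1 from r1, mul_assoc, neg_mul,
      hq.sqi, neg_neg, mul_one]
  have hAQ : As ∉ (Q : Subgroup SL2) := by
    intro hA
    have h2 : As.1 * As.1 = As.1 - 1 := r2
    have h3 : As.1 * As.1 * As.1 = -1 := by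
      rw [h2, sub_mul, h2, one_mul]; abel
    have h6 : As ^ 6 = 1 := Subtype.ext (by
      rw [Matrix.SpecialLinearGroup.coe_pow, Matrix.SpecialLinearGroup.coe_one,
        show 6 = 3 + 3 from rfl, pow_add, pow_succ, pow_succ, pow_one, h3, neg_mul_neg, one_mul])
    obtain ⟨l, hl⟩ := Q.2 ⟨As, hA⟩
    have hord : orderOf As ∣ 2 :=
      ((Nat.Coprime.pow_left l (by norm_num : Nat.Coprime 2 3)).coprime_dvd_left
        (orderOf_dvd_of_pow_eq_one (congrArg Subtype.val hl))).dvd_of_dvd_mul_right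
          (show orderOf As ∣ 2 * 3 from orderOf_dvd_of_pow_eq_one h6)
    have h22 : As ^ 2 = 1 := orderOf_dvd_iff_pow_eq_one.1 hord
    have h22' : As.1 * As.1 = 1 := by
      rw [← Matrix.SpecialLinearGroup.coe_mul, ← sq, h22, Matrix.SpecialLinearGroup.coe_one]
    have hsc : As.1 = 1 + 1 := by
      rw [h22'] at h2
      rw [← sub_eq_iff_eq_add.1 h2.symm]
    refine r3 ?_
    show As.1 * i.1 = i.1 * As.1
    rw [hsc, add_mul, mul_add, one_mul, mul_one]
  haveI hn := qIn_normal Q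
  let v : ι → nrm Q := fun y =>
    if y = b then ⟨As, hAN⟩
    else if y = c then ⟨F0 * (As * i) * F0⁻¹,
      mul_mem (mul_mem hF0N (mul_mem hAN (Subgroup.le_normalizer hi))) (inv_mem hF0N)⟩
    else 1
  refine const_mem (index_qIn_dvd hodd hq.sqi Q hi) htr hS (v := v) ?_ (fun _ hcomm => ?_)
  · convert hrR using 1
    refine mat_ext ?_
    rw [dgN_apply, mat_dg, hmat]
    congr 1
    funext y
    by_cases hy : y = b
    · simp [v, hy, As]
    · by_cases hy' : y = c
      · rw [hy', if_neg hcb, if_pos rfl, hDs]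
        simp [v, hcb, Matrix.SpecialLinearGroup.coe_inv]
      · simp [v, hy, hy']
  · letI : CommMonoid (nrm Q ⧸ qIn Q) := { mul_comm := hcomm }
    rw [Finset.prod_eq_mul b c (Ne.symm hcb) (fun y _ hy => by
      simp [v, hy.1, hy.2]) (by simp) (by simp)]
    have e2 : ((v c : nrm Q) : nrm Q ⧸ qIn Q) = ((⟨As, hAN⟩ : nrm Q) : nrm Q ⧸ qIn Q) := by
      have : v c = (⟨F0, hF0N⟩ : nrm Q) * (⟨As, hAN⟩ * ⟨i, Subgroup.le_normalizer hi⟩) *
          (⟨F0, hF0N⟩ : nrm Q)⁻¹ := Subtype.ext (by simp [v, hcb, mul_assoc])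
      rw [this, QuotientGroup.mk_mul, hcomm, ← QuotientGroup.mk_mul, inv_mul_cancel_left]
      exact QuotientGroup.eq.2 (by
        rw [Subgroup.mem_subgroupOf]
        show (As * i)⁻¹ * As ∈ (Q : Subgroup SL2)
        rw [mul_inv_rev, mul_assoc, inv_mul_cancel, mul_one]
        exact inv_mem hi)
    rw [e2, show v b = ⟨As, hAN⟩ by simp [v]]
    intro hsq
    refine hAQ ?_
    have h1 := orderOf_dvd_of_pow_eq_one ((sq _).trans hsq)
    have h2 : orderOf ((⟨As, hAN⟩ : nrm Q) : nrm Q ⧸ qIn Q) ∣ 3 :=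
      (orderOf_dvd_natCard _).trans (index_qIn_dvd hodd hq.sqi Q hi)
    exact Subgroup.mem_subgroupOf.1 ((QuotientGroup.eq_one_iff (N := qIn Q) _).1 (orderOf_eq_one_iff.1
      (Nat.eq_one_of_dvd_coprimes (by norm_num : Nat.Coprime 2 3) h1 h2)))

/-- An overgroup of the Sylow 2-subgroup is normalised by the diagonal element, or generates it
with its conjugate. -/
theorem single_factor (hodd : Fintype.card F % 2 = 1) (hq : IsQuat i j)
    (hi : i ∈ (Q : Subgroup SL2)) (hj : j ∈ (Q : Subgroup SL2))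
    (htr : ∀ a b : ι, ∃ σ ∈ (W : Subgroup (Equiv.Perm ι)), σ a = b) [Nonempty ι]
    {R : Subgroup (Ug F ι)}
    (hS : monG (W : Subgroup (Equiv.Perm ι)) (Q : Subgroup SL2) ≤ R) {c : SL2} (hc : c ∈ nrm Q) :
    cj (dg F ι (fun _ => c)) R = R ∨
      dg F ι (fun _ => c) ∈ R ⊔ cj (dg F ι (fun _ => c)) R := by
  classical
  set C := dg F ι (fun _ : ι => c)
  rcases projLe_or_mem hodd hq hi htr hS hc with hproj | h
  swap
  · exact Or.inr h
  by_cases hfus : ∃ g ∈ R, ∃ a, g * tv i a * g⁻¹ ∈ monG (⊤ : Subgroup (Equiv.Perm ι)) (nrm Q) ∧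
      ¬ IsSingle (col g a)
  · obtain ⟨g, hg, a, hτ, hns⟩ := hfus
    exact Or.inr (le_sup_left (α := Subgroup (Ug F ι))
      (mem_of_fusion hodd hq hi hj htr hS hproj hg hτ hns c hc))
  push Not at hfus
  left
  have hR : R ≤ monTop F ι :=
    frames hq hi hj (Q := Q) ⟨fun v hv => hS (dg_mem_monG.2 hv), hfus⟩
  have hidx := index_qIn_dvd hodd hq.sqi Q hi
  haveI := qIn_normal Q
  have hcomm : ∀ x y : nrm Q, y⁻¹ * x * y * x⁻¹ ∈ qIn Q := by
    intro x y
    rw [← QuotientGroup.eq_one_iff]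
    have hc : ∀ p q : nrm Q ⧸ qIn Q, p * q = q * p := by
      intro p q
      haveI : IsCyclic (nrm Q ⧸ qIn Q) := by
        rcases (Nat.dvd_prime Nat.prime_three).1 hidx with h | h
        · haveI : Subsingleton (nrm Q ⧸ qIn Q) :=
            (Nat.card_eq_one_iff_unique.1 (show Nat.card (nrm Q ⧸ qIn Q) = 1 from h)).1
          exact isCyclic_of_subsingleton
        · haveI : Fact (Nat.Prime 3) := ⟨Nat.prime_three⟩
          exact isCyclic_of_prime_card (show Nat.card (nrm Q ⧸ qIn Q) = 3 from h)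
      exact (IsCyclic.commGroup).mul_comm p q
    rw [QuotientGroup.mk_mul, QuotientGroup.mk_mul, QuotientGroup.mk_mul, QuotientGroup.mk_inv,
      QuotientGroup.mk_inv, mul_assoc _ (x : nrm Q ⧸ qIn Q), hc (x : nrm Q ⧸ qIn Q),
      inv_mul_cancel_left, mul_inv_cancel]
  refine Subgroup.eq_of_le_of_card_ge ?_ (Subgroup.card_map_of_injective
    (MulAut.conj C).injective).ge
  rintro _ ⟨r, hr, rfl⟩
  obtain ⟨σ, -, v, -, rfl⟩ := hR hr
  have hvN : ∀ y, v y ∈ nrm Q := by
    intro y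
    obtain ⟨w, hw, hwy⟩ := htr (σ y) y
    refine hproj _ (R.mul_mem (hS (pm_mem_monG hw)) hr) y ?_ (v y) ?_
    · rw [← mul_assoc, ← map_mul]
      refine (comm_tv_iff hq.two hq.sqi _ y).2 fun z hz => ⟨?_, ?_⟩
      · rw [pm_dg_apply, if_neg]
        intro h
        exact hz ((w * σ).injective (h.trans (by rw [Equiv.Perm.mul_apply, hwy])))
      · rw [pm_dg_apply, if_neg]
        rw [Equiv.Perm.mul_apply, hwy]
        exact Ne.symm hz
    · rw [← mul_assoc, ← map_mul, pm_dg_apply, if_pos (by rw [Equiv.Perm.mul_apply, hwy])]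
  set z : ι → SL2 := fun y => (v y)⁻¹ * c * v y * c⁻¹
  have hz : ∀ y, z y ∈ (Q : Subgroup SL2) := fun y =>
    hcomm ⟨c, hc⟩ ⟨v y, hvN y⟩
  show C * (pm F ι σ * dg F ι v) * C⁻¹ ∈ R
  have : C * (pm F ι σ * dg F ι v) * C⁻¹ = pm F ι σ * dg F ι v * dg F ι z := by
    have hp := pm_dg (F := F) σ (fun _ : ι => c)
    rw [show ((fun _ : ι => c) ∘ ⇑σ.symm) = fun _ : ι => c from rfl] at hp
    rw [← mul_assoc C, ← hp]
    simp only [C, mul_assoc, ← map_mul, ← map_inv]
    congr 2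
    funext y
    simp [z, mul_assoc]
  rw [this]
  exact R.mul_mem hr (hS (dg_mem_monG.2 hz))

end Cfsg.Agent.Classical.SpPro
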