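import Mathlib

/-!
The symplectic group of dimension `2n` as the unitary group of `n × n` matrices over the ring of
`2 × 2` matrices, with the adjugate as conjugation.
-/

set_option autoImplicit false
set_option linter.unusedSectionVars false

open Matrix

namespace Cfsg.Agent.Classical.SpPro

universe u v

variable {F : Type u} [Field F] {ι : Type v} [Fintype ι] [DecidableEq ι]

local notation "M2" => Matrix (Fin 2) (Fin 2) F
local notation "SL2" => Matrix.SpecialLinearGroup (Fin 2) F

/-! ### The conjugation on `2 × 2` matrices -/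

theorem adj_add (A B : M2) : (A + B).adjugate = A.adjugate + B.adjugate := by
  rw [adjugate_fin_two, adjugate_fin_two, adjugate_fin_two]
  ext a b
  fin_cases a <;> fin_cases b <;> simp [add_comm]

theorem adj_zero : (0 : M2).adjugate = 0 := Matrix.adjugate_zero

theorem adj_adj (A : M2) : A.adjugate.adjugate = A := by
  rw [adjugate_fin_two A, adjugate_fin_two]
  ext a b
  fin_cases a <;> fin_cases b <;> simp

theorem adj_neg (A : M2) : (-A).adjugate = -A.adjugate := by
  rw [eq_neg_iff_add_eq_zero, ← adj_add, neg_add_cancel, adj_zero]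

theorem adj_sub (A B : M2) : (A - B).adjugate = A.adjugate - B.adjugate := by
  rw [sub_eq_add_neg, adj_add, adj_neg, sub_eq_add_neg]

theorem adj_mul (A B : M2) : (A * B).adjugate = B.adjugate * A.adjugate :=
  Matrix.adjugate_mul_distrib A B

theorem adj_smul (c : F) (A : M2) : (c • A).adjugate = c • A.adjugate := by
  rw [Matrix.adjugate_smul]
  simp

theorem adj_sum {α : Type*} (s : Finset α) (f : α → M2) :
    (∑ a ∈ s, f a).adjugate = ∑ a ∈ s, (f a).adjugate := by
  classical
  induction s using Finset.induction_on with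
  | empty => simpa using adj_zero
  | insert a s ha ih => rw [Finset.sum_insert ha, Finset.sum_insert ha, adj_add, ih]

theorem mul_adj (A : M2) : A * A.adjugate = A.det • (1 : M2) := Matrix.mul_adjugate A
theorem adj_mul_self (A : M2) : A.adjugate * A = A.det • (1 : M2) := Matrix.adjugate_mul A

theorem sl_adj_mul (x : SL2) : x.1.adjugate * x.1 = 1 := by rw [adj_mul_self, x.2, one_smul]
theorem sl_mul_adj (x : SL2) : x.1 * x.1.adjugate = 1 := by rw [mul_adj, x.2, one_smul]

/-! ### Conjugate transpose -/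

/-- The conjugate transpose. -/
def cs {α β : Type*} (g : Matrix α β M2) : Matrix β α M2 :=
  Matrix.of fun a b => (g b a).adjugate

theorem cs_apply {α β : Type*} (g : Matrix α β M2) (a : β) (b : α) :
    cs g a b = (g b a).adjugate := rfl

theorem cs_cs {α β : Type*} (g : Matrix α β M2) : cs (cs g) = g := by
  refine Matrix.ext fun a b => ?_
  exact adj_adj _

theorem cs_mul {α β γ : Type*} [Fintype β] (g : Matrix α β M2) (h : Matrix β γ M2) :
    cs (g * h) = cs h * cs g := by
  refine Matrix.ext fun a b => ?_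
  simp only [cs_apply, Matrix.mul_apply, adj_sum, adj_mul]

theorem cs_one {α : Type*} [DecidableEq α] : cs (1 : Matrix α α M2) = 1 := by
  refine Matrix.ext fun a b => ?_
  rw [cs_apply, Matrix.one_apply, Matrix.one_apply]
  by_cases h : b = a
  · rw [if_pos h, if_pos h.symm, Matrix.adjugate_one]
  · rw [if_neg h, if_neg (Ne.symm h), adj_zero]

theorem cs_add {α β : Type*} (g h : Matrix α β M2) : cs (g + h) = cs g + cs h := by
  refine Matrix.ext fun a b => ?_
  exact adj_add _ _

theorem cs_sub {α β : Type*} (g h : Matrix α β M2) : cs (g - h) = cs g - cs h := by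
  refine Matrix.ext fun a b => ?_
  exact adj_sub _ _

/-! ### The group -/

variable (F ι) in
/-- The unitary group. -/
def Ug : Subgroup (Matrix ι ι M2)ˣ where
  carrier := {g | cs (g : Matrix ι ι M2) * (g : Matrix ι ι M2) = 1}
  one_mem' := by simp [cs_one]
  mul_mem' {g h} hg hh := by
    show cs ((g : Matrix ι ι M2) * (h : Matrix ι ι M2)) * ((g : Matrix ι ι M2) * (h : Matrix ι ι M2)) = 1
    rw [cs_mul, mul_assoc, ← mul_assoc (cs (g : Matrix ι ι M2)),
      show cs (g : Matrix ι ι M2) * g = 1 from hg, one_mul]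
    exact hh
  inv_mem' {g} hg := by
    show cs (↑g⁻¹ : Matrix ι ι M2) * (↑g⁻¹ : Matrix ι ι M2) = 1
    rw [show (↑g⁻¹ : Matrix ι ι M2) = cs (g : Matrix ι ι M2) from
      Units.inv_eq_of_mul_eq_one_left hg, cs_cs]
    rw [← Units.inv_eq_of_mul_eq_one_left hg]
    exact Units.mul_inv g

/-- The matrix of a group element. -/
def mat (g : Ug F ι) : Matrix ι ι M2 := g.1.1

theorem mat_one : mat (1 : Ug F ι) = 1 := rfl
theorem mat_mul (g h : Ug F ι) : mat (g * h) = mat g * mat h := rfl

theorem mat_ext {g h : Ug F ι} (e : mat g = mat h) : g = h := Subtype.ext (Units.ext e)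

theorem cs_mat_mul (g : Ug F ι) : cs (mat g) * mat g = 1 := g.2

theorem mat_inv (g : Ug F ι) : mat g⁻¹ = cs (mat g) :=
  Units.inv_eq_of_mul_eq_one_left g.2

theorem mat_mul_cs (g : Ug F ι) : mat g * cs (mat g) = 1 := by
  rw [← mat_inv, ← mat_mul, mul_inv_cancel, mat_one]

instance [Fintype F] : Finite (Ug F ι) := inferInstance

/-- Monoid homomorphism into the group from one into matrices. -/
def lift {G : Type*} [Group G] (f : G →* Matrix ι ι M2) (hf : ∀ x, cs (f x) = f x⁻¹) :
    G →* Ug F ι :=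
  (f.toHomUnits).codRestrict (Ug F ι) fun x => by
    show cs (f x) * f x = 1
    rw [hf, ← map_mul, inv_mul_cancel, map_one]

theorem mat_lift {G : Type*} [Group G] (f : G →* Matrix ι ι M2) (hf) (x : G) :
    mat (lift f hf x) = f x := rfl

/-! ### Vectors -/

/-- The inner product. -/
def ip (φ ψ : ι → M2) : M2 := ∑ b, (φ b).adjugate * ψ b

/-- The rank-one matrix. -/
def rk {α β : Type*} (φ : α → M2) (ψ : β → M2) : Matrix α β M2 :=
  Matrix.of fun b c => φ b * (ψ c).adjugate

theorem rk_apply {α β : Type*} (φ : α → M2) (ψ : β → M2) (b : α) (c : β) :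
    rk φ ψ b c = φ b * (ψ c).adjugate := rfl

theorem rk_mul {α γ : Type*} (φ : α → M2) (ψ φ' : ι → M2) (ψ' : γ → M2) :
    rk φ ψ * rk φ' ψ' = rk (fun b => φ b * ip ψ φ') ψ' := by
  refine Matrix.ext fun a c => ?_
  simp only [Matrix.mul_apply, rk_apply, ip, Finset.mul_sum, Finset.sum_mul, mul_assoc]

theorem rk_mulVec {α : Type*} (φ : α → M2) (ψ χ : ι → M2) :
    rk φ ψ *ᵥ χ = fun b => φ b * ip ψ χ := by
  funext a
  simp only [Matrix.mulVec, dotProduct, rk_apply, ip, Finset.mul_sum, mul_assoc]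

theorem mul_rk {α β : Type*} (g : Matrix α ι M2) (φ : ι → M2) (ψ : β → M2) :
    g * rk φ ψ = rk (g *ᵥ φ) ψ := by
  refine Matrix.ext fun a c => ?_
  simp only [Matrix.mul_apply, Matrix.mulVec, dotProduct, rk_apply, Finset.sum_mul, mul_assoc]

theorem rk_mul_cs {α γ : Type*} (φ : α → M2) (ψ : ι → M2) (g : Matrix γ ι M2) :
    rk φ ψ * cs g = rk φ (g *ᵥ ψ) := by
  refine Matrix.ext fun a c => ?_
  simp only [Matrix.mul_apply, Matrix.mulVec, dotProduct, rk_apply, cs_apply, adj_sum, adj_mul,
    Finset.mul_sum, mul_assoc]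

theorem cs_rk {α β : Type*} (φ : α → M2) (ψ : β → M2) : cs (rk φ ψ) = rk ψ φ := by
  refine Matrix.ext fun a c => ?_
  rw [cs_apply, rk_apply, rk_apply, adj_mul, adj_adj]

theorem ip_mulVec {α : Type*} [Fintype α] (g : Matrix α ι M2) (φ : ι → M2) (ψ : α → M2) :
    ip (g *ᵥ φ) ψ = ip φ (cs g *ᵥ ψ) := by
  simp only [ip, Matrix.mulVec, dotProduct, cs_apply, adj_sum, adj_mul, Finset.sum_mul,
    Finset.mul_sum, mul_assoc]
  exact Finset.sum_comm

theorem ip_act (g : Ug F ι) (φ ψ : ι → M2) : ip (mat g *ᵥ φ) (mat g *ᵥ ψ) = ip φ ψ := by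
  rw [ip_mulVec, Matrix.mulVec_mulVec, cs_mat_mul, Matrix.one_mulVec]

theorem adj_ip (φ ψ : ι → M2) : (ip φ ψ).adjugate = ip ψ φ := by
  simp only [ip, adj_sum, adj_mul, adj_adj]

theorem ip_self (φ : ι → M2) : ip φ φ = (∑ b, (φ b).det) • (1 : M2) := by
  rw [ip, Finset.sum_smul]
  exact Finset.sum_congr rfl fun b _ => adj_mul_self (φ b)

theorem sum_det_of_ip {φ : ι → M2} (h : ip φ φ = 1) : ∑ b, (φ b).det = 1 := by
  rw [ip_self] at h
  have := congrFun (congrFun h 0) 0
  simpa using this

/-- The standard vector. -/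
def e (a : ι) : ι → M2 := Pi.single a 1

theorem ip_e_left (a : ι) (φ : ι → M2) : ip (e a) φ = φ a := by
  rw [ip, Finset.sum_eq_single a]
  · simp [e, Matrix.adjugate_one]
  · intro b _ hb
    rw [e, Pi.single_eq_of_ne hb, adj_zero, zero_mul]
  · simp

theorem ip_e (a : ι) : ip (e a : ι → M2) (e a) = 1 := by
  rw [ip_e_left]
  simp [e]

theorem mulVec_e (g : Matrix ι ι M2) (a b : ι) : (g *ᵥ e a) b = g b a := by
  simp [Matrix.mulVec, dotProduct, e, Pi.single_apply]

theorem ip_col (g : Ug F ι) (a : ι) : ip (mat g *ᵥ e a) (mat g *ᵥ e a) = 1 := by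
  rw [ip_act, ip_e]

/-- The matrix of the embedding of `SL₂` on a plane. -/
def embM (φ : ι → M2) (x : M2) : Matrix ι ι M2 := 1 + rk (fun b => φ b * (x - 1)) φ

theorem embM_one (φ : ι → M2) : embM φ 1 = 1 := by
  rw [embM, sub_self]
  have : rk (fun b => φ b * (0 : M2)) φ = 0 := by
    refine Matrix.ext fun a c => ?_
    simp [rk_apply]
  rw [this, add_zero]

theorem embM_mul {φ : ι → M2} (hφ : ip φ φ = 1) (x y : M2) :
    embM φ x * embM φ y = embM φ (x * y) := by
  have hip : ip φ (fun b => φ b * (y - 1)) = y - 1 := by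
    rw [show ip φ (fun b => φ b * (y - 1)) = ip φ φ * (y - 1) by
      simp only [ip, Finset.sum_mul, mul_assoc], hφ, one_mul]
  rw [embM, embM, embM, add_mul, mul_add, mul_add, rk_mul, hip, one_mul, mul_one, one_mul]
  refine Matrix.ext fun a c => ?_
  simp only [Matrix.add_apply, rk_apply, mul_assoc, ← add_assoc]
  have hxy : x * y - 1 = (x - 1) + (y - 1) + (x - 1) * (y - 1) := by noncomm_ring
  rw [hxy]
  noncomm_ring

theorem cs_embM (φ : ι → M2) (x : M2) : cs (embM φ x) = embM φ x.adjugate := by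
  rw [embM, cs_add, cs_one, cs_rk, embM]
  congr 1
  refine Matrix.ext fun a c => ?_
  rw [rk_apply, rk_apply, adj_mul, adj_sub, Matrix.adjugate_one, mul_assoc]

/-- `SL₂` acting on a plane. -/
def emb (φ : ι → M2) (hφ : ip φ φ = 1) : SL2 →* Ug F ι :=
  lift
    { toFun := fun x => embM φ x.1
      map_one' := embM_one φ
      map_mul' := fun x y => (embM_mul hφ x.1 y.1).symm }
    fun x => by
      show cs (embM φ x.1) = embM φ (x⁻¹).1
      rw [cs_embM, Matrix.SpecialLinearGroup.coe_inv]

theorem mat_emb (φ : ι → M2) (hφ : ip φ φ = 1) (x : SL2) : mat (emb φ hφ x) = embM φ x.1 := rfl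

theorem conj_embM (g : Ug F ι) (φ : ι → M2) (x : M2) :
    mat g * embM φ x * cs (mat g) = embM (mat g *ᵥ φ) x := by
  rw [embM, mul_add, add_mul, mul_one, mat_mul_cs, mul_rk, rk_mul_cs, embM]
  congr 2
  funext b
  simp only [Matrix.mulVec, dotProduct, Finset.sum_mul, mul_assoc]

theorem conj_emb (g : Ug F ι) (φ : ι → M2) (hφ : ip φ φ = 1) (x : SL2) :
    g * emb φ hφ x * g⁻¹ = emb (mat g *ᵥ φ) (by rw [ip_act, hφ]) x :=
  mat_ext (by rw [mat_mul, mat_mul, mat_inv, mat_emb, mat_emb, conj_embM])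

theorem embM_mulVec (φ : ι → M2) (x : M2) (χ : ι → M2) :
    embM φ x *ᵥ χ = fun b => χ b + φ b * (x - 1) * ip φ χ := by
  rw [embM, Matrix.add_mulVec, Matrix.one_mulVec, rk_mulVec]
  rfl

variable (F ι) in
/-- Diagonal elements. -/
def dg : (ι → SL2) →* Ug F ι :=
  lift
    { toFun := fun v => Matrix.diagonal fun a => (v a).1
      map_one' := by simp
      map_mul' := fun v w => by rw [Matrix.diagonal_mul_diagonal]; rfl }
    fun v => by
      show cs (Matrix.diagonal fun a => (v a).1) = Matrix.diagonal fun a => ((v⁻¹) a).1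
      refine Matrix.ext fun a b => ?_
      rw [cs_apply]
      by_cases h : b = a
      · subst h
        simp [Matrix.SpecialLinearGroup.coe_inv]
      · rw [Matrix.diagonal_apply_ne _ h, Matrix.diagonal_apply_ne _ (Ne.symm h), adj_zero]

theorem mat_dg (v : ι → SL2) : mat (dg F ι v) = Matrix.diagonal fun a => (v a).1 := rfl

theorem dg_injective : Function.Injective (dg F ι) := fun v w h => by
  funext a
  refine Subtype.ext ?_
  have := congrFun (congrFun (congrArg mat h) a) a
  simpa [mat_dg] using this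

/-- Permutation matrices. -/
def pmM (σ : Equiv.Perm ι) : Matrix ι ι M2 := Matrix.of fun a b => if σ b = a then 1 else 0

theorem pmM_apply (σ : Equiv.Perm ι) (a b : ι) :
    (pmM σ : Matrix ι ι M2) a b = if σ b = a then 1 else 0 := rfl

variable (F ι) in
/-- Permutation elements. -/
def pm : Equiv.Perm ι →* Ug F ι :=
  lift
    { toFun := pmM
      map_one' := by
        refine Matrix.ext fun a b => ?_
        simp [pmM_apply, Matrix.one_apply, eq_comm]
      map_mul' := fun σ τ => by
        refine Matrix.ext fun a b => ?_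
        simp only [Matrix.mul_apply, pmM_apply, mul_ite, mul_one, mul_zero, Equiv.Perm.mul_apply]
        rw [Finset.sum_ite_eq]
        simp only [Finset.mem_univ, if_true]
        congr }
    fun σ => by
      show cs (pmM σ) = pmM σ⁻¹
      refine Matrix.ext fun a b => ?_
      rw [cs_apply, pmM_apply, pmM_apply]
      by_cases h : σ a = b
      · rw [if_pos h, if_pos (by rw [← h]; simp), Matrix.adjugate_one]
      · rw [if_neg h, if_neg (fun h' => h (by rw [← h']; simp)), adj_zero]

theorem mat_pm (σ : Equiv.Perm ι) : mat (pm F ι σ) = pmM σ := rfl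

theorem pm_dg (σ : Equiv.Perm ι) (v : ι → SL2) :
    pm F ι σ * dg F ι v = dg F ι (v ∘ σ.symm) * pm F ι σ := by
  refine mat_ext ?_
  rw [mat_mul, mat_mul, mat_pm, mat_dg, mat_dg]
  refine Matrix.ext fun a b => ?_
  rw [Matrix.mul_diagonal, Matrix.diagonal_mul, pmM_apply, Function.comp_apply]
  by_cases h : σ b = a
  · subst h; simp
  · simp [h]

theorem pm_dg_apply (σ : Equiv.Perm ι) (v : ι → SL2) (a b : ι) :
    mat (pm F ι σ * dg F ι v) a b = if σ b = a then (v b).1 else 0 := by
  rw [mat_mul, mat_pm, mat_dg, Matrix.mul_diagonal, pmM_apply]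
  split_ifs <;> simp

end Cfsg.Agent.Classical.SpPro
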