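import Mathlib
import Cfsg.Prelude.Def_Classical
import Cfsg.Agent.Lib.Classical.UnitaryForm
import Cfsg.Agent.Lib.Classical.Pronormal.Linear

/-!
Sylow 2-subgroups of `SU_n(q)`, `n ≥ 4` a power of two and `q` odd, are self-normalising. The
Hermitian form is taken with the coordinates matched by an involution `ρ`.
-/

set_option autoImplicit false

open scoped MatrixGroups

namespace Cfsg.Agent.Classical.OddPronormal

open Matrix Cfsg.Agent.Classical

variable {n : ℕ} {F : Type*} [Field F]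

/-- The form pairing the coordinate `i` with the coordinate `ρ i`. -/
def hform (φ : F ≃+* F) (ρ : Equiv.Perm (Fin n)) (u v : Fin n → F) : F :=
  ∑ i, u i * φ (v (ρ i))

/-- Its linear isometries. -/
def hIso (φ : F ≃+* F) (ρ : Equiv.Perm (Fin n)) :
    Subgroup ((Fin n → F) ≃ₗ[F] (Fin n → F)) where
  carrier := {g | ∀ u v, hform φ ρ (g u) (g v) = hform φ ρ u v}
  one_mem' := fun _ _ => rfl
  mul_mem' := fun {a b} ha hb u v => (ha (b u) (b v)).trans (hb u v)
  inv_mem' := fun {a} ha u v => by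
    conv_rhs => rw [← a.apply_symm_apply u, ← a.apply_symm_apply v]
    exact (ha _ _).symm

/-- The scalar vectors of isometries. -/
def hScal (φ : F ≃+* F) (ρ : Equiv.Perm (Fin n)) : Subgroup (Fin n → Fˣ) where
  carrier := {c | ∀ i, (c i : F) * φ (c (ρ i)) = 1}
  one_mem' := fun i => by simp
  mul_mem' := fun {a b} ha hb i => by
    rw [Pi.mul_apply, Pi.mul_apply, Units.val_mul, Units.val_mul, map_mul]
    linear_combination ((b i : F) * φ (b (ρ i))) * ha i + hb i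
  inv_mem' := fun {a} ha i => by
    simp [map_inv₀, ← mul_inv, ha i]

theorem hform_single_left (φ : F ≃+* F) (ρ : Equiv.Perm (Fin n)) (i : Fin n) (a : F)
    (v : Fin n → F) : hform φ ρ (Pi.single i a) v = a * φ (v (ρ i)) := by
  rw [hform, Finset.sum_eq_single i (fun k _ hk => by simp [hk]) (by simp), Pi.single_eq_same]

theorem eq_zero_of_hform (φ : F ≃+* F) (ρ : Equiv.Perm (Fin n)) {v : Fin n → F}
    (h : ∀ u, hform φ ρ u v = 0) : v = 0 := by
  funext j
  obtain ⟨i, rfl⟩ := ρ.surjective j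
  have := h (Pi.single i 1)
  rw [hform_single_left, one_mul] at this
  exact (map_eq_zero φ).1 this

theorem alg_trivial (e : Fin n → F ≃ₐ[F] F) (j : Fin n) (x : F) : e j x = x := by
  rw [show x = algebraMap F F x from rfl, (e j).commutes]

theorem mon_mem_hIso_iff (φ : F ≃+* F) (ρ : Equiv.Perm (Fin n)) (c : Fin n → Fˣ)
    (e : Fin n → F ≃ₐ[F] F) (π : Equiv.Perm (Fin n)) (hπ : ∀ i, π (ρ i) = ρ (π i)) :
    mon F F n c e π ∈ hIso φ ρ ↔ c ∈ hScal φ ρ := by
  have key : ∀ u v, hform φ ρ (mon F F n c e π u) (mon F F n c e π v) =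
      ∑ i, ((c (π i) : F) * φ (c (ρ (π i)))) * (u i * φ (v (ρ i))) := by
    intro u v
    rw [hform, ← Equiv.sum_comp π]
    refine Finset.sum_congr rfl fun i _ => ?_
    rw [mon_apply, mon_apply, alg_trivial, alg_trivial, Equiv.symm_apply_apply, ← hπ,
      Equiv.symm_apply_apply, map_mul]
    ring
  constructor
  · intro h i
    obtain ⟨k, rfl⟩ := π.surjective i
    have h1 := h (Pi.single k 1) (Pi.single (ρ k) 1)
    rw [key, hform_single_left, Finset.sum_eq_single k (fun b _ hb => by simp [hb]) (by simp)] at h1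
    simpa using h1
  · intro h u v
    rw [key]
    exact Finset.sum_congr rfl fun i _ => by rw [h (π i), one_mul]

variable [Fintype F] {q : ℕ} {φ : F ≃+* F}

theorem exists_neg_one_norm (hφ : IsUSigma q φ) : ∃ t : F, t ≠ 0 ∧ t * φ t = -1 :=
  hφ.norm_surjective (neg_ne_zero.2 one_ne_zero) (by rw [map_neg, map_one])

theorem exists_trace_neg_one (hφ : IsUSigma q φ) : ∃ a : F, a + φ a = -1 := by
  obtain ⟨z, hz⟩ : ∃ z, z + φ z ≠ 0 := by
    by_contra h
    push Not at h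
    have h1 : (2 : F) = 0 := by have := h 1; rwa [map_one, one_add_one_eq_two] at this
    refine hφ.ne_refl (RingEquiv.ext fun x => ?_)
    show φ x = x
    linear_combination h x - x * h1
  refine ⟨-z / (z + φ z), ?_⟩
  rw [map_div₀, map_neg, map_add, hφ.involutive, add_comm (φ z) z, ← add_div,
    show -z + -φ z = -(z + φ z) by ring, neg_div, div_self hz]

/-- The standard form and a fixed-point-free matched form are isometric. -/
theorem exists_basis_change (hφ : IsUSigma q φ) {ρ : Equiv.Perm (Fin n)}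
    (h2 : ∀ i, ρ (ρ i) = i) (hne : ∀ i, ρ i ≠ i) :
    ∃ P : (Fin n → F) ≃ₗ[F] (Fin n → F),
      ∀ u v, Cfsg.hermForm n F q (P u) (P v) = hform φ ρ u v := by
  classical
  obtain ⟨t, -, ht⟩ := exists_neg_one_norm hφ
  obtain ⟨a, ha⟩ := exists_trace_neg_one hφ
  have hsplit : ∀ f : Fin n → F,
      ∑ k, f k = ∑ k ∈ Finset.univ.filter (fun k => k < ρ k), (f k + f (ρ k)) := by
    intro f
    rw [Finset.sum_add_distrib,
      ← Finset.sum_filter_add_sum_filter_not Finset.univ (fun k => k < ρ k)]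
    congr 1
    refine Finset.sum_equiv ρ (fun k => ?_) (fun k _ => by rw [h2])
    simp only [Finset.mem_filter, Finset.mem_univ, true_and, h2]
    exact ⟨fun h => lt_of_le_of_ne (not_lt.1 h) (hne k), fun h => not_lt.2 h.le⟩
  let L : (Fin n → F) →ₗ[F] (Fin n → F) :=
    { toFun := fun v k => if k < ρ k then v k + (1 + a) * v (ρ k) else t * v (ρ k) + a * t * v k
      map_add' := fun u v => funext fun k => by
        simp only [Pi.add_apply]; split_ifs <;> ring
      map_smul' := fun c v => funext fun k => by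
        simp only [Pi.smul_apply, smul_eq_mul, RingHom.id_apply]; split_ifs <;> ring }
  have hB : ∀ u v, Cfsg.hermForm n F q (L u) (L v) = hform φ ρ u v := by
    intro u v
    rw [hφ.hermForm_eq, hform, hsplit, hsplit (fun i => u i * φ (v (ρ i)))]
    refine Finset.sum_congr rfl fun k hk => ?_
    rw [Finset.mem_filter] at hk
    have hk' : ¬ ρ k < ρ (ρ k) := by rw [h2]; exact not_lt.2 hk.2.le
    show (if k < ρ k then u k + (1 + a) * u (ρ k) else t * u (ρ k) + a * t * u k) *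
        φ (if k < ρ k then v k + (1 + a) * v (ρ k) else t * v (ρ k) + a * t * v k) +
      (if ρ k < ρ (ρ k) then u (ρ k) + (1 + a) * u (ρ (ρ k))
          else t * u (ρ (ρ k)) + a * t * u (ρ k)) *
        φ (if ρ k < ρ (ρ k) then v (ρ k) + (1 + a) * v (ρ (ρ k))
          else t * v (ρ (ρ k)) + a * t * v (ρ k)) = _
    rw [if_pos hk.2, if_pos hk.2, if_neg hk', if_neg hk', h2]
    simp only [map_add, map_mul, map_one]
    linear_combination (u k + a * u (ρ k)) * (φ (v k) + φ a * φ (v (ρ k))) * ht +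
      u (ρ k) * φ (v (ρ k)) * ha
  have hinj : Function.Injective L := (injective_iff_map_eq_zero _).2 fun v hv =>
    eq_zero_of_hform φ ρ fun u => by
      rw [← hB, hv, hφ.hermForm_eq]
      simp
  exact ⟨LinearEquiv.ofInjectiveEndo L hinj, hB⟩

/-- The special isometry group of the matched form, in matrices. -/
def hSU (φ : F ≃+* F) (ρ : Equiv.Perm (Fin n)) : Subgroup SL(n, F) :=
  Cfsg.preserving (Cfsg.slToMat n F) (hform φ ρ)

omit [Fintype F] in
theorem mem_hSU {ρ : Equiv.Perm (Fin n)} {A : SL(n, F)} :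
    A ∈ hSU φ ρ ↔ ∀ u v, hform φ ρ (A.1 *ᵥ u) (A.1 *ᵥ v) = hform φ ρ u v := Iff.rfl

theorem exists_hSU_surjective (hφ : IsUSigma q φ) {ρ : Equiv.Perm (Fin n)}
    (h2 : ∀ i, ρ (ρ i) = i) (hne : ∀ i, ρ i ≠ i) :
    ∃ f : ↥(hSU φ ρ) →* ↥(Cfsg.SU n F q), Function.Surjective f := by
  classical
  obtain ⟨P, hP⟩ := exists_basis_change hφ h2 hne
  have e1 : LinearMap.toMatrix' (P : (Fin n → F) →ₗ[F] (Fin n → F)) *
      LinearMap.toMatrix' (P.symm : (Fin n → F) →ₗ[F] (Fin n → F)) = 1 := by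
    rw [← LinearMap.toMatrix'_comp, LinearEquiv.comp_symm, LinearMap.toMatrix'_id]
  have e2 : LinearMap.toMatrix' (P.symm : (Fin n → F) →ₗ[F] (Fin n → F)) *
      LinearMap.toMatrix' (P : (Fin n → F) →ₗ[F] (Fin n → F)) = 1 := by
    rw [← LinearMap.toMatrix'_comp, LinearEquiv.symm_comp, LinearMap.toMatrix'_id]
  obtain ⟨p, hp⟩ : ∃ p : (Matrix (Fin n) (Fin n) F)ˣ, ∀ u,
      (p : Matrix (Fin n) (Fin n) F) *ᵥ u = P u :=
    ⟨⟨_, _, e1, e2⟩, fun u => LinearMap.toMatrix'_mulVec _ u⟩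
  have hp' : ∀ u, (p⁻¹ : (Matrix (Fin n) (Fin n) F)ˣ).1 *ᵥ (P u) = u := by
    intro u
    rw [← hp, Matrix.mulVec_mulVec, ← Units.val_mul, inv_mul_cancel, Units.val_one,
      Matrix.one_mulVec]
  let f : ↥(hSU φ ρ) →* SL(n, F) :=
    { toFun := fun A => ⟨p.1 * A.1.1 * (p⁻¹).1, by rw [Matrix.det_units_conj, A.1.2]⟩
      map_one' := Subtype.ext (by simp)
      map_mul' := fun A B => Subtype.ext (by
        show p.1 * (A.1.1 * B.1.1) * (p⁻¹).1 =
          p.1 * A.1.1 * (p⁻¹).1 * (p.1 * B.1.1 * (p⁻¹).1)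
        simp [Matrix.mul_assoc]) }
  have hf : ∀ A, f A ∈ Cfsg.SU n F q := by
    intro A u v
    obtain ⟨u, rfl⟩ := P.surjective u
    obtain ⟨v, rfl⟩ := P.surjective v
    show Cfsg.hermForm n F q ((p.1 * A.1.1 * (p⁻¹).1) *ᵥ P u) ((p.1 * A.1.1 * (p⁻¹).1) *ᵥ P v) = _
    rw [← Matrix.mulVec_mulVec, ← Matrix.mulVec_mulVec, hp', hp, ← Matrix.mulVec_mulVec,
      ← Matrix.mulVec_mulVec, hp', hp, hP, hP]
    exact mem_hSU.1 A.2 u v
  refine ⟨f.codRestrict _ hf, fun B => ?_⟩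
  have hA : (⟨(p⁻¹).1 * B.1.1 * p.1, by
      rw [Matrix.det_units_conj', B.1.2]⟩ : SL(n, F)) ∈ hSU φ ρ := by
    refine mem_hSU.2 fun u v => ?_
    show hform φ ρ (((p⁻¹).1 * B.1.1 * p.1) *ᵥ u) (((p⁻¹).1 * B.1.1 * p.1) *ᵥ v) = _
    rw [← hP, ← hP, ← hp, ← hp, ← hp, ← hp]
    simp only [Matrix.mulVec_mulVec]
    simp only [← Matrix.mul_assoc, ← Units.val_mul, mul_inv_cancel, Units.val_one, Matrix.one_mul]
    rw [← Matrix.mulVec_mulVec, ← Matrix.mulVec_mulVec]
    exact B.2 _ _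
  exact ⟨⟨_, hA⟩, Subtype.ext (Subtype.ext (by
    show p.1 * ((p⁻¹).1 * B.1.1 * p.1) * (p⁻¹).1 = B.1.1
    simp [← Matrix.mul_assoc]))⟩

/-- Transfer of a shape to the matrix group. -/
theorem exists_sylow_hSU {ρ : Equiv.Perm (Fin n)} {Q : Subgroup (Equiv.Perm (Fin n))}
    (h : Shape (hIso φ ρ) (hScal φ ρ) Q) :
    ∃ T : Sylow 2 ↥(hSU φ ρ), ∀ g : ↥(hSU φ ρ),
      (∀ x ∈ (T : Subgroup ↥(hSU φ ρ)), g * x * g⁻¹ ∈ (T : Subgroup ↥(hSU φ ρ))) →
        g ∈ (T : Subgroup ↥(hSU φ ρ)) := by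
  classical
  let ψ : ↥(hSU φ ρ) →* ((Fin n → F) ≃ₗ[F] (Fin n → F)) :=
    { toFun := fun A => Matrix.SpecialLinearGroup.toLin' A.1
      map_one' := by simp
      map_mul' := fun A B => by simp }
  have hψ : Function.Injective ψ := fun A B hAB =>
    Subtype.ext (Matrix.SpecialLinearGroup.toLin'_injective hAB)
  have hdet : ∀ A, LinearEquiv.det (ψ A) = 1 := by
    intro A
    apply Units.ext
    show ((LinearEquiv.det (Matrix.SpecialLinearGroup.toLin' A.1) : Fˣ) : F) = 1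
    rw [LinearEquiv.coe_det, Matrix.SpecialLinearGroup.toLin'_to_linearMap,
      LinearMap.det_toLin', A.1.2]
  have hsurj : ∀ g ∈ hIso φ ρ, LinearEquiv.det g = 1 → ∃ A, ψ A = g := by
    intro g hgi hg
    have hM : (LinearMap.toMatrix' (g : (Fin n → F) →ₗ[F] (Fin n → F))).det = 1 := by
      rw [LinearMap.det_toMatrix', ← LinearEquiv.coe_det, hg, Units.val_one]
    refine ⟨⟨⟨_, hM⟩, mem_hSU.2 fun u v => ?_⟩, LinearEquiv.ext fun x => ?_⟩
    · rw [LinearMap.toMatrix'_mulVec, LinearMap.toMatrix'_mulVec]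
      exact hgi u v
    · exact LinearMap.toMatrix'_mulVec _ x
  have hsyl : ∀ g : ↥(hSU φ ρ), (∀ x ∈ h.syl.comap ψ, g * x * g⁻¹ ∈ h.syl.comap ψ) →
      g ∈ h.syl.comap ψ := by
    intro g hg
    refine h.self_normalizing ?_ (hdet g) fun x hx => ?_
    · intro u v
      exact mem_hSU.1 g.2 u v
    · obtain ⟨A, rfl⟩ := hsurj x (h.syl_le hx) hx.1
      simpa using hg A hx
  obtain ⟨T, hT⟩ := exists_sylow_of_self_normalizing (h.syl.comap ψ)
    (h.isPGroup_syl.comap_of_injective ψ hψ) hsyl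
  exact ⟨T, fun g hg => hT ▸ hsyl g (hT ▸ hg)⟩

omit [Fintype F] in
theorem det_mon_perm (σ : Equiv.Perm (Fin n)) :
    ((LinearEquiv.det (mon F F n 1 1 σ) : Fˣ) : F) = ((Equiv.Perm.sign σ : ℤ) : F) := by
  classical
  have h1 : LinearMap.toMatrix' (mon F F n 1 1 σ : (Fin n → F) →ₗ[F] (Fin n → F)) =
      σ⁻¹.permMatrix F := by
    ext i j
    rw [LinearMap.toMatrix'_apply]
    simp [Equiv.Perm.permMatrix, PEquiv.toMatrix_apply, Pi.single_apply, Equiv.Perm.inv_def]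
  rw [LinearEquiv.coe_det, ← LinearMap.det_toMatrix', h1, Matrix.det_permutation,
    Equiv.Perm.sign_inv]

omit [Fintype F] in
theorem det_dg_apply [Finite F] (c : Fin n → Fˣ) :
    ((LinearEquiv.det (dg F c) : Fˣ) : F) = ∏ j, (c j : F) := by
  rw [det_dg]
  simp

variable (hφ : IsUSigma q φ)
include hφ

theorem sigma_units (x : Fˣ) : φ (x : F) = ((x ^ q : Fˣ) : F) := by
  rw [hφ.apply_eq, Units.val_pow_eq_pow_val]

theorem dvd_card_units {d : ℕ} (hd : d ∣ q ^ 2 - 1) : d ∣ Nat.card Fˣ := by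
  rwa [Nat.card_units, Nat.card_eq_fintype_card, hφ.card]

/-- `q ≡ 3 mod 4`: orthonormal coordinates. -/
theorem shape_herm {w : ℕ} (hn : n = 2 ^ w) (hw : 2 ≤ w) (hq : q % 4 = 3) :
    ∃ Q : Subgroup (Equiv.Perm (Fin n)), Shape (hIso φ (1 : Equiv.Perm (Fin n)))
      (hScal φ (1 : Equiv.Perm (Fin n))) Q := by
  haveI : Fact (Nat.Prime 2) := ⟨Nat.prime_two⟩
  have hn4 : 4 ≤ n := hn ▸ le_trans (by norm_num) (Nat.pow_le_pow_right two_pos hw)
  obtain ⟨P⟩ := (inferInstance : Nonempty (Sylow 2 (Equiv.Perm (Fin n))))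
  obtain ⟨ζ, hζ⟩ := exists_orderOf_units F (dvd_card_units hφ (d := 4) (by
    obtain ⟨a, rfl⟩ : ∃ a, q = 4 * a + 3 := ⟨q / 4, by omega⟩
    exact ⟨4 * a ^ 2 + 6 * a + 2, by
      have : (4 * a + 3) ^ 2 = 4 * (4 * a ^ 2 + 6 * a + 2) + 1 := by ring
      omega⟩))
  have hζ4 : ζ ^ (2 ^ 2) = 1 := by rw [show 2 ^ 2 = orderOf ζ from hζ.symm, pow_orderOf_eq_one]
  have hζ4' : ζ⁻¹ ^ (2 ^ 2) = 1 := by rw [inv_pow, hζ4, inv_one]
  have hsq : ζ ^ 2 ≠ 1 := pow_ne_one_of_orderOf hζ (by norm_num)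
  have hmem : ∀ x : Fˣ, x ^ (q + 1) = 1 → ∀ i : Fin n,
      Pi.mulSingle i x ∈ hScal φ (1 : Equiv.Perm (Fin n)) := by
    intro x hx i j
    rw [Equiv.Perm.one_apply]
    rcases eq_or_ne j i with rfl | hj
    · rw [Pi.mulSingle_eq_same, sigma_units hφ, ← Units.val_mul, ← pow_succ', hx, Units.val_one]
    · rw [Pi.mulSingle_eq_of_ne hj]; simp
  have hζq : ζ ^ (q + 1) = 1 := orderOf_dvd_iff_pow_eq_one.1 (hζ ▸ by omega)
  have hpair : ∀ i k : Fin n, Pi.mulSingle i ζ * Pi.mulSingle k ζ⁻¹ ∈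
      hScal φ (1 : Equiv.Perm (Fin n)) :=
    fun i k => mul_mem (hmem ζ hζq i) (hmem ζ⁻¹ (by rw [inv_pow, hζq, inv_one]) k)
  refine ⟨P, P.2, fun π hπ => Cfsg.Agent.Lead.mem_sylow_two_perm_of_normalize _ P π hπ,
    sylow_perm_trans _ w hn P, fun g => ⟨0, Subsingleton.elim _ _⟩,
    fun c e σ _ => mon_mem_hIso_iff φ 1 c e σ (fun i => rfl), ?_, ?_, ?_, ?_, ?_, ⟨w, by simp [hn]⟩⟩
  · intro σ _ e
    have he : e = 1 := funext fun j => Subsingleton.elim _ _
    subst he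
    obtain ⟨s, hs, hs'⟩ : ∃ s : Fˣ, (s : F) * ((Equiv.Perm.sign σ : ℤ) : F) = 1 ∧ s ^ (2 ^ 1) = 1 := by
      rcases Int.units_eq_one_or (Equiv.Perm.sign σ) with h | h
      · exact ⟨1, by simp [h], by simp⟩
      · exact ⟨-1, by simp [h], by simp⟩
    refine ⟨Pi.mulSingle ⟨0, by omega⟩ s, hmem s ?_ _, single_twoVec _ hs', ?_⟩
    · obtain ⟨a, ha⟩ : 2 ∣ q + 1 := by omega
      rw [ha, pow_mul, show s ^ 2 = 1 by simpa using hs', one_pow]
    · rw [← mul_one (Pi.mulSingle (M := fun _ : Fin n => Fˣ) _ s), ← dg_mul_mon, map_mul]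
      refine Units.ext ?_
      rw [Units.val_mul, det_dg_single, det_mon_perm, Algebra.norm_self]
      simpa using hs
  · intro e σ i _ hi
    obtain ⟨k, hk1, hk2, hk3⟩ := exists_third hn4 i (σ i) (σ.symm i)
    refine ⟨_, hpair i k, mul_mem (single_twoVec i hζ4) (single_twoVec k hζ4'),
      det_dg_pair i k ζ, fun hh => ?_⟩
    have h' : σ.symm i ≠ i := fun he => hi (by rw [← he, Equiv.apply_symm_apply, he])
    have hh' := congrArg Units.val (congrFun hh (σ i))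
    simp only [Pi.mul_apply, Units.val_mul, tw_apply, Equiv.symm_apply_apply, alg_trivial,
      Pi.mulSingle_eq_same, Pi.mulSingle_eq_of_ne hi, Pi.mulSingle_eq_of_ne h',
      Pi.mulSingle_eq_of_ne hk1.symm, Pi.mulSingle_eq_of_ne hk2.symm,
      Pi.mulSingle_eq_of_ne hk3.symm, Units.val_one, mul_one, one_mul] at hh'
    exact hsq (Units.ext (by simpa [sq] using hh'.symm))
  · intro e i he
    exact absurd (Subsingleton.elim _ _) he
  · intro i l hil
    obtain ⟨k, hk1, hk2, -⟩ := exists_third hn4 i l i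
    refine ⟨_, hpair i k, mul_mem (single_twoVec i hζ4) (single_twoVec k hζ4'),
      det_dg_pair i k ζ, ?_⟩
    simp only [Pi.mul_apply, Pi.mulSingle_eq_same, Pi.mulSingle_eq_of_ne hil.symm,
      Pi.mulSingle_eq_of_ne hk1.symm, Pi.mulSingle_eq_of_ne hk2.symm, mul_one, Units.val_one]
    rw [minpoly.eq_X_sub_C' (ζ : F), minpoly.eq_X_sub_C' (1 : F)]
    intro h
    have h' : ζ = 1 := Units.ext (Polynomial.C_injective (by
      rw [Units.val_one]; linear_combination -h))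
    exact hsq (by rw [h', one_pow])
  · intro i
    exact ⟨1, one_mem _, one_mem _, by rw [map_one, map_one], Subsingleton.elim _ _⟩

/-- `q ≡ 1 mod 4`: hyperbolic coordinates. -/
theorem shape_hyp {w : ℕ} (hn : n = 2 ^ w) (hw : 2 ≤ w) (hq : q % 4 = 1) :
    ∃ (ρ : Equiv.Perm (Fin n)) (Q : Subgroup (Equiv.Perm (Fin n))),
      (∀ i, ρ (ρ i) = i) ∧ (∀ i, ρ i ≠ i) ∧ Shape (hIso φ ρ) (hScal φ ρ) Q := by
  haveI : Fact (Nat.Prime 2) := ⟨Nat.prime_two⟩
  have hn4 : 4 ≤ n := hn ▸ le_trans (by norm_num) (Nat.pow_le_pow_right two_pos hw)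
  obtain ⟨v, rfl⟩ : ∃ v, w = v + 1 := ⟨w - 1, by omega⟩
  have hn2 : n % 2 = 0 := by rw [hn, pow_succ]; omega
  obtain ⟨pe⟩ := Cfsg.Agent.Lead.pairing_exists n
  obtain ⟨P⟩ := (inferInstance : Nonempty (Sylow 2 (Equiv.Perm (Fin (n / 2)))))
  obtain ⟨ρ, hρ⟩ : ∃ ρ : Equiv.Perm (Fin n),
      ρ = Cfsg.Agent.Lead.pairLift pe (fun _ => Equiv.swap 0 1) 1 := ⟨_, rfl⟩
  have hρapp : ∀ x b, ρ (pe (.inl (x, b))) = pe (.inl (x, Equiv.swap 0 1 b)) := fun x b => by
    rw [hρ, Cfsg.Agent.Lead.pairLift_inl, Equiv.Perm.one_apply]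
  have hcover : ∀ i : Fin n, ∃ x b, i = pe (.inl (x, b)) := by
    intro i
    obtain ⟨y, hy⟩ := pe.surjective i
    rcases y with ⟨x, b⟩ | c
    · exact ⟨x, b, hy.symm⟩
    · exact absurd c.2 (by omega)
  have hρ2 : ∀ i, ρ (ρ i) = i := fun i => by
    obtain ⟨x, b, rfl⟩ := hcover i
    rw [hρapp, hρapp, Equiv.swap_apply_self]
  have hρne : ∀ i, ρ i ≠ i := fun i hi => by
    obtain ⟨x, b, rfl⟩ := hcover i
    rw [hρapp] at hi
    simp only [EmbeddingLike.apply_eq_iff_eq, Sum.inl.injEq, Prod.mk.injEq, true_and] at hi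
    revert hi
    fin_cases b <;> decide
  have hQ : ∀ σ ∈ Cfsg.Agent.Lead.pairGroup pe (P : Subgroup (Equiv.Perm (Fin (n / 2)))),
      ∀ i, σ (ρ i) = ρ (σ i) := by
    rintro _ ⟨d, τ, -, rfl⟩ i
    obtain ⟨x, b, rfl⟩ := hcover i
    rw [hρapp, Cfsg.Agent.Lead.pairLift_inl, Cfsg.Agent.Lead.pairLift_inl, hρapp]
    have key : ∀ (f : Equiv.Perm (Fin 2)) (b : Fin 2),
        f (Equiv.swap 0 1 b) = Equiv.swap 0 1 (f b) := by decide
    rw [key]
  have hq2 : 2 ≤ q := hφ.two_le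
  have hfac : q ^ 2 - 1 = (q - 1) * (q + 1) := by
    rw [mul_comm, ← Nat.sq_sub_sq q 1, one_pow]
  -- the scalar vector of `z` on a pair
  obtain ⟨vp, hvp⟩ : ∃ vp : Fin n → Fˣ → Fin n → Fˣ,
      vp = fun x z => Pi.mulSingle (M := fun _ : Fin n => Fˣ) x z *
        Pi.mulSingle (M := fun _ : Fin n => Fˣ) (ρ x) (z ^ q)⁻¹ := ⟨_, rfl⟩
  have hvpC : ∀ x z, vp x z ∈ hScal φ ρ := by
    intro x z j
    rw [hvp]
    simp only [Pi.mul_apply]
    rcases eq_or_ne j x with rfl | hj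
    · rw [Pi.mulSingle_eq_same, Pi.mulSingle_eq_of_ne (hρne j).symm, mul_one,
        Pi.mulSingle_eq_of_ne (hρne j), Pi.mulSingle_eq_same, one_mul, ← inv_pow, ← sigma_units hφ, hφ.involutive, ← Units.val_mul, mul_inv_cancel, Units.val_one]
    rcases eq_or_ne j (ρ x) with rfl | hj'
    · rw [Pi.mulSingle_eq_same, Pi.mulSingle_eq_of_ne (hρne x), one_mul, hρ2,
        Pi.mulSingle_eq_same, Pi.mulSingle_eq_of_ne (hρne x).symm, mul_one, sigma_units hφ,
        ← Units.val_mul, inv_mul_cancel, Units.val_one]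
    · have h1 : ρ j ≠ x := fun h => hj' (by rw [← h, hρ2])
      have h2 : ρ j ≠ ρ x := fun h => hj (ρ.injective h)
      rw [Pi.mulSingle_eq_of_ne hj, Pi.mulSingle_eq_of_ne hj', Pi.mulSingle_eq_of_ne h1,
        Pi.mulSingle_eq_of_ne h2]
      simp
  have hvp2 : ∀ x z k, z ^ (2 ^ k) = 1 → vp x z ∈ twoVec F n := by
    intro x z k hz
    rw [hvp]
    exact mul_mem (single_twoVec x hz) (single_twoVec _ (by
      rw [inv_pow, ← pow_mul, mul_comm, pow_mul, hz, one_pow, inv_one]))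
  have hvpdet : ∀ x z, LinearEquiv.det (dg F (vp x z)) = z * (z ^ q)⁻¹ := by
    intro x z
    apply Units.ext
    rw [hvp, map_mul, map_mul, Units.val_mul, det_dg_single, det_dg_single]
    simp
  obtain ⟨η, hη⟩ := exists_orderOf_units F (dvd_card_units hφ (d := 4) (by
    rw [hfac]; exact Dvd.dvd.mul_right (by omega) _))
  have hη4 : η ^ (2 ^ 2) = 1 := by rw [show 2 ^ 2 = orderOf η from hη.symm, pow_orderOf_eq_one]
  have hηsq : η ^ 2 ≠ 1 := pow_ne_one_of_orderOf hη (by norm_num)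
  have hηq : η ^ q = η := by
    conv_rhs => rw [← pow_one η]
    rw [pow_eq_pow_iff_modEq, hη]
    exact hq
  have hηdet : ∀ x, LinearEquiv.det (dg F (vp x η)) = 1 := fun x => by
    rw [hvpdet, hηq, mul_inv_cancel]
  obtain ⟨ζ, hζ⟩ := exists_orderOf_units F (dvd_card_units hφ (d := 8) (by
    rw [hfac, show 8 = 4 * 2 from rfl]; exact Nat.mul_dvd_mul (by omega) (by omega)))
  have hζ8 : ζ ^ (2 ^ 3) = 1 := by rw [show 2 ^ 3 = orderOf ζ from hζ.symm, pow_orderOf_eq_one]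
  obtain ⟨z, hz⟩ := exists_orderOf_units F (dvd_card_units hφ (d := 2 * ordProj[2] (q - 1)) (by
    rw [hfac, mul_comm 2]; exact Nat.mul_dvd_mul (Nat.ordProj_dvd _ _) (by omega)))
  obtain ⟨kz, hkz⟩ : ∃ k, z ^ (2 ^ k) = 1 :=
    ⟨(q - 1).factorization 2 + 1, by rw [pow_succ', ← hz, pow_orderOf_eq_one]⟩
  have hzdet : z * (z ^ q)⁻¹ = -1 := by
    have h1 : z ^ (q - 1) ≠ 1 := by
      refine pow_ne_one_of_orderOf hz fun hd => ?_
      rw [← pow_succ'] at hd
      exact Nat.pow_succ_factorization_not_dvd (by omega) Nat.prime_two hd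
    have h2 : (z ^ (q - 1)) ^ 2 = 1 := by
      rw [← pow_mul]
      refine orderOf_dvd_iff_pow_eq_one.1 (hz ▸ ?_)
      rw [mul_comm (q - 1)]
      exact Nat.mul_dvd_mul_left 2 (Nat.ordProj_dvd _ _)
    have h3 : z ^ (q - 1) = -1 := by
      apply Units.ext
      have h2' : ((z ^ (q - 1) : Fˣ) : F) ^ 2 = 1 := by
        rw [← Units.val_pow_eq_pow_val, h2, Units.val_one]
      rcases sq_eq_one_iff.1 h2' with h | h
      · exact absurd (Units.ext h) h1
      · simpa using h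
    rw [show z ^ q = z ^ (q - 1) * z by rw [← pow_succ]; congr 1; omega, h3]
    simp
  refine ⟨ρ, Cfsg.Agent.Lead.pairGroup pe P, hρ2, hρne, (Cfsg.Agent.Lead.pairSylow pe P).2,
    fun π hπ => Cfsg.Agent.Lead.mem_sylow_two_perm_of_normalize _
      (Cfsg.Agent.Lead.pairSylow pe P) π hπ,
    sylow_perm_trans _ (v + 1) hn (Cfsg.Agent.Lead.pairSylow pe P),
    fun g => ⟨0, Subsingleton.elim _ _⟩,
    fun c e σ hσ => mon_mem_hIso_iff φ ρ c e σ (hQ σ hσ), ?_, ?_, ?_, ?_, ?_,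
    ⟨v + 1, by simp [hn]⟩⟩
  · intro σ _ e
    have he : e = 1 := funext fun j => Subsingleton.elim _ _
    subst he
    rcases Int.units_eq_one_or (Equiv.Perm.sign σ) with h | h
    · refine ⟨1, one_mem _, one_mem _, Units.ext ?_⟩
      rw [det_mon_perm, h]
      simp
    · refine ⟨vp ⟨0, by omega⟩ z, hvpC _ _, hvp2 _ _ _ hkz, ?_⟩
      rw [← mul_one (vp ⟨0, by omega⟩ z), ← dg_mul_mon, map_mul, hvpdet, hzdet]
      refine Units.ext ?_
      rw [Units.val_mul, det_mon_perm, h]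
      simp
  · intro e σ i hσ hi
    have h' : σ.symm i ≠ i := fun he => hi (by rw [← he, Equiv.apply_symm_apply, he])
    by_cases hcase : σ i = ρ i
    · obtain ⟨k, hk1, hk2, -⟩ := exists_third hn4 i (ρ i) i
      have hk3 : i ≠ ρ k := fun h => hk2 (by rw [h, hρ2])
      have hk4 : ρ i ≠ ρ k := fun h => hk1 (ρ.injective h).symm
      have hs : σ.symm i = ρ i := by rw [Equiv.symm_apply_eq, hQ σ hσ, hcase, hρ2]
      refine ⟨vp i ζ * vp k ζ⁻¹, mul_mem (hvpC _ _) (hvpC _ _),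
        mul_mem (hvp2 _ _ _ hζ8) (hvp2 _ _ 3 (by rw [inv_pow, hζ8, inv_one])), ?_, fun hh => ?_⟩
      · rw [map_mul, map_mul, hvpdet, hvpdet, inv_pow, inv_inv, mul_mul_mul_comm, mul_inv_cancel,
          inv_mul_cancel, one_mul]
      · have hh' := congrFun hh (σ i)
        simp only [Pi.mul_apply, hvp] at hh'
        have hh'' := congrArg Units.val hh'
        simp only [Units.val_mul, tw_apply, Equiv.symm_apply_apply, alg_trivial] at hh''
        simp only [Units.val_mul, hs, hcase,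
          Pi.mul_apply, Pi.mulSingle_eq_same, Pi.mulSingle_eq_of_ne (hρne i),
          Pi.mulSingle_eq_of_ne (hρne i).symm, Pi.mulSingle_eq_of_ne hk1.symm,
          Pi.mulSingle_eq_of_ne hk2.symm, Pi.mulSingle_eq_of_ne hk3, Pi.mulSingle_eq_of_ne hk4,
          Units.val_one, one_mul, mul_one] at hh''
        have h4 : (ζ ^ q)⁻¹ * (ζ ^ q)⁻¹ = ζ * ζ := Units.ext (by simpa using hh'')
        have h5 : ζ ^ (2 * (q + 1)) = 1 := by
          rw [show 2 * (q + 1) = q + q + (1 + 1) by ring, pow_add, pow_add, pow_add, pow_one,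
            ← h4]
          group
        exact pow_ne_one_of_orderOf hζ (by omega) h5
    · have h1 : σ.symm i ≠ ρ i := fun h => hcase (by
        rw [Equiv.symm_apply_eq, hQ σ hσ] at h
        conv_rhs => rw [h, hρ2])
      refine ⟨vp i η, hvpC _ _, hvp2 _ _ _ hη4, hηdet i, fun hh => ?_⟩
      have hh'' := congrArg Units.val (congrFun hh (σ i))
      simp only [hvp, Units.val_mul, tw_apply, Equiv.symm_apply_apply, alg_trivial,
        Pi.mul_apply, Pi.mulSingle_eq_same, Pi.mulSingle_eq_of_ne hi, Pi.mulSingle_eq_of_ne h',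
        Pi.mulSingle_eq_of_ne hcase, Pi.mulSingle_eq_of_ne h1,
        Pi.mulSingle_eq_of_ne (hρne i).symm, Units.val_one, one_mul, mul_one] at hh''
      exact hηsq (Units.ext (by simpa [sq] using hh''.symm))
  · intro e i he
    exact absurd (Subsingleton.elim _ _) he
  · intro i l hil
    refine ⟨vp i η, hvpC _ _, hvp2 _ _ _ hη4, hηdet i, ?_⟩
    have hi' : vp i η i = η := by
      rw [hvp]
      simp [Pi.mulSingle_eq_of_ne (hρne i).symm]
    have hl' : vp i η l = 1 ∨ vp i η l = η⁻¹ := by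
      rw [hvp]
      rcases eq_or_ne l (ρ i) with rfl | hl
      · right; simp [Pi.mulSingle_eq_of_ne (hρne i), hηq]
      · left; simp [Pi.mulSingle_eq_of_ne hil.symm, Pi.mulSingle_eq_of_ne hl]
    rw [hi', minpoly.eq_X_sub_C' (η : F), minpoly.eq_X_sub_C' ((vp i η l : Fˣ) : F)]
    intro h
    have h0 : η = vp i η l := Units.ext (Polynomial.C_injective (by linear_combination -h))
    rcases hl' with e1 | e1 <;> rw [e1] at h0
    · exact hηsq (by rw [h0, one_pow])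
    · exact hηsq (by rw [sq]; nth_rewrite 2 [h0]; exact mul_inv_cancel η)
  · intro i
    exact ⟨1, one_mem _, one_mem _, by rw [map_one, map_one], Subsingleton.elim _ _⟩

end Cfsg.Agent.Classical.OddPronormal
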