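import Mathlib
import Cfsg.Agent.Lib.Classical.Pronormal.Unitary
import Cfsg.Agent.Lib.Classical.Pronormal.CharTwo

/-!
Bruhat decomposition of a unitary group in hyperbolic coordinates, and the overgroups of its
unitriangular subgroup in characteristic two.
-/

set_option autoImplicit false
set_option linter.unusedSectionVars false

open scoped MatrixGroups Pointwise

namespace Cfsg.Agent.Classical.OddPronormal

open Matrix Cfsg.Agent.Classical Cfsg.Agent.Small.PSLn Cfsg.Agent.Small.Flags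

variable {n : ℕ} {F : Type*} [Field F]

/-- The Gram matrix of the columns for the hyperbolic Hermitian form. -/
def gram (φ : F ≃+* F) (A : Matrix (Fin n) (Fin n) F) : Matrix (Fin n) (Fin n) F :=
  Aᵀ * (A.map φ).submatrix Fin.rev id

theorem gram_apply (φ : F ≃+* F) (A : Matrix (Fin n) (Fin n) F) (i j : Fin n) :
    gram φ A i j = ∑ k, A k i * φ (A k.rev j) := by
  simp [gram, Matrix.mul_apply]

theorem gram_mul (φ : F ≃+* F) (A X : Matrix (Fin n) (Fin n) F) :
    gram φ (A * X) = Xᵀ * gram φ A * X.map φ := by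
  simp only [gram]
  rw [Matrix.transpose_mul, Matrix.map_mul, Matrix.submatrix_mul _ _ _ id _ Function.bijective_id,
    Matrix.submatrix_id_id]
  simp only [Matrix.mul_assoc]

variable (n) in
/-- The isometries of the hyperbolic Hermitian form. -/
def hGU (φ : F ≃+* F) : Subgroup (GL (Fin n) F) where
  carrier := {g | gram φ g.1 = gram φ 1}
  one_mem' := rfl
  mul_mem' := fun {a b} ha hb => by
    show gram φ (a.1 * b.1) = _
    rw [gram_mul, show gram φ a.1 = gram φ 1 from ha, ← gram_mul, Matrix.one_mul]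
    exact hb
  inv_mem' := fun {a} ha => by
    show gram φ (a⁻¹ : GL (Fin n) F).1 = _
    rw [← Matrix.one_mul (a⁻¹ : GL (Fin n) F).1, gram_mul, ← show gram φ a.1 = gram φ 1 from ha,
      ← gram_mul, ← Units.val_mul, mul_inv_cancel, Units.val_one, ha]

theorem gram_one_apply (φ : F ≃+* F) (i j : Fin n) :
    gram φ (1 : Matrix (Fin n) (Fin n) F) i j = if i.rev = j then 1 else 0 := by
  rw [gram_apply, Finset.sum_eq_single i (fun k _ hk => by rw [Matrix.one_apply_ne hk, zero_mul])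
    (by simp), Matrix.one_apply_eq, one_mul, Matrix.one_apply]
  split_ifs <;> simp

theorem toGL_mem_hGU {φ : F ≃+* F} {A : SL(n, F)} :
    Matrix.SpecialLinearGroup.toGL A ∈ hGU n φ ↔ A ∈ hSU φ Fin.revPerm := by
  have key : ∀ (M : Matrix (Fin n) (Fin n) F) (u v : Fin n → F),
      hform φ Fin.revPerm (M *ᵥ u) (M *ᵥ v) = u ⬝ᵥ (gram φ M *ᵥ fun j => φ (v j)) := by
    intro M u v
    rw [gram, ← Matrix.mulVec_mulVec, dotProduct_mulVec _ Mᵀ, Matrix.vecMul_transpose]
    refine Finset.sum_congr rfl fun i _ => congrArg _ ?_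
    show φ ((M *ᵥ v) i.rev) = ∑ j, φ (M i.rev j) * φ (v j)
    simp only [Matrix.mulVec, dotProduct, map_sum, map_mul]
  constructor
  · intro h
    refine mem_hSU.2 fun u v => ?_
    have h' : gram φ A.1 = gram φ 1 := h
    rw [key, h', ← key, Matrix.one_mulVec, Matrix.one_mulVec]
  · intro h
    show gram φ A.1 = gram φ 1
    ext i j
    have h1 := mem_hSU.1 h (Pi.single i 1) (Pi.single j 1)
    conv_rhs at h1 =>
      rw [← Matrix.one_mulVec (Pi.single i (1 : F) : Fin n → F),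
        ← Matrix.one_mulVec (Pi.single j (1 : F) : Fin n → F)]
    rw [key, key] at h1
    have hs : (fun l => φ ((Pi.single j 1 : Fin n → F) l)) = Pi.single j 1 := by
      funext l
      rcases eq_or_ne l j with rfl | hl
      · simp
      · simp [Pi.single_eq_of_ne hl]
    rw [hs, single_dotProduct, single_dotProduct, Matrix.mulVec_single_one,
      Matrix.mulVec_single_one, one_mul, one_mul] at h1
    exact h1

theorem mul_permGLn_apply (M : Matrix (Fin n) (Fin n) F) (σ : Equiv.Perm (Fin n)) (i j : Fin n) :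
    (M * (permGLn σ : GL (Fin n) F).1) i j = M i (σ j) := by
  show (M * (σ⁻¹).permMatrix F) i j = _
  rw [PEquiv.mul_toMatrix_toPEquiv]
  rfl

theorem permGLn_inv_mul_apply (M : Matrix (Fin n) (Fin n) F) (σ : Equiv.Perm (Fin n)) (i j : Fin n) :
    (((permGLn σ)⁻¹ : GL (Fin n) F).1 * M) i j = M (σ i) j := by
  rw [← map_inv]
  have := permGLn_mulVec (F := F) σ⁻¹ (fun k => M k j) i
  rw [inv_inv] at this
  exact this

theorem conj_permGLn_apply (M : Matrix (Fin n) (Fin n) F) (σ : Equiv.Perm (Fin n)) (i j : Fin n) :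
    (((permGLn σ)⁻¹ : GL (Fin n) F).1 * M * (permGLn σ : GL (Fin n) F).1) i j = M (σ i) (σ j) := by
  rw [mul_permGLn_apply, permGLn_inv_mul_apply]

theorem permGLn_mem_hGU (φ : F ≃+* F) {σ : Equiv.Perm (Fin n)} (h : ∀ i, σ i.rev = (σ i).rev) :
    (permGLn σ : GL (Fin n) F) ∈ hGU n φ := by
  show gram φ (permGLn σ : GL (Fin n) F).1 = _
  ext i j
  rw [gram_one_apply, gram_apply, Finset.sum_eq_single (σ i) ?_ (by simp)]
  · rw [← Matrix.one_mul (permGLn σ : GL (Fin n) F).1, mul_permGLn_apply, mul_permGLn_apply,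
      Matrix.one_apply_eq, one_mul, ← h, Matrix.one_apply]
    simp only [σ.injective.eq_iff]
    split_ifs <;> simp
  · intro k _ hk
    rw [← Matrix.one_mul (permGLn σ : GL (Fin n) F).1, mul_permGLn_apply, Matrix.one_apply_ne hk,
      zero_mul]

theorem upper_mul_apply {A B : Matrix (Fin n) (Fin n) F} (hA : ∀ i j, j < i → A i j = 0)
    (hB : ∀ i j, j < i → B i j = 0) (i : Fin n) : (A * B) i i = A i i * B i i := by
  rw [Matrix.mul_apply, Finset.sum_eq_single i (fun k _ hk => ?_) (by simp)]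
  rcases lt_or_gt_of_ne hk with h | h
  · rw [hA i k h, zero_mul]
  · rw [hB k i h, mul_zero]

theorem eq_id_of_le {τ : Equiv.Perm (Fin n)} (h : ∀ i, τ i ≤ i) (i : Fin n) : τ i = i := by
  have h1 : ∑ i, ((τ i : Fin n) : ℕ) = ∑ i : Fin n, (i : ℕ) :=
    Equiv.sum_comp τ (fun i : Fin n => (i : ℕ))
  exact Fin.ext ((Finset.sum_eq_sum_iff_of_le (f := fun i : Fin n => ((τ i : Fin n) : ℕ))
    (g := fun i : Fin n => (i : ℕ)) (fun i _ => Fin.le_def.1 (h i))).1 h1 i (Finset.mem_univ i))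

variable [Fintype F] {q : ℕ} {φ : F ≃+* F} [CharP F 2]

/-- A Hermitian matrix of anti-triangular pattern is the Gram matrix of a triangular one. -/
theorem exists_gram_eq (hφ : IsUSigma q φ) (hn : Even n) {σ : Equiv.Perm (Fin n)}
    (hσ : ∀ i, σ i.rev = (σ i).rev) {G : Matrix (Fin n) (Fin n) F}
    (hsym : ∀ i j, φ (G i j) = G j i) (hanti : ∀ i, G i.rev i ≠ 0)
    (hsupp : ∀ i j, G i j ≠ 0 → i.rev ≤ j ∧ σ.symm i.rev ≤ σ.symm j) :
    ∃ X : GL (Fin n) F, gram φ X.1 = G ∧ (∀ i j, j < i → X.1 i j = 0) ∧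
      ∀ i j, j < i → X.1 (σ i) (σ j) = 0 := by
  classical
  obtain ⟨a, ha⟩ := exists_trace_neg_one hφ
  rw [CharTwo.neg_eq] at ha
  have hσ' : ∀ i, σ.symm i.rev = (σ.symm i).rev := fun i => by
    rw [Equiv.symm_apply_eq, hσ, Equiv.apply_symm_apply]
  have hlh : ∀ i : Fin n, i < i.rev ∨ i.rev < i := fun i => by
    obtain ⟨m, rfl⟩ := hn
    simp only [Fin.lt_def, Fin.val_rev]
    omega
  let M : Submonoid (GL (Fin n) F) :=
    { carrier := {g | ∀ i j, g.1 i j ≠ 0 → i ≤ j ∧ σ.symm i ≤ σ.symm j}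
      one_mem' := fun i j h => by
        obtain rfl : i = j := by by_contra hne; exact h (Matrix.one_apply_ne hne)
        exact ⟨le_rfl, le_rfl⟩
      mul_mem' := fun {x y} hx hy i j h => by
        rw [Units.val_mul, Matrix.mul_apply] at h
        obtain ⟨k, -, hk⟩ := Finset.exists_ne_zero_of_sum_ne_zero h
        exact ⟨(hx i k (left_ne_zero_of_mul hk)).1.trans (hy k j (right_ne_zero_of_mul hk)).1,
          (hx i k (left_ne_zero_of_mul hk)).2.trans (hy k j (right_ne_zero_of_mul hk)).2⟩ }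
  obtain ⟨Yb, hYb⟩ : ∃ Yb : Matrix (Fin n) (Fin n) F, Yb = Matrix.of fun i j =>
      if i < i.rev then (if i = j then 1 else 0) else if j.rev < j then G i.rev j else 0 := ⟨_, rfl⟩
  have hYbs : ∀ i j, Yb i j ≠ 0 → i ≤ j ∧ σ.symm i ≤ σ.symm j := by
    intro i j h
    rw [hYb, Matrix.of_apply] at h
    split_ifs at h with h1 h2 h3
    · subst h2; exact ⟨le_rfl, le_rfl⟩
    · exact absurd rfl h
    · simpa using hsupp _ _ h
    · exact absurd rfl h
  have hYbd : Yb.det ≠ 0 := by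
    rw [Matrix.det_of_upperTriangular (fun i j hij => by
      by_contra h; exact absurd (hYbs i j h).1 (not_le.2 hij))]
    refine Finset.prod_ne_zero_iff.2 fun i _ => ?_
    rw [hYb, Matrix.of_apply]
    rcases hlh i with h | h
    · rw [if_pos h, if_pos rfl]; exact one_ne_zero
    · rw [if_neg (lt_asymm h), if_pos h]; exact hanti i
  obtain ⟨Y, hY⟩ : ∃ Y : GL (Fin n) F, Y.1 = Yb :=
    ⟨Matrix.GeneralLinearGroup.mkOfDetNeZero Yb hYbd, rfl⟩
  have hYM : Y ∈ M := fun i j h => hYbs i j (hY ▸ h)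
  have hVM : Y⁻¹ ∈ M := by
    obtain ⟨k, hk⟩ : ∃ k : ℕ, Y⁻¹ = Y ^ k :=
      ⟨orderOf Y - 1, inv_eq_of_mul_eq_one_right (by
        rw [← pow_succ', Nat.sub_add_cancel (orderOf_pos Y), pow_orderOf_eq_one])⟩
    rw [hk]
    exact M.pow_mem hYM k
  obtain ⟨D₀, hD₀⟩ : ∃ D₀ : Matrix (Fin n) (Fin n) F, D₀ = Matrix.of fun i j =>
      if i.rev < i ∧ j.rev < j then (if i < j then G i j else if i = j then a * G i j else 0)
      else 0 := ⟨_, rfl⟩
  have hD₀s : ∀ i j, D₀ i j ≠ 0 → i.rev < i ∧ j.rev < j ∧ G i j ≠ 0 := by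
    intro i j h
    rw [hD₀, Matrix.of_apply] at h
    split_ifs at h with h1 h2 h3
    · exact ⟨h1.1, h1.2, h⟩
    · exact ⟨h1.1, h1.2, right_ne_zero_of_mul h⟩
    all_goals exact absurd rfl h
  obtain ⟨Z, hZ⟩ : ∃ Z : Matrix (Fin n) (Fin n) F, Z = D₀ * (Y⁻¹ : GL (Fin n) F).1 := ⟨_, rfl⟩
  have hZs : ∀ i l, Z i l ≠ 0 → i.rev < i ∧ l.rev < l ∧ i.rev ≤ l ∧ σ.symm i.rev ≤ σ.symm l := by
    intro i l h
    rw [hZ, Matrix.mul_apply] at h
    obtain ⟨k, -, hk⟩ := Finset.exists_ne_zero_of_sum_ne_zero h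
    obtain ⟨h1, h2, h3⟩ := hD₀s _ _ (left_ne_zero_of_mul hk)
    obtain ⟨h4, h5⟩ := hVM _ _ (right_ne_zero_of_mul hk)
    obtain ⟨h6, h7⟩ := hsupp _ _ h3
    exact ⟨h1, lt_of_le_of_lt (Fin.rev_le_rev.2 h4) (h2.trans_le h4), h6.trans h4, h7.trans h5⟩
  obtain ⟨X, hX⟩ : ∃ X : Matrix (Fin n) (Fin n) F, X = Matrix.of fun i j =>
      φ (Yb i j) + Z j i.rev := ⟨_, rfl⟩
  have hXlow : ∀ k i : Fin n, k < k.rev → X k i = (if k = i then 1 else 0) + Z i k.rev := by
    intro k i hk
    rw [hX, Matrix.of_apply, hYb, Matrix.of_apply, if_pos hk]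
    split_ifs <;> simp
  have hXhigh : ∀ k j : Fin n, k.rev < k → X k j = φ (Yb k j) := by
    intro k j hk
    have : Z j k.rev = 0 := by
      by_contra h
      have := (hZs _ _ h).2.1
      rw [Fin.rev_rev] at this
      exact lt_asymm hk this
    rw [hX, Matrix.of_apply, this, add_zero]
  have hXs : ∀ i j, X i j ≠ 0 → i ≤ j ∧ σ.symm i ≤ σ.symm j := by
    intro i j h
    rw [hX, Matrix.of_apply] at h
    rcases eq_or_ne (Yb i j) 0 with h1 | h1
    · rw [h1, map_zero, zero_add] at h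
      obtain ⟨-, -, h2, h3⟩ := hZs _ _ h
      rw [hσ', hσ', Fin.rev_le_rev] at h3
      exact ⟨Fin.rev_le_rev.1 h2, h3⟩
    · exact hYbs i j h1
  have hS : ∀ i j, ∑ k ∈ Finset.univ.filter (fun k : Fin n => k < k.rev), X k i * φ (X k.rev j) =
      (if i < i.rev ∧ j.rev < j then G i j else 0) + D₀ i j := by
    intro i j
    have e1 : ∀ k ∈ Finset.univ.filter (fun k : Fin n => k < k.rev), X k i * φ (X k.rev j) =
        (if k = i then Yb k.rev j else 0) + Z i k.rev * Yb k.rev j := by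
      intro k hk
      rw [Finset.mem_filter] at hk
      rw [hXlow k i hk.2, hXhigh k.rev j (by rw [Fin.rev_rev]; exact hk.2), hφ.involutive, add_mul]
      split_ifs <;> simp
    rw [Finset.sum_congr rfl e1, Finset.sum_add_distrib]
    congr 1
    · rw [Finset.sum_ite_eq']
      simp only [Finset.mem_filter, Finset.mem_univ, true_and]
      by_cases hi : i < i.rev
      · rw [if_pos hi, hYb, Matrix.of_apply, Fin.rev_rev, if_neg (lt_asymm hi)]
        by_cases hj : j.rev < j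
        · rw [if_pos hj, if_pos ⟨hi, hj⟩]
        · rw [if_neg hj, if_neg (fun h => hj h.2)]
      · rw [if_neg hi, if_neg (fun h => hi h.1)]
    · rw [Finset.sum_filter_of_ne (fun k _ hk => by
          have h := (hZs _ _ (left_ne_zero_of_mul hk)).2.1
          rwa [Fin.rev_rev] at h),
        Fintype.sum_equiv Fin.revPerm (fun k => Z i k.rev * Yb k.rev j)
          (fun l => Z i l * Yb l j) (fun k => rfl),
        ← Matrix.mul_apply, hZ,
        Matrix.mul_assoc, ← hY, ← Units.val_mul, inv_mul_cancel, Units.val_one, Matrix.mul_one]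
  have hgram : gram φ X = G := by
    ext i j
    rw [gram_apply, ← Finset.sum_filter_add_sum_filter_not Finset.univ (fun k : Fin n => k < k.rev),
      hS]
    have e2 : ∑ k ∈ Finset.univ.filter (fun k : Fin n => ¬ k < k.rev), X k i * φ (X k.rev j) =
        φ (∑ k ∈ Finset.univ.filter (fun k : Fin n => k < k.rev), X k j * φ (X k.rev i)) := by
      rw [map_sum]
      refine Finset.sum_equiv Fin.revPerm (fun k => ?_) (fun k _ => ?_)
      · simp only [Finset.mem_filter, Finset.mem_univ, true_and, Fin.revPerm_apply, Fin.rev_rev]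
        rcases hlh k with h | h
        · simp [h, lt_asymm h]
        · simp [h, lt_asymm h]
      · rw [Fin.revPerm_apply, Fin.rev_rev, map_mul, hφ.involutive, mul_comm]
    rw [e2, hS, map_add, hD₀, Matrix.of_apply, Matrix.of_apply]
    rcases hlh i with hi | hi <;> rcases hlh j with hj | hj
    · have h0 : G i j = 0 := by
        by_contra h
        have := (hsupp _ _ h).1
        exact lt_irrefl _ ((lt_of_lt_of_le hi (this.trans hj.le)).trans_le (Fin.rev_le_rev.2 this |>.trans (by rw [Fin.rev_rev])))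
      simp [lt_asymm hi, lt_asymm hj, h0]
    · simp [hi, hj, lt_asymm hi, lt_asymm hj]
    · simp [hi, hj, lt_asymm hi, lt_asymm hj, hsym]
    · simp only [hi, hj, lt_asymm hi, lt_asymm hj, and_self, and_false, false_and, if_true, if_false,
        map_zero, zero_add]
      rcases lt_trichotomy i j with h | h | h
      · simp [h, lt_asymm h, ne_of_gt h]
      · subst h
        simp only [lt_irrefl, if_false, if_true]
        rw [map_mul, hsym, ← add_mul, ha, one_mul]
      · simp [h, lt_asymm h, ne_of_gt h, hsym]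
  have hXd : X.det ≠ 0 := by
    rw [Matrix.det_of_upperTriangular (fun i j hij => by
      by_contra h; exact absurd (hXs i j h).1 (not_le.2 hij))]
    refine Finset.prod_ne_zero_iff.2 fun i _ => ?_
    rcases hlh i with h | h
    · have : Z i i.rev = 0 := by
        by_contra h0
        exact lt_asymm h (hZs _ _ h0).1
      rw [hXlow i i h, this, if_pos rfl, add_zero]
      exact one_ne_zero
    · rw [hXhigh i i h, hYb, Matrix.of_apply, if_neg (lt_asymm h), if_pos h]
      exact (map_ne_zero φ).2 (hanti i)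
  refine ⟨Matrix.GeneralLinearGroup.mkOfDetNeZero X hXd, hgram, fun i j hij => ?_,
    fun i j hij => ?_⟩
  · show X i j = 0
    by_contra h
    exact absurd (hXs i j h).1 (not_le.2 hij)
  · show X (σ i) (σ j) = 0
    by_contra h
    have := (hXs _ _ h).2
    simp only [Equiv.symm_apply_apply] at this
    exact absurd this (not_le.2 hij)

theorem gram_upper_supp {b : GL (Fin n) F} (hb : b ∈ upperTriangularGL n F) {i j : Fin n}
    (h : gram φ b.1 i j ≠ 0) : i.rev ≤ j := by
  rw [gram_apply] at h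
  obtain ⟨k, -, hk⟩ := Finset.exists_ne_zero_of_sum_ne_zero h
  by_contra hij
  rcases le_or_gt k i with h1 | h1
  · have h2 : j < k.rev := lt_of_lt_of_le (not_le.1 hij) (Fin.rev_le_rev.2 h1)
    exact hk (by rw [upper_iff.1 hb k.rev j h2, map_zero, mul_zero])
  · exact hk (by rw [upper_iff.1 hb k i h1, zero_mul])

/-- Bruhat decomposition inside the unitary group. -/
theorem bruhat_unitary (hφ : IsUSigma q φ) (hn : Even n) {g : GL (Fin n) F} (hg : g ∈ hGU n φ) :
    ∃ (σ : Equiv.Perm (Fin n)) (b c : GL (Fin n) F), (∀ i, σ i.rev = (σ i).rev) ∧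
      b ∈ hGU n φ ∧ b ∈ upperTriangularGL n F ∧ c ∈ hGU n φ ∧ c ∈ upperTriangularGL n F ∧
      g = b * permGLn σ * c := by
  classical
  obtain ⟨σ, b, c, hb, hc, he⟩ := bruhat g
  obtain ⟨G, hG⟩ : ∃ G, G = gram φ b.1 := ⟨_, rfl⟩
  have hbP : ∀ i j, G (σ i) (σ j) = gram φ (c⁻¹ : GL (Fin n) F).1 i j := by
    intro i j
    have e : b.1 * (permGLn σ : GL (Fin n) F).1 = g.1 * (c⁻¹ : GL (Fin n) F).1 := by
      rw [← Units.val_mul, ← Units.val_mul, he, mul_inv_cancel_right]
    have e2 : gram φ (g.1 * (c⁻¹ : GL (Fin n) F).1) = gram φ (c⁻¹ : GL (Fin n) F).1 := by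
      rw [gram_mul, show gram φ g.1 = gram φ 1 from hg, ← gram_mul, Matrix.one_mul]
    rw [← e2, ← e, hG, gram_apply, gram_apply]
    simp only [mul_permGLn_apply]
  have hs1 : ∀ i j, G i j ≠ 0 → i.rev ≤ j := fun i j h => gram_upper_supp hb (hG ▸ h)
  have hs2 : ∀ i j, G (σ i) (σ j) ≠ 0 → i.rev ≤ j := fun i j h =>
    gram_upper_supp (φ := φ) (inv_mem hc) (hbP i j ▸ h)
  have hdet : G.det ≠ 0 := by
    have hsub : (b.1.map φ).submatrix Fin.rev id = (b.1.map φ).submatrix Fin.revPerm id := rfl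
    rw [hG, gram, Matrix.det_mul, Matrix.det_transpose, hsub, Matrix.det_permute]
    have hbd : b.1.det ≠ 0 := Matrix.GeneralLinearGroup.det_ne_zero b
    refine mul_ne_zero hbd (mul_ne_zero ?_ ?_)
    · rcases Int.units_eq_one_or (Equiv.Perm.sign (Fin.revPerm : Equiv.Perm (Fin n))) with h | h <;>
        simp [h]
    · rw [show b.1.map φ = φ.toRingHom.mapMatrix b.1 from rfl, ← RingHom.map_det]
      exact (map_ne_zero φ.toRingHom).2 hbd
  have hanti : ∀ i, G i.rev i ≠ 0 := by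
    rw [Matrix.det_apply] at hdet
    obtain ⟨π, -, hπ⟩ := Finset.exists_ne_zero_of_sum_ne_zero hdet
    have h1 : ∀ i, G (π i) i ≠ 0 := fun i h0 =>
      hπ (by rw [Finset.prod_eq_zero (f := fun x => G (π x) x) (Finset.mem_univ i) h0, smul_zero])
    intro i
    have h2 : ((Fin.revPerm : Equiv.Perm (Fin n)) * π) i = i :=
      eq_id_of_le (τ := (Fin.revPerm : Equiv.Perm (Fin n)) * π) (fun j => hs1 _ _ (h1 j)) i
    rw [Equiv.Perm.mul_apply, Fin.revPerm_apply] at h2
    have h3 := h1 i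
    rwa [← Fin.rev_rev (π i), h2] at h3
  have hσ : ∀ i, σ i.rev = (σ i).rev := by
    intro i
    have h1 : ((Fin.revPerm * (σ⁻¹ * (Fin.revPerm * σ)) : Equiv.Perm (Fin n)) : Equiv.Perm (Fin n)) i = i :=
      eq_id_of_le (τ := (Fin.revPerm : Equiv.Perm (Fin n)) * (σ⁻¹ * (Fin.revPerm * σ))) (fun j => by
      refine hs2 _ j ?_
      simpa using hanti (σ j)) i
    simp only [Equiv.Perm.mul_apply, Fin.revPerm_apply] at h1
    have h2 := congrArg (fun x => σ x.rev) h1
    simpa using h2.symm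
  have hσ' : ∀ i, σ.symm i.rev = (σ.symm i).rev := fun i => by
    rw [Equiv.symm_apply_eq, hσ, Equiv.apply_symm_apply]
  have hsym : ∀ i j, φ (G i j) = G j i := by
    intro i j
    rw [hG, gram_apply, gram_apply, map_sum, ← Equiv.sum_comp Fin.revPerm]
    refine Finset.sum_congr rfl fun k _ => ?_
    rw [Fin.revPerm_apply, Fin.rev_rev, map_mul, hφ.involutive, mul_comm]
  obtain ⟨X, hXG, hXu, hXσ⟩ := exists_gram_eq hφ hn hσ hsym hanti (fun i j h => by
    refine ⟨hs1 i j h, ?_⟩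
    rw [hσ']
    refine hs2 _ _ ?_
    rwa [Equiv.apply_symm_apply, Equiv.apply_symm_apply])
  obtain ⟨c', hc'def⟩ : ∃ c', c' = (permGLn σ)⁻¹ * X * permGLn σ * c := ⟨_, rfl⟩
  have hb' : b * X⁻¹ ∈ hGU n φ := by
    show gram φ (b.1 * (X⁻¹ : GL (Fin n) F).1) = _
    rw [gram_mul, ← hG, ← hXG, ← gram_mul, ← Units.val_mul, mul_inv_cancel, Units.val_one]
  have heq : g = b * X⁻¹ * permGLn σ * c' := by rw [he, hc'def]; group
  refine ⟨σ, b * X⁻¹, c', hσ, hb', mul_mem hb (inv_mem (upper_iff.2 hXu)), ?_, ?_, heq⟩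
  · have : c' = (b * X⁻¹ * permGLn σ)⁻¹ * g := by rw [heq]; group
    rw [this]
    exact mul_mem (inv_mem (mul_mem hb' (permGLn_mem_hGU φ hσ))) hg
  · rw [hc'def]
    refine mul_mem (upper_iff.2 fun i j hij => ?_) hc
    rw [Units.val_mul, Units.val_mul, conj_permGLn_apply]
    exact hXσ i j hij

/-- The element of `GL` of a special unitary matrix. -/
noncomputable def hι (φ : F ≃+* F) : ↥(hSU φ (Fin.revPerm : Equiv.Perm (Fin n))) →* GL (Fin n) F :=
  Matrix.SpecialLinearGroup.toGL.comp (Subgroup.subtype _)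

theorem hι_injective : Function.Injective (hι (n := n) φ) := fun A B h =>
  Subtype.ext (Subtype.ext (congrArg Units.val h))

theorem hι_mem (A : ↥(hSU φ (Fin.revPerm : Equiv.Perm (Fin n)))) : hι φ A ∈ hGU n φ :=
  toGL_mem_hGU.2 A.2

theorem exists_hι {g : GL (Fin n) F} (hg : g ∈ hGU n φ) (hd : g.1.det = 1) :
    ∃ A, hι φ A = g :=
  ⟨⟨⟨g.1, hd⟩, toGL_mem_hGU.1 (show gram φ g.1 = gram φ 1 from hg)⟩, Units.ext rfl⟩

variable (n) in
/-- The unitriangular isometries. -/
def hU (φ : F ≃+* F) : Subgroup ↥(hSU φ (Fin.revPerm : Equiv.Perm (Fin n))) :=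
  (UTg n F).subgroupOf _

theorem mem_hU {A : ↥(hSU φ (Fin.revPerm : Equiv.Perm (Fin n)))} :
    A ∈ hU n φ ↔ hι φ A ∈ upperTriangularGL n F ∧ ∀ i, (hι φ A).1 i i = 1 :=
  ⟨fun h => ⟨upper_iff.2 fun i j hij => h.2 i j hij, h.1⟩,
    fun h => ⟨h.2, fun i j hij => upper_iff.1 h.1 i j hij⟩⟩

theorem diag_mul {a b : GL (Fin n) F} (ha : a ∈ upperTriangularGL n F)
    (hb : b ∈ upperTriangularGL n F) (i : Fin n) : (a * b).1 i i = a.1 i i * b.1 i i :=
  upper_mul_apply (upper_iff.1 ha) (upper_iff.1 hb) i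

theorem diag_conj {a b : GL (Fin n) F} (ha : a ∈ upperTriangularGL n F)
    (hb : b ∈ upperTriangularGL n F) (i : Fin n) : (a * b * a⁻¹).1 i i = b.1 i i := by
  have h1 := diag_mul (mul_mem (mul_mem ha hb) (inv_mem ha)) ha i
  rw [inv_mul_cancel_right, diag_mul ha hb, mul_comm] at h1
  exact (mul_right_cancel₀ (upper_diag_ne_zero ha i) h1).symm

theorem conj_hU {A : ↥(hSU φ (Fin.revPerm : Equiv.Perm (Fin n)))}
    (hA : hι φ A ∈ upperTriangularGL n F) {u} (hu : u ∈ hU n φ) : A * u * A⁻¹ ∈ hU n φ := by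
  rw [mem_hU] at hu ⊢
  rw [map_mul, map_mul, map_inv]
  exact ⟨mul_mem (mul_mem hA hu.1) (inv_mem hA),
    fun i => by rw [diag_conj hA hu.1, hu.2]⟩

/-- The root elements. -/
theorem exists_root (hn : Even n) {a b : Fin n} (hab : a < b) :
    ∃ r ∈ hU n φ, (hι φ r).1 a b = 1 := by
  classical
  have hlh : ∀ i : Fin n, i.rev ≠ i := fun i h => by
    obtain ⟨m, rfl⟩ := hn
    simp only [Fin.ext_iff, Fin.val_rev] at h
    omega
  obtain ⟨R, hR⟩ : ∃ R : Matrix (Fin n) (Fin n) F, R = 1 + Matrix.single a b 1 +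
      (if b = a.rev then 0 else Matrix.single b.rev a.rev 1) := ⟨_, rfl⟩
  have hlow : ∀ i j, j ≤ i → R i j = (1 : Matrix (Fin n) (Fin n) F) i j := by
    intro i j hji
    rw [hR, Matrix.add_apply, Matrix.add_apply, Matrix.single_apply,
      if_neg (fun h : a = i ∧ b = j => absurd hji (not_le.2 (by rw [← h.1, ← h.2]; exact hab))), add_zero]
    split_ifs with h
    · simp
    · rw [Matrix.single_apply, if_neg, add_zero]
      rintro ⟨rfl, rfl⟩
      exact absurd hji (not_le.2 (Fin.rev_lt_rev.2 hab))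
  have hUT : IsUT R := ⟨fun i => by rw [hlow i i le_rfl, Matrix.one_apply_eq],
    fun i j hij => by rw [hlow i j hij.le, Matrix.one_apply_ne (ne_of_gt hij)]⟩
  have hg : gram φ R = gram φ 1 := by
    have hmap : R.map φ = R := by
      ext i j
      rw [Matrix.map_apply, hR]
      by_cases h : b = a.rev <;>
        simp [h, Matrix.one_apply, Matrix.single_apply, apply_ite φ]
    obtain ⟨J, hJ⟩ : ∃ J : Matrix (Fin n) (Fin n) F,
        J = (1 : Matrix (Fin n) (Fin n) F).submatrix Fin.rev id := ⟨_, rfl⟩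
    have hgJ : gram φ (1 : Matrix (Fin n) (Fin n) F) = J := by
      rw [gram, Matrix.map_one _ (map_zero φ) (map_one φ), Matrix.transpose_one, Matrix.one_mul, hJ]
    have hsub : ∀ x y : Fin n, (Matrix.single x y (1 : F)).submatrix Fin.rev id =
        Matrix.single x.rev y 1 := by
      intro x y
      ext i j
      rw [Matrix.submatrix_apply, Matrix.single_apply, Matrix.single_apply, id_eq]
      refine if_congr (and_congr_left' ⟨fun h => ?_, fun h => ?_⟩) rfl rfl
      · rw [h, Fin.rev_rev]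
      · rw [← h, Fin.rev_rev]
    have hsJ : ∀ x y : Fin n, Matrix.single x y (1 : F) * J = Matrix.single x y.rev 1 := by
      intro x y
      ext i j
      rw [Matrix.mul_apply, Finset.sum_eq_single y (fun k _ hk => ?_) (by simp), hJ,
        Matrix.submatrix_apply, Matrix.one_apply, Matrix.single_apply, Matrix.single_apply, id_eq]
      · by_cases h1 : x = i <;> by_cases h2 : y.rev = j <;> simp [h1, h2]
      · rw [Matrix.single_apply, if_neg (fun h => hk h.2.symm), zero_mul]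
    have hne : a ≠ b := ne_of_lt hab
    have h2 : ∀ M : Matrix (Fin n) (Fin n) F, M + M = 0 := fun M => by
      ext i j
      exact CharTwo.add_self_eq_zero _
    rw [hgJ, gram, hmap, hR]
    split_ifs with h
    · subst h
      rw [add_zero, Matrix.submatrix_add, Pi.add_apply, Pi.add_apply, ← hJ, hsub,
        Matrix.transpose_add, Matrix.transpose_one, Matrix.transpose_single, Matrix.add_mul,
        Matrix.one_mul, Matrix.mul_add, hsJ, Matrix.single_mul_single_of_ne (h := hne),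
        add_zero, add_assoc, h2, add_zero]
    · rw [Matrix.submatrix_add, Pi.add_apply, Pi.add_apply, Matrix.submatrix_add, Pi.add_apply,
        Pi.add_apply, ← hJ, hsub, hsub, Fin.rev_rev,
        Matrix.transpose_add, Matrix.transpose_add, Matrix.transpose_one, Matrix.transpose_single,
        Matrix.transpose_single, Matrix.add_mul, Matrix.add_mul,
        Matrix.one_mul, Matrix.mul_add, Matrix.mul_add, Matrix.mul_add, Matrix.mul_add, hsJ, hsJ,
        Matrix.single_mul_single_of_ne (h := (hlh a).symm),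
        Matrix.single_mul_single_of_ne (h := hne),
        Matrix.single_mul_single_of_ne (h := (fun e => hne (Fin.rev_inj.1 e).symm)),
        Matrix.single_mul_single_of_ne (h := (hlh b)), Fin.rev_rev,
        add_zero, add_zero, add_zero, add_zero]
      have key : ∀ J A B : Matrix (Fin n) (Fin n) F, J + A + B + B + A = J := fun J A B => by
        rw [show J + A + B + B + A = J + (A + A) + (B + B) by abel, h2, h2, add_zero, add_zero]
      exact key _ _ _
  obtain ⟨r, hr⟩ := exists_hι (φ := φ)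
    (g := Matrix.GeneralLinearGroup.mkOfDetNeZero R
      (by rw [det_of_isUT hUT]; exact one_ne_zero)) hg (det_of_isUT hUT)
  refine ⟨r, mem_hU.2 ⟨?_, ?_⟩, ?_⟩ <;> rw [hr]
  · exact upper_iff.2 fun i j hij => hUT.2 i j hij
  · exact hUT.1
  · show R a b = 1
    rw [hR, Matrix.add_apply, Matrix.add_apply, Matrix.one_apply_ne (ne_of_lt hab),
      Matrix.single_apply_same]
    split_ifs with h
    · simp
    · rw [Matrix.single_apply, if_neg (fun e => h (by rw [← e.2])), add_zero, zero_add]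

theorem normalizer_upper_hU (hφ : IsUSigma q φ) (hn : Even n)
    {g : ↥(hSU φ (Fin.revPerm : Equiv.Perm (Fin n)))} (hg : ∀ x ∈ hU n φ, g * x * g⁻¹ ∈ hU n φ) :
    hι φ g ∈ upperTriangularGL n F := by
  obtain ⟨σ, b, c, -, hbG, hb, hcG, hc, he⟩ := bruhat_unitary hφ hn (hι_mem g)
  by_cases hσ : σ = 1
  · rw [he, hσ, map_one, mul_one]; exact mul_mem hb hc
  exfalso
  obtain ⟨x, y, hxy, hlt⟩ := exists_descent hσ
  obtain ⟨r, hr, hr1⟩ := exists_root (φ := φ) hn (show x < y by show (x : ℕ) < y; omega)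
  obtain ⟨hru, hrd⟩ := mem_hU.1 hr
  obtain ⟨w, hw⟩ : ∃ w, hι φ w = c⁻¹ * hι φ r * c := by
    refine exists_hι (mul_mem (mul_mem (inv_mem hcG) (hι_mem r)) hcG) ?_
    rw [Units.val_mul, Units.val_mul, Matrix.det_mul, Matrix.det_mul, mul_right_comm,
      ← Matrix.det_mul, ← Units.val_mul, inv_mul_cancel, Units.val_one, Matrix.det_one, one_mul]
    exact r.1.2
  have hwU : w ∈ hU n φ := by
    rw [mem_hU, hw]
    refine ⟨mul_mem (mul_mem (inv_mem hc) hru) hc, fun i => ?_⟩
    have := diag_conj (inv_mem hc) hru i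
    rw [inv_inv] at this
    rw [this, hrd]
  obtain ⟨hzu, -⟩ := mem_hU.1 (hg w hwU)
  have hup : permGLn σ * hι φ r * (permGLn σ)⁻¹ ∈ upperTriangularGL n F := by
    have : permGLn σ * hι φ r * (permGLn σ)⁻¹ = b⁻¹ * hι φ (g * w * g⁻¹) * b := by
      rw [map_mul, map_mul, map_inv, hw, he]; group
    rw [this]
    exact mul_mem (mul_mem (inv_mem hb) hzu) hb
  have h1 := upper_iff.1 hup (σ x) (σ y) hlt
  have h2 := conj_permGLn_apply
    (permGLn σ * hι φ r * (permGLn σ)⁻¹ : GL (Fin n) F).1 σ x y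
  rw [← Units.val_mul, ← Units.val_mul, h1,
    show (permGLn σ)⁻¹ * (permGLn σ * hι φ r * (permGLn σ)⁻¹) * permGLn σ = hι φ r by group,
    hr1] at h2
  exact one_ne_zero h2

theorem exists_diag (hn : Even n) {g : ↥(hSU φ (Fin.revPerm : Equiv.Perm (Fin n)))}
    (hg : hι φ g ∈ upperTriangularGL n F) :
    ∃ t, (hι φ t).1 = Matrix.diagonal (fun i => (hι φ g).1 i i) ∧ g * t⁻¹ ∈ hU n φ := by
  classical
  obtain ⟨d, hd⟩ : ∃ d : Fin n → F, d = fun i => (hι φ g).1 i i := ⟨_, rfl⟩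
  have hprod : ∀ i, d i * φ (d i.rev) = 1 := by
    intro i
    have h : gram φ (hι φ g).1 i i.rev = gram φ 1 i i.rev :=
      congrFun (congrFun (hι_mem g) i) i.rev
    rw [gram_one_apply, if_pos rfl, gram_apply,
      Finset.sum_eq_single i (fun k _ hk => ?_) (by simp)] at h
    · rw [hd]; exact h
    rcases lt_or_gt_of_ne hk with h1 | h1
    · rw [upper_iff.1 hg k.rev i.rev (Fin.rev_lt_rev.2 h1), map_zero, mul_zero]
    · rw [upper_iff.1 hg k i h1, zero_mul]
  have hdet : (Matrix.diagonal d).det = 1 := by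
    rw [Matrix.det_diagonal, hd, ← Matrix.det_of_upperTriangular (fun i j hij => upper_iff.1 hg i j hij)]
    exact g.1.2
  obtain ⟨t, ht⟩ := exists_hι (φ := φ)
    (g := Matrix.GeneralLinearGroup.mkOfDetNeZero (Matrix.diagonal d)
      (by rw [hdet]; exact one_ne_zero)) (by
      show gram φ (Matrix.diagonal d) = gram φ 1
      ext i j
      rw [gram_one_apply, gram_apply, Finset.sum_eq_single i
        (fun k _ hk => by rw [Matrix.diagonal_apply_ne _ hk, zero_mul]) (by simp),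
        Matrix.diagonal_apply_eq]
      rcases eq_or_ne i.rev j with h | h
      · subst h; rw [Matrix.diagonal_apply_eq, if_pos rfl, hprod]
      · rw [Matrix.diagonal_apply_ne _ h, map_zero, mul_zero, if_neg h]) hdet
  have ht' : (hι φ t).1 = Matrix.diagonal d := by rw [ht]; rfl
  have htu : hι φ t ∈ upperTriangularGL n F :=
    upper_iff.2 fun i j hij => by rw [ht', Matrix.diagonal_apply_ne _ (ne_of_gt hij)]
  refine ⟨t, by rw [ht', hd], mem_hU.2 ?_⟩
  rw [map_mul, map_inv]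
  refine ⟨mul_mem hg (inv_mem htu), fun i => ?_⟩
  have h1 := diag_mul (mul_mem hg (inv_mem htu)) htu i
  rw [inv_mul_cancel_right, ht', Matrix.diagonal_apply_eq, hd] at h1
  exact (mul_right_cancel₀ (upper_diag_ne_zero hg i) (by rw [one_mul]; exact h1.symm))

open Cfsg.Agent.Perm.Pronormal in
/-- The normaliser of the unitriangular group normalises all its overgroups. -/
theorem normalizer_le_hU (hφ : IsUSigma q φ) (hn : Even n)
    (T : Sylow 2 ↥(hSU φ (Fin.revPerm : Equiv.Perm (Fin n))))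
    (hT : (T : Subgroup ↥(hSU φ (Fin.revPerm : Equiv.Perm (Fin n)))) = hU n φ)
    {K : Subgroup ↥(hSU φ (Fin.revPerm : Equiv.Perm (Fin n)))} (hK : hU n φ ≤ K) :
    Subgroup.normalizer (hU n φ : Set ↥(hSU φ (Fin.revPerm : Equiv.Perm (Fin n)))) ≤
      Subgroup.normalizer (K : Set ↥(hSU φ (Fin.revPerm : Equiv.Perm (Fin n)))) := by
  haveI : Fact (Nat.Prime 2) := ⟨Nat.prime_two⟩
  intro g hg
  have hgu := normalizer_upper_hU hφ hn fun x hx => (Subgroup.mem_normalizer_iff.1 hg x).1 hx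
  obtain ⟨t, ht, hgt⟩ := exists_diag hn hgu
  have htu : hι φ t ∈ upperTriangularGL n F :=
    upper_iff.2 fun i j hij => by rw [ht, Matrix.diagonal_apply_ne _ (ne_of_gt hij)]
  let K₀ := Subgroup.closure {z | ∃ k ∈ K, ∃ u ∈ hU n φ, z = k * u * k⁻¹}
  have hK₀ : K₀ ≤ K := (Subgroup.closure_le _).2 (by
    rintro _ ⟨k, hk, u, hu, rfl⟩
    exact mul_mem (mul_mem hk (hK hu)) (inv_mem hk))
  have hUK₀ : hU n φ ≤ K₀ := fun u hu =>
    Subgroup.subset_closure ⟨1, one_mem _, u, hu, by group⟩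
  have ht₀ : ∀ z ∈ K₀, t * z * t⁻¹ ∈ K₀ := by
    suffices h : K₀ ≤ K₀.comap (MulAut.conj t).toMonoidHom from fun z hz => h hz
    refine (Subgroup.closure_le _).2 ?_
    rintro _ ⟨k, hk, u, hu, rfl⟩
    show t * (k * u * k⁻¹) * t⁻¹ ∈ K₀
    obtain ⟨σ, b, c, hσ, hbG, hb, hcG, hc, he⟩ := bruhat_unitary hφ hn (hι_mem k)
    obtain ⟨y, hy⟩ : ∃ y, hι φ y = hι φ t * b * (hι φ t)⁻¹ * b⁻¹ := by
      refine exists_hι (mul_mem (mul_mem (mul_mem (hι_mem t) hbG) (inv_mem (hι_mem t)))
        (inv_mem hbG)) ?_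
      simp only [Units.val_mul, Matrix.det_mul]
      rw [mul_right_comm _ b.1.det, ← Matrix.det_mul, ← Units.val_mul, mul_inv_cancel,
        Units.val_one, Matrix.det_one, one_mul, ← Matrix.det_mul, ← Units.val_mul, mul_inv_cancel,
        Units.val_one, Matrix.det_one]
    have hyU : y ∈ hU n φ := by
      rw [mem_hU, hy]
      refine ⟨mul_mem (mul_mem (mul_mem htu hb) (inv_mem htu)) (inv_mem hb), fun i => ?_⟩
      rw [diag_mul (mul_mem (mul_mem htu hb) (inv_mem htu)) (inv_mem hb), diag_conj htu hb,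
        ← diag_mul hb (inv_mem hb), mul_inv_cancel, Units.val_one, Matrix.one_apply_eq]
    have hx : hι φ (k⁻¹ * y⁻¹ * t * k) = c⁻¹ * ((permGLn σ)⁻¹ * hι φ t * permGLn σ) * c := by
      rw [map_mul, map_mul, map_mul, map_inv, map_inv, hy, he]; group
    have hxu : hι φ (k⁻¹ * y⁻¹ * t * k) ∈ upperTriangularGL n F := by
      rw [hx]
      refine mul_mem (mul_mem (inv_mem hc) (upper_iff.2 fun i j hij => ?_)) hc
      rw [Units.val_mul, Units.val_mul, conj_permGLn_apply, ht,
        Matrix.diagonal_apply_ne _ (σ.injective.ne (ne_of_gt hij))]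
    have : t * (k * u * k⁻¹) * t⁻¹ =
        y * (k * ((k⁻¹ * y⁻¹ * t * k) * u * (k⁻¹ * y⁻¹ * t * k)⁻¹) * k⁻¹) * y⁻¹ := by group
    rw [this]
    exact mul_mem (mul_mem (hUK₀ hyU) (Subgroup.subset_closure ⟨k, hk, _, conj_hU hxu hu, rfl⟩))
      (inv_mem (hUK₀ hyU))
  have htK : ∀ k ∈ K, t * k * t⁻¹ ∈ K := by
    intro k hk
    obtain ⟨j, hj, hje⟩ := sylow_conj_in (p := 2) (hU n φ) (A := ⊤) (K := K₀) hUK₀ le_top
      (hT ▸ T.2) (by rw [Subgroup.relIndex_top_right, ← hT]; exact T.not_dvd_index)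
      (g := k) (by
        rintro _ ⟨u, hu, rfl⟩
        exact Subgroup.subset_closure ⟨k, hk, u, hu, rfl⟩)
    have hn1 : j⁻¹ * k ∈ Subgroup.normalizer (hU n φ : Set _) :=
      cj_eq_self_iff.1 (by rw [← cj_cj, hje, cj_cj, inv_mul_cancel, cj_one])
    have hu1 := normalizer_upper_hU hφ hn fun x hx =>
      (Subgroup.mem_normalizer_iff.1 hn1 x).1 hx
    have hcomm : t * (j⁻¹ * k) * t⁻¹ * (j⁻¹ * k)⁻¹ ∈ hU n φ := by
      rw [mem_hU, map_mul, map_mul, map_mul, map_inv, map_inv]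
      refine ⟨mul_mem (mul_mem (mul_mem htu hu1) (inv_mem htu)) (inv_mem hu1), fun i => ?_⟩
      rw [diag_mul (mul_mem (mul_mem htu hu1) (inv_mem htu)) (inv_mem hu1), diag_conj htu hu1,
        ← diag_mul hu1 (inv_mem hu1), mul_inv_cancel, Units.val_one, Matrix.one_apply_eq]
    have : t * k * t⁻¹ = (t * j * t⁻¹) * (t * (j⁻¹ * k) * t⁻¹ * (j⁻¹ * k)⁻¹) * (j⁻¹ * k) := by
      group
    rw [this]
    exact mul_mem (mul_mem (hK₀ (ht₀ j hj)) (hK hcomm)) (mul_mem (inv_mem (hK₀ hj)) hk)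
  rw [← cj_eq_self_iff]
  refine Subgroup.eq_of_le_of_card_ge ?_
    (le_of_eq (Subgroup.card_map_of_injective (MulAut.conj g).injective).symm)
  rintro _ ⟨k, hk, rfl⟩
  show g * k * g⁻¹ ∈ K
  rw [show g * k * g⁻¹ = (g * t⁻¹) * (t * k * t⁻¹) * (g * t⁻¹)⁻¹ by group]
  exact mul_mem (mul_mem (hK hgt) (htK k hk)) (inv_mem (hK hgt))

/-- The unitriangular group is a Sylow 2-subgroup. -/
theorem exists_sylow_hU (hφ : IsUSigma q φ) (hn : Even n) :
    ∃ T : Sylow 2 ↥(hSU φ (Fin.revPerm : Equiv.Perm (Fin n))),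
      (T : Subgroup ↥(hSU φ (Fin.revPerm : Equiv.Perm (Fin n)))) = hU n φ := by
  haveI : Fact (Nat.Prime 2) := ⟨Nat.prime_two⟩
  obtain ⟨f, -, hf⟩ := FiniteField.card F 2
  have hpg : IsPGroup 2 (hU n φ) :=
    (IsPGroup.of_card (n := f * n.choose 2) (by rw [card_UTg, hf, ← pow_mul]) :
      IsPGroup 2 (UTg n F)).comap_of_injective _ Subtype.val_injective
  obtain ⟨T, hTle⟩ := hpg.exists_le_sylow
  refine ⟨T, le_antisymm ?_ hTle⟩
  haveI : Group.IsNilpotent ↥(T : Subgroup ↥(hSU φ (Fin.revPerm : Equiv.Perm (Fin n)))) :=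
    T.2.isNilpotent
  by_contra hne
  have hlt : (hU n φ).subgroupOf (T : Subgroup _) < ⊤ :=
    lt_top_iff_ne_top.2 fun he => hne (Subgroup.subgroupOf_eq_top.1 he)
  obtain ⟨x, hx, hxn⟩ := SetLike.exists_of_lt
    (normalizerCondition_of_isNilpotent ((hU n φ).subgroupOf (T : Subgroup _)) hlt)
  refine hxn ?_
  have hup : hι φ x.1 ∈ upperTriangularGL n F := normalizer_upper_hU hφ hn fun y hy =>
    (Subgroup.mem_normalizer_iff.1 hx ⟨y, hTle hy⟩).1 (Subgroup.mem_subgroupOf.2 hy)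
  refine Subgroup.mem_subgroupOf.2 (mem_hU.2 ⟨hup, fun i => ?_⟩)
  obtain ⟨k, hk⟩ := T.2 x
  have hpow : ∀ m, (hι φ x.1 ^ m).1 i i = (hι φ x.1).1 i i ^ m := by
    intro m
    induction m with
    | zero => rw [pow_zero, pow_zero, Units.val_one, Matrix.one_apply_eq]
    | succ m ih => rw [pow_succ, diag_mul (pow_mem hup m) hup, ih, pow_succ]
  have h1 := hpow (2 ^ k)
  rw [← map_pow, show x.1 ^ (2 ^ k) = 1 from congrArg Subtype.val hk, map_one, Units.val_one,
    Matrix.one_apply_eq, ← iterateFrobenius_def] at h1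
  exact iterateFrobenius_inj F 2 k (h1.symm.trans (map_one _).symm)

end Cfsg.Agent.Classical.OddPronormal
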